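import Mathlib
import Cfsg.Agent.S0031

/-!
# Fixed-point-free endomorphisms of prime order: basic reductions

Restriction to invariant subgroups, induced maps on quotients, invariant Sylow subgroups,
and the norm lemma used in Thompson's theorem on fixed-point-free automorphisms of prime order.
-/

set_option autoImplicit false

namespace Cfsg.Agent.Lib.Helper91

open MonoidHom

section Basic

variable {G : Type*} [Group G]

/-- Restriction of an endomorphism to an invariant subgroup. -/
def resHom (φ : G →* G) (H : Subgroup G) (hH : ∀ x ∈ H, φ x ∈ H) : H →* H :=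
  (φ.comp H.subtype).codRestrict H (fun x => hH x x.2)

theorem resHom_coe (φ : G →* G) (H : Subgroup G) (hH : ∀ x ∈ H, φ x ∈ H) (x : H) :
    (resHom φ H hH x : G) = φ x := rfl

theorem resHom_iterate_coe (φ : G →* G) (H : Subgroup G) (hH : ∀ x ∈ H, φ x ∈ H) (n : ℕ)
    (x : H) : (((resHom φ H hH)^[n] x : H) : G) = φ^[n] x := by
  induction n generalizing x with
  | zero => rfl
  | succ n ih => rw [Function.iterate_succ_apply, ih, Function.iterate_succ_apply]; rfl

theorem resHom_fpf {φ : G →* G} (hφ : FixedPointFree φ) (H : Subgroup G)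
    (hH : ∀ x ∈ H, φ x ∈ H) : FixedPointFree (resHom φ H hH) := by
  intro x hx
  exact Subtype.ext (hφ x (congrArg Subtype.val hx))

theorem resHom_iterate_eq_id {φ : G →* G} {p : ℕ} (hp : φ^[p] = _root_.id) (H : Subgroup G)
    (hH : ∀ x ∈ H, φ x ∈ H) : (resHom φ H hH)^[p] = _root_.id := by
  funext x
  apply Subtype.ext
  rw [resHom_iterate_coe, hp]
  rfl

/-- The endomorphism induced on the quotient by an invariant normal subgroup. -/
def quotHom (φ : G →* G) (N : Subgroup G) [N.Normal] (hN : ∀ x ∈ N, φ x ∈ N) :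
    G ⧸ N →* G ⧸ N :=
  QuotientGroup.map N N φ (fun x hx => hN x hx)

theorem quotHom_mk (φ : G →* G) (N : Subgroup G) [N.Normal] (hN : ∀ x ∈ N, φ x ∈ N) (x : G) :
    quotHom φ N hN (x : G ⧸ N) = ((φ x : G) : G ⧸ N) := rfl

theorem quotHom_iterate_mk (φ : G →* G) (N : Subgroup G) [N.Normal] (hN : ∀ x ∈ N, φ x ∈ N)
    (n : ℕ) (x : G) : (quotHom φ N hN)^[n] (x : G ⧸ N) = ((φ^[n] x : G) : G ⧸ N) := by
  induction n generalizing x with
  | zero => rfl
  | succ n ih => rw [Function.iterate_succ_apply, quotHom_mk, ih, Function.iterate_succ_apply]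

theorem quotHom_iterate_eq_id {φ : G →* G} {p : ℕ} (hp : φ^[p] = _root_.id) (N : Subgroup G)
    [N.Normal] (hN : ∀ x ∈ N, φ x ∈ N) : (quotHom φ N hN)^[p] = _root_.id := by
  funext q
  obtain ⟨x, rfl⟩ := QuotientGroup.mk_surjective q
  rw [quotHom_iterate_mk, hp]
  rfl

theorem quotHom_fpf [Finite G] {φ : G →* G} (hφ : FixedPointFree φ) (N : Subgroup G)
    [hNn : N.Normal] (hN : ∀ x ∈ N, φ x ∈ N) : FixedPointFree (quotHom φ N hN) := by
  intro q hq
  obtain ⟨x, rfl⟩ := QuotientGroup.mk_surjective q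
  rw [quotHom_mk, QuotientGroup.eq] at hq
  have h1 : x / φ x ∈ N := by
    have h2 := hNn.conj_mem _ hq x
    have h3 : x * ((φ x)⁻¹ * x) * x⁻¹ = x / φ x := by rw [div_eq_mul_inv]; group
    rwa [h3] at h2
  obtain ⟨n, hn⟩ := (resHom_fpf hφ N hN).commutatorMap_surjective ⟨x / φ x, h1⟩
  have h4 : commutatorMap φ (n : G) = commutatorMap φ x := by
    have := congrArg Subtype.val hn
    exact this
  have h5 : (n : G) = x := hφ.commutatorMap_injective h4
  rw [← h5]
  exact (QuotientGroup.eq_one_iff _).mpr n.2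

theorem injective_of_iterate_eq_id {φ : G →* G} {p : ℕ} (hp : φ^[p] = _root_.id) (hp0 : 0 < p) :
    Function.Injective φ := by
  have h : Function.Injective φ^[p] := by rw [hp]; exact Function.injective_id
  obtain ⟨k, rfl⟩ : ∃ k, p = k + 1 := ⟨p - 1, by omega⟩
  rw [Function.iterate_succ] at h
  exact Function.Injective.of_comp h

theorem mem_of_map_mem [Finite G] {φ : G →* G} (hinj : Function.Injective φ) (H : Subgroup G)
    (hH : ∀ x ∈ H, φ x ∈ H) {x : G} (hx : φ x ∈ H) : x ∈ H := by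
  have h1 : Function.Injective (resHom φ H hH) := by
    intro a b hab
    exact Subtype.ext (hinj (congrArg Subtype.val hab))
  obtain ⟨y, hy⟩ := (Finite.injective_iff_surjective.mp h1) ⟨φ x, hx⟩
  have h2 : φ (y : G) = φ x := congrArg Subtype.val hy
  rw [← hinj h2]
  exact y.2

theorem map_eq_of_invariant [Finite G] {φ : G →* G} (hinj : Function.Injective φ)
    (H : Subgroup G) (hH : ∀ x ∈ H, φ x ∈ H) : H.map φ = H := by
  apply le_antisymm
  · rintro _ ⟨x, hx, rfl⟩
    exact hH x hx
  · intro x hx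
    have h1 : Function.Injective (resHom φ H hH) := by
      intro a b hab
      exact Subtype.ext (hinj (congrArg Subtype.val hab))
    obtain ⟨y, hy⟩ := (Finite.injective_iff_surjective.mp h1) ⟨x, hx⟩
    exact ⟨y, y.2, congrArg Subtype.val hy⟩

theorem normalizer_invariant [Finite G] {φ : G →* G} (hinj : Function.Injective φ)
    (H : Subgroup G) (hH : ∀ x ∈ H, φ x ∈ H) :
    ∀ x ∈ Subgroup.normalizer (H : Set G), φ x ∈ Subgroup.normalizer (H : Set G) := by
  intro x hx
  rw [Subgroup.mem_normalizer_iff] at hx ⊢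
  have hmap := map_eq_of_invariant hinj H hH
  intro h
  constructor
  · intro hh
    rw [← hmap] at hh
    obtain ⟨y, hy, rfl⟩ := hh
    have := hH _ ((hx y).mp hy)
    simpa using this
  · intro hh
    have h1 : φ x * h * (φ x)⁻¹ ∈ H.map φ := by rw [hmap]; exact hh
    obtain ⟨y, hy, hy'⟩ := h1
    have h2 : x⁻¹ * y * x⁻¹⁻¹ ∈ H := by
      have hx' : x⁻¹ ∈ Subgroup.normalizer (H : Set G) :=
        (Subgroup.normalizer (H : Set G)).inv_mem (Subgroup.mem_normalizer_iff.mpr hx)
      exact (Subgroup.mem_normalizer_iff.mp hx' y).mp hy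
    have h3 := hH _ h2
    have h4 : φ (x⁻¹ * y * x⁻¹⁻¹) = h := by
      rw [map_mul, map_mul, hy', map_inv, map_inv, map_inv, inv_inv]
      group
    rwa [h4] at h3

theorem centralizer_invariant [Finite G] {φ : G →* G} (hinj : Function.Injective φ)
    (H : Subgroup G) (hH : ∀ x ∈ H, φ x ∈ H) :
    ∀ x ∈ Subgroup.centralizer (H : Set G), φ x ∈ Subgroup.centralizer (H : Set G) := by
  intro x hx
  rw [Subgroup.mem_centralizer_iff] at hx ⊢
  have hmap := map_eq_of_invariant hinj H hH
  intro h hh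
  have hh' : h ∈ H.map φ := by rw [hmap]; exact hh
  obtain ⟨y, hy, rfl⟩ := hh'
  rw [← map_mul, ← map_mul, hx y hy]

/-- A fixed-point-free bijective endomorphism leaves some Sylow subgroup invariant. -/
theorem exists_invariant_sylow [Finite G] {φ : G →* G} (hφ : FixedPointFree φ)
    (hinj : Function.Injective φ) (r : ℕ) [Fact r.Prime] :
    ∃ P : Sylow r G, ∀ x ∈ (P : Subgroup G), φ x ∈ (P : Subgroup G) := by
  have hbij : Function.Bijective φ := ⟨hinj, Finite.injective_iff_surjective.mp hinj⟩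
  obtain ⟨P, hP⟩ := Cfsg.Agent.S0031.result (MulEquiv.ofBijective φ hbij) hφ r
  refine ⟨P, fun x hx => ?_⟩
  rw [← hP]
  exact ⟨x, hx, rfl⟩

theorem fpf_iterate {φ : G →* G} (hφ : FixedPointFree φ) {p : ℕ} (hp : p.Prime)
    (hφp : φ^[p] = _root_.id) {i : ℕ} (hi : 0 < i) (hip : i < p) (x : G) (hx : φ^[i] x = x) :
    x = 1 := by
  apply hφ
  have h1 : Function.IsPeriodicPt φ i x := hx
  have h2 : Function.IsPeriodicPt φ p x := by
    change φ^[p] x = x
    rw [hφp]; rfl
  have h3 := h1.gcd h2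
  have h4 : Nat.gcd i p = 1 := by
    rw [Nat.gcd_comm]
    exact (Nat.Prime.coprime_iff_not_dvd hp).mpr (Nat.not_dvd_of_pos_of_lt hi hip)
  rw [h4] at h3
  exact h3

end Basic

section Norm

theorem list_prod_range_eq_finset {M : Type*} [CommMonoid M] (f : ℕ → M) (n : ℕ) :
    ((List.range n).map f).prod = ∏ i ∈ Finset.range n, f i := by
  induction n with
  | zero => simp
  | succ n ih => rw [List.prod_range_succ, Finset.prod_range_succ, ih]

/-- The norm lemma, abstract form. -/
theorem norm_lemma {V Q : Type*} [CommGroup V] [Group Q] [Finite Q] (cj : Q →* MulAut V)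
    (φV : V →* V) (φQ : Q →* Q) (p : ℕ) (hp : 0 < p)
    (hcompat : ∀ y v, φV (cj y v) = cj (φQ y) (φV v))
    (hfix : ∀ i, 0 < i → i < p → ∀ x, φQ^[i] x = x → x = 1)
    (hprod : ∀ u : V, ∏ i ∈ Finset.range p, φV^[i] u = 1)
    (hC : ∀ v : V, (∀ y, cj y v = v) → v = 1) (v : V) : v ^ Nat.card Q = 1 := by
  classical
  have := Fintype.ofFinite Q
  have hT : ∀ w : V, ∏ y : Q, cj y w = 1 := by
    intro w
    apply hC
    intro z
    rw [map_prod]
    exact Fintype.prod_equiv (Equiv.mulLeft z) _ _ (fun y => by simp [map_mul])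
  have hcompat' : ∀ i y v, φV^[i] (cj y v) = cj (φQ^[i] y) (φV^[i] v) := by
    intro i
    induction i with
    | zero => intro y v; rfl
    | succ n ih =>
      intro y v
      rw [Function.iterate_succ_apply', ih, hcompat, ← Function.iterate_succ_apply' φQ,
        ← Function.iterate_succ_apply' φV]
  have hbij : ∀ i, 0 < i → i < p → Function.Bijective (fun x : Q => x⁻¹ * φQ^[i] x) := by
    intro i hi hip
    rw [← Finite.injective_iff_bijective]
    intro x z hxz
    have hxz' : x⁻¹ * φQ^[i] x = z⁻¹ * φQ^[i] z := hxz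
    have h1 : φQ^[i] (z * x⁻¹) = z * x⁻¹ := by
      rw [iterate_map_mul, iterate_map_inv]
      have h2 : φQ^[i] x = x * (z⁻¹ * φQ^[i] z) := by rw [← hxz']; group
      rw [h2]; group
    have h3 := hfix i hi hip _ h1
    have h4 : z = x := by rw [mul_inv_eq_one] at h3; exact h3
    exact h4.symm
  have key : ∀ i, 0 < i → i < p → ∏ x : Q, cj x⁻¹ (φV^[i] (cj x v)) = 1 := by
    intro i hi hip
    rw [← hT (φV^[i] v)]
    refine Fintype.prod_equiv (Equiv.ofBijective _ (hbij i hi hip)) _ _ (fun x => ?_)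
    rw [hcompat', Equiv.ofBijective_apply, map_mul]
    rfl
  have h2 : ∏ i ∈ Finset.Ico 1 p, ∏ x : Q, cj x⁻¹ (φV^[i] (cj x v)) = 1 :=
    Finset.prod_eq_one (fun i hi => by
      rw [Finset.mem_Ico] at hi
      exact key i (by omega) hi.2)
  rw [Finset.prod_comm] at h2
  have h3 : ∀ x : Q, ∏ i ∈ Finset.Ico 1 p, cj x⁻¹ (φV^[i] (cj x v)) = v⁻¹ := by
    intro x
    rw [← map_prod]
    have h4 : ∏ i ∈ Finset.Ico 1 p, φV^[i] (cj x v) = (cj x v)⁻¹ := by
      have h5 := hprod (cj x v)
      rw [Finset.range_eq_Ico, Finset.prod_eq_prod_Ico_succ_bot hp] at h5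
      exact eq_inv_of_mul_eq_one_right h5
    rw [h4, map_inv, ← MulAut.mul_apply, ← map_mul, inv_mul_cancel, map_one]
    rfl
  rw [Finset.prod_congr rfl (fun x _ => h3 x)] at h2
  rw [Finset.prod_const, Finset.card_univ, ← Nat.card_eq_fintype_card, inv_pow, inv_eq_one] at h2
  exact h2

/-- The norm lemma for a fixed-point-free endomorphism of prime order: if `N` is an invariant
abelian normal subgroup, `P` an invariant subgroup and `C_N(P) = 1`, then every element of `N`
has order dividing `|P|`. -/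
theorem norm_lemma_subgroup {G : Type*} [Group G] [Finite G] {φ : G →* G}
    (hφ : FixedPointFree φ) {p : ℕ} (hp : p.Prime) (hφp : φ^[p] = _root_.id)
    (N P : Subgroup G) [hNn : N.Normal] (hNab : ∀ a ∈ N, ∀ b ∈ N, a * b = b * a)
    (hNφ : ∀ x ∈ N, φ x ∈ N) (hPφ : ∀ x ∈ P, φ x ∈ P)
    (hC : ∀ v ∈ N, (∀ y ∈ P, y * v = v * y) → v = 1) :
    ∀ v ∈ N, v ^ Nat.card P = 1 := by
  intro v hv
  let _ : CommGroup N :=
    { (inferInstance : Group N) with mul_comm := fun a b => Subtype.ext (hNab a a.2 b b.2) }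
  have key := norm_lemma (V := N) (Q := P) ((MulAut.conjNormal (H := N)).comp P.subtype)
    (resHom φ N hNφ) (resHom φ P hPφ) p hp.pos ?_ ?_ ?_ ?_ ⟨v, hv⟩
  · have := congrArg Subtype.val key
    exact this
  · intro y w
    apply Subtype.ext
    change φ (y * w * (y : G)⁻¹) = φ y * φ w * (φ y)⁻¹
    rw [map_mul, map_mul, map_inv]
  · intro i hi hip x hx
    apply Subtype.ext
    have hx' := congrArg Subtype.val hx
    rw [resHom_iterate_coe] at hx'
    exact fpf_iterate hφ hp hφp hi hip _ hx'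
  · intro u
    have h1 := (resHom_fpf hφ N hNφ).prod_pow_eq_one (resHom_iterate_eq_id hφp N hNφ) u
    rw [← list_prod_range_eq_finset]
    exact h1
  · intro w hw
    apply Subtype.ext
    apply hC w w.2
    intro y hy
    have h1 := congrArg Subtype.val (hw ⟨y, hy⟩)
    have h2 : y * (w : G) * y⁻¹ = w := h1
    calc y * (w : G) = (y * (w : G) * y⁻¹) * y := by group
      _ = w * y := by rw [h2]

end Norm

end Cfsg.Agent.Lib.Helper91
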