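import Mathlib
import Cfsg.Prelude.Def_Transfer
import Cfsg.Agent.Lib.Helper91.ThompsonFpf
import Cfsg.Agent.Lib.Helper54.Frobenius
import Cfsg.Agent.Lib.Helper11.ThompsonOf
import Cfsg.Agent.Lib.Helper10.ElemAb

/-!
# Thompson's theorem on fixed-point-free automorphisms of prime order

Conditional on Thompson's normal `p`-complement theorem (the hypothesis `ThompsonHyp`).
-/

set_option autoImplicit false

namespace Cfsg.Agent.Lib.Helper91

open MonoidHom

open scoped commutatorElement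

universe u

/-- The statement of Thompson's normal `p`-complement theorem (one direction), for all finite
groups in a fixed universe. -/
def ThompsonHyp : Prop :=
  ∀ (H : Type u) [Group H] [Finite H] (r : ℕ) [Fact r.Prime], r ≠ 2 → ∀ P : Sylow r H,
    Cfsg.HasNormalPComplement r
      ↥(Subgroup.normalizer (Cfsg.thompsonSubgroupOf r (P : Subgroup H) : Set H)) →
    Cfsg.HasNormalPComplement r
      ↥(Subgroup.centralizer (((P : Subgroup H) ⊓ Subgroup.centralizer (P : Set H)) : Set H)) →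
    Cfsg.HasNormalPComplement r H

theorem exists_normal_complement_of_nilpotent_aux (r : ℕ) [Fact r.Prime] :
    ∀ (n : ℕ) (G : Type u) [Group G] [Finite G], Nat.card G = n → Group.IsNilpotent G →
      ∃ K : Subgroup G, K.Normal ∧ (Nat.card K).Coprime r ∧ ∃ k, K.index = r ^ k := by
  intro n
  induction n using Nat.strong_induction_on with
  | _ n ih =>
  intro G _ _ hn hnil
  by_cases h : ∃ q : ℕ, q.Prime ∧ q ≠ r ∧ q ∣ Nat.card G
  · obtain ⟨q, hq, hqr, hqdvd⟩ := h
    have : Fact q.Prime := ⟨hq⟩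
    obtain ⟨Q⟩ : Nonempty (Sylow q G) := inferInstance
    have hQn : (Q : Subgroup G).Normal := inferInstance
    have hQbot : (Q : Subgroup G) ≠ ⊥ := Q.ne_bot_of_dvd_card hqdvd
    have hcard : Nat.card G = Nat.card (G ⧸ (Q : Subgroup G)) * Nat.card (Q : Subgroup G) :=
      Subgroup.card_eq_card_quotient_mul_card_subgroup _
    have hlt : Nat.card (G ⧸ (Q : Subgroup G)) < n := by
      rw [← hn, hcard]
      have h1 : 1 < Nat.card (Q : Subgroup G) := (Subgroup.one_lt_card_iff_ne_bot _).mpr hQbot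
      have h2 : 0 < Nat.card (G ⧸ (Q : Subgroup G)) := Nat.card_pos
      nlinarith
    obtain ⟨K, hKn, hKcop, k, hk⟩ := ih _ hlt (G ⧸ (Q : Subgroup G)) rfl inferInstance
    have hidx : (K.comap (QuotientGroup.mk' (Q : Subgroup G))).index = K.index :=
      Subgroup.index_comap_of_surjective K (QuotientGroup.mk'_surjective _)
    refine ⟨K.comap (QuotientGroup.mk' (Q : Subgroup G)), hKn.comap _, ?_, k, ?_⟩
    · have h1 := (K.comap (QuotientGroup.mk' (Q : Subgroup G))).card_mul_index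
      have h2 := K.card_mul_index
      rw [hidx] at h1
      have h3 : Nat.card (K.comap (QuotientGroup.mk' (Q : Subgroup G))) =
          Nat.card K * Nat.card (Q : Subgroup G) := by
        have hpos : 0 < K.index := Nat.pos_of_ne_zero (Subgroup.index_ne_zero_of_finite)
        apply Nat.eq_of_mul_eq_mul_right hpos
        rw [h1, hcard, ← h2]; ring
      rw [h3]
      apply Nat.Coprime.mul_left hKcop
      obtain ⟨m, hm⟩ := IsPGroup.iff_card.mp Q.2
      rw [hm]
      exact Nat.Coprime.pow_left m ((Nat.coprime_primes hq (Fact.out)).mpr hqr)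
    · rw [hidx]; exact hk
  · push Not at h
    refine ⟨⊥, inferInstance, by simp, (Nat.card G).primeFactorsList.length, ?_⟩
    rw [Subgroup.index_bot]
    exact Nat.eq_prime_pow_of_unique_prime_dvd Nat.card_pos.ne'
      (fun {d} hd hdvd => by by_contra hne; exact h d hd hne hdvd)

theorem hasNormalPComplement_of_nilpotent {G : Type u} [Group G] [Finite G] (r : ℕ)
    [Fact r.Prime] (h : Group.IsNilpotent G) : Cfsg.HasNormalPComplement r G := by
  obtain ⟨K, hKn, hc, hk⟩ := exists_normal_complement_of_nilpotent_aux r _ G rfl h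
  exact Helper54.hasNormalPComplement_iff.mpr ⟨K, hKn, hc, hk⟩

theorem thompsonSubgroupOf_ne_bot {G : Type u} [Group G] [Finite G] {s : ℕ} [Fact s.Prime]
    (S : Subgroup G) (hS : IsPGroup s S) (hne : S ≠ ⊥) : Cfsg.thompsonSubgroupOf s S ≠ ⊥ := by
  obtain ⟨A, hA⟩ := Helper11.maxElemAbIn_nonempty s S
  have hdvd : s ∣ Nat.card S := by
    obtain ⟨k, hk⟩ := IsPGroup.iff_card.mp hS
    have h1 : 1 < Nat.card S := (Subgroup.one_lt_card_iff_ne_bot _).mpr hne
    rw [hk] at h1 ⊢
    have : k ≠ 0 := by rintro rfl; simp at h1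
    exact dvd_pow_self s this
  obtain ⟨x, hx⟩ := exists_prime_orderOf_dvd_card' s hdvd
  have hx' : orderOf (x : G) = s := by rw [Subgroup.orderOf_coe]; exact hx
  have hB : Cfsg.IsElementaryAbelian s (Subgroup.zpowers (x : G)) :=
    Helper10.isElementaryAbelian_zpowers (by rw [← hx']; exact pow_orderOf_eq_one _)
  have hBle : Subgroup.zpowers (x : G) ≤ S := (Subgroup.zpowers_le).mpr x.2
  have hcard := hA.2.2 _ hBle hB
  rw [Nat.card_zpowers, hx'] at hcard
  intro hJ
  have hAle := Helper11.le_thompsonSubgroupOf hA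
  rw [hJ, le_bot_iff] at hAle
  rw [hAle, Subgroup.card_bot] at hcard
  have := (Fact.out : s.Prime).two_le
  omega

theorem inf_centralizer_ne_bot {G : Type*} [Group G] [Finite G] {s : ℕ} [Fact s.Prime]
    (S : Subgroup G) (hS : IsPGroup s S) (hne : S ≠ ⊥) :
    S ⊓ Subgroup.centralizer (S : Set G) ≠ ⊥ := by
  have : Nontrivial S := (Subgroup.nontrivial_iff_ne_bot S).mpr hne
  have := hS.center_nontrivial
  obtain ⟨z, hz⟩ := exists_ne (1 : Subgroup.center S)
  intro h
  have hmem : ((z : S) : G) ∈ S ⊓ Subgroup.centralizer (S : Set G) := by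
    refine Subgroup.mem_inf.mpr ⟨(z : S).2, ?_⟩
    rw [Subgroup.mem_centralizer_iff]
    intro y hy
    have := Subgroup.mem_center_iff.mp z.2 ⟨y, hy⟩
    exact congrArg Subtype.val this
  rw [h, Subgroup.mem_bot] at hmem
  apply hz
  exact Subtype.ext (Subtype.ext hmem)

theorem fpf_caseA {G : Type*} [Group G] [Finite G] {φ : G →* G} (hφ : FixedPointFree φ)
    {p : ℕ} (hp : p.Prime) (hφp : φ^[p] = _root_.id)
    (hsub : ∀ H : Subgroup G, (∀ x ∈ H, φ x ∈ H) → H ≠ ⊤ → Group.IsNilpotent H)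
    (hquot : ∀ (N : Subgroup G) [N.Normal], (∀ x ∈ N, φ x ∈ N) → N ≠ ⊥ →
      Group.IsNilpotent (G ⧸ N))
    (hA : ∃ N : Subgroup G, N.Normal ∧ (∀ x ∈ N, φ x ∈ N) ∧ N ≠ ⊥ ∧ N ≠ ⊤) :
    Group.IsNilpotent G := by
  classical
  have hinj := injective_of_iterate_eq_id hφp hp.pos
  -- a minimal invariant normal subgroup
  obtain ⟨N, ⟨hNn, hNφ, hNbot, hNtop⟩, hmin⟩ : ∃ N : Subgroup G,
      (N.Normal ∧ (∀ x ∈ N, φ x ∈ N) ∧ N ≠ ⊥ ∧ N ≠ ⊤) ∧
      ∀ M : Subgroup G, (M.Normal ∧ (∀ x ∈ M, φ x ∈ M) ∧ M ≠ ⊥ ∧ M ≠ ⊤) →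
        Nat.card N ≤ Nat.card M := by
    have hex : ∃ k, ∃ N : Subgroup G, (N.Normal ∧ (∀ x ∈ N, φ x ∈ N) ∧ N ≠ ⊥ ∧ N ≠ ⊤) ∧
        Nat.card N = k := by
      obtain ⟨N, hN⟩ := hA
      exact ⟨_, N, hN, rfl⟩
    obtain ⟨N, hN, hNk⟩ := Nat.find_spec hex
    refine ⟨N, hN, fun M hM => ?_⟩
    rw [hNk]
    exact Nat.find_min' hex ⟨M, hM, rfl⟩
  have hmin' : ∀ M : Subgroup G, M.Normal → (∀ x ∈ M, φ x ∈ M) → M ≤ N → M = ⊥ ∨ M = N := by
    intro M hMn hMφ hMN
    by_cases hM : M = ⊥
    · exact Or.inl hM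
    · right
      have hMtop : M ≠ ⊤ := fun h => hNtop (top_le_iff.mp (h ▸ hMN))
      exact Subgroup.eq_of_le_of_card_ge hMN (hmin M ⟨hMn, hMφ, hM, hMtop⟩)
  have hNnil : Group.IsNilpotent N := hsub N hNφ hNtop
  have hNmap : N.map φ ≤ N := by
    rintro _ ⟨y, hy, rfl⟩
    exact hNφ y hy
  -- `N` is abelian
  have hNab : ∀ a ∈ N, ∀ b ∈ N, a * b = b * a := by
    have hcφ : ∀ x ∈ ⁅N, N⁆, φ x ∈ ⁅N, N⁆ := by
      intro x hx
      have h1 : (⁅N, N⁆).map φ ≤ ⁅N, N⁆ := by
        rw [Subgroup.map_commutator]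
        exact Subgroup.commutator_mono hNmap hNmap
      exact h1 ⟨x, hx, rfl⟩
    have hcomm : ⁅N, N⁆ = ⊥ ∨ ⁅N, N⁆ = N :=
      hmin' ⁅N, N⁆ inferInstance hcφ (Subgroup.commutator_le_right N N)
    rcases hcomm with h | h
    · intro a ha b hb
      have h1 : ⁅a, b⁆ ∈ ⁅N, N⁆ := Subgroup.commutator_mem_commutator ha hb
      rw [h, Subgroup.mem_bot] at h1
      exact commutatorElement_eq_one_iff_mul_comm.mp h1
    · exfalso
      have : Nontrivial N := (Subgroup.nontrivial_iff_ne_bot N).mpr hNbot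
      have hlt := Group.IsSolvable.commutator_lt_top_of_nontrivial N
      have h1 : (_root_.commutator N).map N.subtype = ⁅N, N⁆ := Subgroup.map_subtype_commutator N
      have h2 : _root_.commutator N = ⊤ := by
        apply Subgroup.map_injective N.subtype_injective
        rw [h1, h, ← MonoidHom.range_eq_map, Subgroup.range_subtype]
      exact hlt.ne h2
  refine ((Group.isNilpotent_of_finite_tfae (G := G)).out 0 3).mpr ?_
  intro r hr P
  obtain ⟨P₀, hP₀⟩ := exists_invariant_sylow hφ hinj r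
  suffices h : (P₀ : Subgroup G).Normal by
    obtain ⟨g, rfl⟩ := MulAction.exists_smul_eq G P₀ P
    rw [Sylow.smul_eq_of_normal]
    exact h
  have hGN : Group.IsNilpotent (G ⧸ N) := hquot N hNφ hNbot
  have hMn : ((P₀ : Subgroup G) ⊔ N).Normal := by
    have hsurj : Function.Surjective (QuotientGroup.mk' N) := QuotientGroup.mk'_surjective N
    have h1 : ((P₀.mapSurjective hsurj : Sylow r (G ⧸ N)) : Subgroup (G ⧸ N)).Normal :=
      inferInstance
    have h2 := h1.comap (QuotientGroup.mk' N)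
    rw [Sylow.coe_mapSurjective, Subgroup.comap_map_eq, QuotientGroup.ker_mk'] at h2
    exact h2
  have hMφ : ∀ x ∈ (P₀ : Subgroup G) ⊔ N, φ x ∈ (P₀ : Subgroup G) ⊔ N := by
    intro x hx
    have h1 : ((P₀ : Subgroup G) ⊔ N).map φ ≤ (P₀ : Subgroup G) ⊔ N := by
      rw [Subgroup.map_sup]
      refine sup_le_sup ?_ hNmap
      rintro _ ⟨y, hy, rfl⟩
      exact hP₀ y hy
    exact h1 ⟨x, hx, rfl⟩
  by_cases hM : (P₀ : Subgroup G) ⊔ N = ⊤
  · -- `G = P₀ N`
    have hCcenter : N ⊓ Subgroup.centralizer (P₀ : Set G) ≤ Subgroup.center G := by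
      intro c hc
      have hc1 : c ∈ N := (Subgroup.mem_inf.mp hc).1
      have hc2 : c ∈ Subgroup.centralizer (P₀ : Set G) := (Subgroup.mem_inf.mp hc).2
      have hcent : (P₀ : Subgroup G) ⊔ N ≤ Subgroup.centralizer {c} := by
        apply sup_le
        · intro y hy
          rw [Subgroup.mem_centralizer_singleton_iff]
          exact Subgroup.mem_centralizer_iff.mp hc2 y hy
        · intro y hy
          rw [Subgroup.mem_centralizer_singleton_iff]
          exact hNab y hy c hc1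
      rw [Subgroup.mem_center_iff]
      intro g
      have hg : g ∈ Subgroup.centralizer {c} := hcent (hM ▸ Subgroup.mem_top g)
      rw [Subgroup.mem_centralizer_singleton_iff] at hg
      exact hg
    have hCn : (N ⊓ Subgroup.centralizer (P₀ : Set G)).Normal := by
      refine ⟨fun n hn g => ?_⟩
      have h1 := Subgroup.mem_center_iff.mp (hCcenter hn) g
      have h2 : g * n * g⁻¹ = n := by rw [h1]; group
      rw [h2]
      exact hn
    have hCφ : ∀ x ∈ N ⊓ Subgroup.centralizer (P₀ : Set G),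
        φ x ∈ N ⊓ Subgroup.centralizer (P₀ : Set G) := fun x hx =>
      Subgroup.mem_inf.mpr ⟨hNφ x (Subgroup.mem_inf.mp hx).1,
        centralizer_invariant hinj _ hP₀ x (Subgroup.mem_inf.mp hx).2⟩
    rcases hmin' _ hCn hCφ inf_le_left with hC | hC
    · have hpow := norm_lemma_subgroup hφ hp hφp N (P₀ : Subgroup G) hNab hNφ hP₀ (by
        intro v hv hcomm
        have h1 : v ∈ N ⊓ Subgroup.centralizer (P₀ : Set G) :=
          Subgroup.mem_inf.mpr ⟨hv, Subgroup.mem_centralizer_iff.mpr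
            (fun y hy => hcomm y hy)⟩
        rw [hC, Subgroup.mem_bot] at h1
        exact h1)
      have hNr : IsPGroup r N := by
        obtain ⟨k, hk⟩ := IsPGroup.iff_card.mp P₀.2
        intro x
        refine ⟨k, Subtype.ext ?_⟩
        have h1 := hpow x x.2
        rw [hk] at h1
        simpa using h1
      have hsupr : IsPGroup r ((P₀ : Subgroup G) ⊔ N : Subgroup G) :=
        IsPGroup.to_sup_of_normal_right P₀.2 hNr
      have h1 : (P₀ : Subgroup G) = ⊤ := by
        rw [← hM]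
        exact (P₀.is_maximal' hsupr le_sup_left).symm
      rw [h1]
      infer_instance
    · rw [← Subgroup.normalizer_eq_top_iff, eq_top_iff, ← hM]
      apply sup_le
      · exact Subgroup.le_normalizer
      · have h1 : N ≤ Subgroup.centralizer (P₀ : Set G) := by
          rw [← hC]
          exact inf_le_right
        exact h1.trans (Subgroup.centralizer_le_normalizer _)
  · -- `P₀ N` is proper, hence nilpotent
    have hMnil := hsub _ hMφ hM
    rw [← Subgroup.normalizer_eq_top_iff, eq_top_iff]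
    intro g _
    suffices hg : g • P₀ = P₀ from Sylow.smul_eq_iff_mem_normalizer.mp hg
    have hle : (P₀ : Subgroup G) ≤ (P₀ : Subgroup G) ⊔ N := le_sup_left
    have hle' : ((g • P₀ : Sylow r G) : Subgroup G) ≤ (P₀ : Subgroup G) ⊔ N := by
      rw [Sylow.coe_subgroup_smul]
      intro x hx
      rw [Subgroup.mem_pointwise_smul_iff_inv_smul_mem] at hx
      have h1 : (MulAut.conj g)⁻¹ • x ∈ (P₀ : Subgroup G) ⊔ N := hle hx
      have h2 := hMn.conj_mem _ h1 g
      have h3 : g * ((MulAut.conj g)⁻¹ • x) * g⁻¹ = x := by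
        simp only [MulAut.smul_def, MulAut.conj_inv_apply]
        group
      rwa [h3] at h2
    obtain ⟨m, hm⟩ := MulAction.exists_smul_eq ((P₀ : Subgroup G) ⊔ N : Subgroup G)
      (P₀.subtype hle) ((g • P₀).subtype hle')
    rw [Sylow.smul_eq_of_normal] at hm
    have h2 := congrArg (fun Q : Sylow r ((P₀ : Subgroup G) ⊔ N : Subgroup G) =>
      (Q : Subgroup ((P₀ : Subgroup G) ⊔ N : Subgroup G))) hm
    simp only [Sylow.coe_subtype] at h2
    have h3 := Subgroup.subgroupOf_inj.mp h2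
    rw [inf_eq_left.mpr hle, inf_eq_left.mpr hle'] at h3
    exact Sylow.ext h3.symm

theorem fpf_caseB (hTh : ThompsonHyp.{u}) {G : Type u} [Group G] [Finite G] {φ : G →* G}
    (hφ : FixedPointFree φ) {p : ℕ} (hp : p.Prime) (hφp : φ^[p] = _root_.id)
    (hsub : ∀ H : Subgroup G, (∀ x ∈ H, φ x ∈ H) → H ≠ ⊤ → Group.IsNilpotent H)
    (hB : ¬ ∃ N : Subgroup G, N.Normal ∧ (∀ x ∈ N, φ x ∈ N) ∧ N ≠ ⊥ ∧ N ≠ ⊤) :
    Group.IsNilpotent G := by
  have hinj := injective_of_iterate_eq_id hφp hp.pos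
  have hB' : ∀ N : Subgroup G, N.Normal → (∀ x ∈ N, φ x ∈ N) → N = ⊥ ∨ N = ⊤ := by
    intro N h1 h2
    by_contra h
    push Not at h
    exact hB ⟨N, h1, h2, h.1, h.2⟩
  by_cases h2 : ∃ s : ℕ, s.Prime ∧ s ≠ 2 ∧ s ∣ Nat.card G
  · obtain ⟨s, hs, hs2, hsdvd⟩ := h2
    have : Fact s.Prime := ⟨hs⟩
    obtain ⟨S, hS⟩ := exists_invariant_sylow hφ hinj s
    have hSbot : (S : Subgroup G) ≠ ⊥ := S.ne_bot_of_dvd_card hsdvd
    suffices hStop : (S : Subgroup G) = ⊤ by
      have hG : IsPGroup s G := by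
        intro g
        have h1 : g ∈ (S : Subgroup G) := by rw [hStop]; exact Subgroup.mem_top g
        obtain ⟨k, hk⟩ := S.2 ⟨g, h1⟩
        exact ⟨k, congrArg Subtype.val hk⟩
      exact hG.isNilpotent
    have hJle : Cfsg.thompsonSubgroupOf s (S : Subgroup G) ≤ S :=
      Helper11.thompsonSubgroupOf_le s _
    have hJbot : Cfsg.thompsonSubgroupOf s (S : Subgroup G) ≠ ⊥ :=
      thompsonSubgroupOf_ne_bot _ S.2 hSbot
    have hZbot : (S : Subgroup G) ⊓ Subgroup.centralizer (S : Set G) ≠ ⊥ :=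
      inf_centralizer_ne_bot _ S.2 hSbot
    have hJφ : ∀ x ∈ Cfsg.thompsonSubgroupOf s (S : Subgroup G),
        φ x ∈ Cfsg.thompsonSubgroupOf s (S : Subgroup G) := by
      intro x hx
      have h1 := Helper11.thompsonSubgroupOf_map s φ hinj (S : Subgroup G)
      rw [map_eq_of_invariant hinj _ hS] at h1
      rw [h1]
      exact ⟨x, hx, rfl⟩
    have hZφ : ∀ x ∈ (S : Subgroup G) ⊓ Subgroup.centralizer (S : Set G),
        φ x ∈ (S : Subgroup G) ⊓ Subgroup.centralizer (S : Set G) := fun x hx =>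
      Subgroup.mem_inf.mpr ⟨hS x (Subgroup.mem_inf.mp hx).1,
        centralizer_invariant hinj _ hS x (Subgroup.mem_inf.mp hx).2⟩
    by_contra hStop
    have hNJ : Subgroup.normalizer (Cfsg.thompsonSubgroupOf s (S : Subgroup G) : Set G) ≠ ⊤ := by
      intro h
      have hJn : (Cfsg.thompsonSubgroupOf s (S : Subgroup G)).Normal :=
        Subgroup.normalizer_eq_top_iff.mp h
      rcases hB' _ hJn hJφ with h' | h'
      · exact hJbot h'
      · exact hStop (top_le_iff.mp (h' ▸ hJle))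
    have hCZ : Subgroup.centralizer
        (((S : Subgroup G) ⊓ Subgroup.centralizer (S : Set G) : Subgroup G) : Set G) ≠ ⊤ := by
      intro h
      have hZn : ((S : Subgroup G) ⊓ Subgroup.centralizer (S : Set G)).Normal := by
        refine ⟨fun n hn g => ?_⟩
        have hg : g ∈ Subgroup.centralizer
            (((S : Subgroup G) ⊓ Subgroup.centralizer (S : Set G) : Subgroup G) : Set G) := by
          rw [h]; exact Subgroup.mem_top g
        have h1 := Subgroup.mem_centralizer_iff.mp hg n hn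
        have h2 : g * n * g⁻¹ = n := by rw [← h1]; group
        rw [h2]
        exact hn
      rcases hB' _ hZn hZφ with h' | h'
      · exact hZbot h'
      · exact hStop (top_le_iff.mp (h' ▸ inf_le_left))
    have h1 : Cfsg.HasNormalPComplement s
        ↥(Subgroup.normalizer (Cfsg.thompsonSubgroupOf s (S : Subgroup G) : Set G)) :=
      hasNormalPComplement_of_nilpotent s (hsub _ (normalizer_invariant hinj _ hJφ) hNJ)
    have h2 : Cfsg.HasNormalPComplement s ↥(Subgroup.centralizer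
        (((S : Subgroup G) ⊓ Subgroup.centralizer (S : Set G) : Subgroup G) : Set G)) :=
      hasNormalPComplement_of_nilpotent s (hsub _ (centralizer_invariant hinj _ hZφ) hCZ)
    have h3 : Cfsg.HasNormalPComplement s G := hTh G s hs2 S h1 h2
    obtain ⟨K, hK⟩ := Helper54.hasNormalPComplement_iff.mp h3
    have hKφ : ∀ x ∈ K, φ x ∈ K := fun x hx => hK.mem_of_coprime (by
      rw [orderOf_injective φ hinj x]
      exact hK.coprime_of_mem hx)
    rcases hB' K hK.1 hKφ with h' | h'
    · obtain ⟨k, hk⟩ := hK.2.2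
      rw [h', Subgroup.index_bot] at hk
      have hG : IsPGroup s G := IsPGroup.of_card hk
      exact hStop (S.is_maximal' (hG.to_subgroup ⊤) le_top).symm
    · have h4 := hK.2.1
      rw [h', Subgroup.card_top] at h4
      exact (Nat.Prime.coprime_iff_not_dvd hs).mp h4.symm hsdvd
  · push Not at h2
    have hG : IsPGroup 2 G := by
      apply IsPGroup.of_card (n := (Nat.card G).primeFactorsList.length)
      exact Nat.eq_prime_pow_of_unique_prime_dvd Nat.card_pos.ne'
        (fun {d} hd hdvd => by by_contra h; exact h2 d hd h hdvd)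
    have : Fact (Nat.Prime 2) := ⟨Nat.prime_two⟩
    exact hG.isNilpotent

theorem fpf_nilpotent_aux (hTh : ThompsonHyp.{u}) {p : ℕ} (hp : p.Prime) :
    ∀ (n : ℕ) (G : Type u) [Group G] [Finite G] (φ : G →* G), Nat.card G = n →
      FixedPointFree φ → φ^[p] = _root_.id → Group.IsNilpotent G := by
  intro n
  induction n using Nat.strong_induction_on with
  | _ n ih =>
  intro G _ _ φ hn hφ hφp
  have hsub : ∀ H : Subgroup G, (∀ x ∈ H, φ x ∈ H) → H ≠ ⊤ → Group.IsNilpotent H := by
    intro H hH hne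
    refine ih (Nat.card H) ?_ H (resHom φ H hH) rfl (resHom_fpf hφ H hH)
      (resHom_iterate_eq_id hφp H hH)
    rw [← hn]
    by_contra hcon
    exact hne (Subgroup.eq_top_of_le_card H (not_lt.mp hcon))
  have hquot : ∀ (N : Subgroup G) [N.Normal], (∀ x ∈ N, φ x ∈ N) → N ≠ ⊥ →
      Group.IsNilpotent (G ⧸ N) := by
    intro N _ hN hne
    refine ih (Nat.card (G ⧸ N)) ?_ (G ⧸ N) (quotHom φ N hN) rfl (quotHom_fpf hφ N hN)
      (quotHom_iterate_eq_id hφp N hN)
    rw [← hn, Subgroup.card_eq_card_quotient_mul_card_subgroup N]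
    have h1 : 1 < Nat.card N := (Subgroup.one_lt_card_iff_ne_bot _).mpr hne
    have h2 : 0 < Nat.card (G ⧸ N) := Nat.card_pos
    nlinarith
  by_cases hA : ∃ N : Subgroup G, N.Normal ∧ (∀ x ∈ N, φ x ∈ N) ∧ N ≠ ⊥ ∧ N ≠ ⊤
  · exact fpf_caseA hφ hp hφp hsub hquot hA
  · exact fpf_caseB hTh hφ hp hφp hsub hA

/-- **Thompson's theorem** (conditional on the normal `p`-complement theorem): a finite group
admitting a fixed-point-free endomorphism whose `p`-th iterate is the identity (`p` prime) is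
nilpotent. -/
theorem fpf_nilpotent (hTh : ThompsonHyp.{u}) {G : Type u} [Group G] [Finite G] (φ : G →* G)
    (hφ : FixedPointFree φ) {p : ℕ} (hp : p.Prime) (hφp : φ^[p] = _root_.id) :
    Group.IsNilpotent G :=
  fpf_nilpotent_aux hTh hp _ G φ rfl hφ hφp

end Cfsg.Agent.Lib.Helper91
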