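import Mathlib

set_option autoImplicit false

namespace Cfsg.Agent.Lib.Helper91

open Finset

section
variable {A V : Type*} [Group A] [Fintype A] [CommGroup V]

/-- For a fixed-point-free action, the product of the images of `v` under a nontrivial subgroup
is trivial. -/
theorem fpf_prod_subgroup_eq_one (φ : A →* MulAut V)
    (hfpf : ∀ a : A, a ≠ 1 → ∀ v : V, φ a v = v → v = 1)
    (C : Subgroup A) [DecidablePred (· ∈ C)] (hC : C ≠ ⊥) (v : V) :
    ∏ a : A, (if a ∈ C then φ a v else 1) = 1 := by
  obtain ⟨⟨c, hc⟩, hc1⟩ := (Subgroup.ne_bot_iff_exists_ne_one).mp hC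
  have hc1' : c ≠ 1 := fun h => hc1 (Subtype.ext h)
  apply hfpf c hc1'
  rw [map_prod]
  rw [← Equiv.prod_comp (Equiv.mulLeft c) (fun a => if a ∈ C then φ a v else 1)]
  apply Finset.prod_congr rfl
  intro a _
  change φ c (if a ∈ C then φ a v else 1) = if c * a ∈ C then φ (c * a) v else 1
  by_cases ha : a ∈ C
  · have : c * a ∈ C := C.mul_mem hc ha
    rw [if_pos ha, if_pos this, map_mul]; rfl
  · have : c * a ∉ C := fun h => ha ((C.mul_mem_cancel_left hc).mp h)
    rw [if_neg ha, if_neg this, map_one]

/-- Partition lemma: if a group `A` acting fixed-point-freely on an abelian group `V` is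
partitioned by the nontrivial subgroups in `S`, then `V` has exponent dividing `|S| - 1`. -/
theorem fpf_partition_pow [DecidableEq (Subgroup A)] (φ : A →* MulAut V)
    (hfpf : ∀ a : A, a ≠ 1 → ∀ v : V, φ a v = v → v = 1) (hA : Nontrivial A)
    (S : Finset (Subgroup A)) (hS1 : ∀ C ∈ S, C ≠ ⊥)
    (hS2 : ∀ a : A, a ≠ 1 → ∀ [DecidablePred (fun C : Subgroup A => a ∈ C)],
      (S.filter (fun C => a ∈ C)).card = 1) (v : V) :
    v ^ (S.card - 1) = 1 := by
  classical
  have hT : ∀ C ∈ S, ∏ a : A, (if a ∈ C then φ a v else 1) = 1 :=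
    fun C hC => fpf_prod_subgroup_eq_one φ hfpf C (hS1 C hC) v
  have htop : ∏ a : A, φ a v = 1 := by
    have := fpf_prod_subgroup_eq_one φ hfpf (⊤ : Subgroup A) top_ne_bot v
    simpa using this
  have h1 : ∏ C ∈ S, ∏ a : A, (if a ∈ C then φ a v else 1) = 1 := Finset.prod_eq_one hT
  rw [Finset.prod_comm] at h1
  have h2 : ∀ a : A, ∏ C ∈ S, (if a ∈ C then φ a v else 1) =
      (φ a v) ^ (S.filter (fun C => a ∈ C)).card := by
    intro a
    rw [← Finset.prod_filter, Finset.prod_const]
  simp_rw [h2] at h1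
  rw [← Finset.mul_prod_erase univ _ (mem_univ (1 : A))] at h1 htop
  have h3 : ∏ a ∈ univ.erase (1 : A), (φ a v) ^ (S.filter (fun C => a ∈ C)).card =
      ∏ a ∈ univ.erase (1 : A), φ a v := by
    apply Finset.prod_congr rfl
    intro a ha
    rw [hS2 a (Finset.ne_of_mem_erase ha), pow_one]
  rw [h3] at h1
  have h4 : (S.filter (fun C => (1 : A) ∈ C)) = S :=
    Finset.filter_true_of_mem (fun C _ => C.one_mem)
  rw [h4, map_one, MulAut.one_apply] at h1
  rw [map_one, MulAut.one_apply] at htop
  rcases Nat.eq_zero_or_pos S.card with h0 | hpos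
  · rw [h0]; simp
  · have h5 : v ^ S.card = v := mul_right_cancel (h1.trans htop.symm)
    have h6 : v ^ (S.card - 1) * v = 1 * v := by
      rw [← pow_succ, Nat.sub_add_cancel hpos, one_mul]; exact h5
    exact mul_right_cancel h6

end

/-- A group all of whose nonidentity elements have prime order is partitioned by its subgroups of
prime order; consequences for a fixed-point-free action on an abelian group. -/
theorem fpf_prime_order {B V : Type*} [Group B] [Fintype B] [CommGroup V] (φ : B →* MulAut V)
    (hfpf : ∀ a : B, a ≠ 1 → ∀ v : V, φ a v = v → v = 1) (hB : Nontrivial B)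
    (hprime : ∀ b : B, b ≠ 1 → (orderOf b).Prime)
    (S : Finset (Subgroup B)) (hS : ∀ C, C ∈ S ↔ (Nat.card C).Prime) :
    (∀ v : V, v ^ (S.card - 1) = 1) ∧ ∑ C ∈ S, (Nat.card C - 1) = Fintype.card B - 1 := by
  classical
  have key : ∀ a : B, a ≠ 1 → ∀ [DecidablePred (fun C : Subgroup B => a ∈ C)],
      S.filter (fun C => a ∈ C) = {Subgroup.zpowers a} := by
    intro a ha _
    ext C
    simp only [mem_filter, mem_singleton, hS]
    constructor
    · rintro ⟨hCp, haC⟩
      have hle : Subgroup.zpowers a ≤ C := (Subgroup.zpowers_le).mpr haC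
      have hcard : Nat.card (Subgroup.zpowers a) = orderOf a := Nat.card_zpowers a
      have hdvd : Nat.card (Subgroup.zpowers a) ∣ Nat.card C := Subgroup.card_dvd_of_le hle
      rw [hcard] at hdvd
      have heq : orderOf a = Nat.card C := (Nat.prime_dvd_prime_iff_eq (hprime a ha) hCp).mp hdvd
      exact (Subgroup.eq_of_le_of_card_ge hle (by rw [hcard, heq])).symm
    · rintro rfl
      exact ⟨by rw [Nat.card_zpowers]; exact hprime a ha, Subgroup.mem_zpowers a⟩
  constructor
  · intro v
    apply fpf_partition_pow φ hfpf hB S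
    · intro C hC h
      rw [h] at hC
      have := (hS _).mp hC
      rw [Subgroup.card_bot] at this
      exact Nat.not_prime_one this
    · intro a ha _
      rw [key a ha, Finset.card_singleton]
  · have hcount : ∀ C : Subgroup B,
        ((univ.erase (1 : B)).filter (fun a => a ∈ C)).card = Nat.card C - 1 := by
      intro C
      have h1 : (univ.erase (1 : B)).filter (fun a => a ∈ C) =
          (univ.filter (fun a => a ∈ C)).erase 1 := by
        ext a
        simp only [mem_filter, mem_erase, mem_univ, true_and, and_true]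
      rw [h1, Finset.card_erase_of_mem (by simp [C.one_mem])]
      congr 1
      rw [Nat.card_eq_fintype_card, Fintype.card_subtype]
    calc ∑ C ∈ S, (Nat.card C - 1)
        = ∑ C ∈ S, ((univ.erase (1 : B)).filter (fun a => a ∈ C)).card := by
          simp_rw [hcount]
      _ = ∑ C ∈ S, ∑ a ∈ univ.erase (1 : B), (if a ∈ C then 1 else 0) := by
          simp_rw [Finset.card_filter]
      _ = ∑ a ∈ univ.erase (1 : B), ∑ C ∈ S, (if a ∈ C then 1 else 0) := Finset.sum_comm
      _ = ∑ a ∈ univ.erase (1 : B), (S.filter (fun C => a ∈ C)).card := by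
          simp_rw [Finset.card_filter]
      _ = ∑ a ∈ univ.erase (1 : B), 1 := by
          apply Finset.sum_congr rfl
          intro a ha
          rw [key a (Finset.ne_of_mem_erase ha), Finset.card_singleton]
      _ = Fintype.card B - 1 := by
          simp [Finset.card_erase_of_mem, Finset.card_univ]

/-- An element of prime order `r` acting on a finite group of order divisible by `r` has a
nontrivial fixed point. -/
theorem exists_fixed_of_prime_dvd {A V : Type*} [Group A] [CommGroup V] [Finite V]
    (φ : A →* MulAut V) (b : A) (r : ℕ) [Fact r.Prime] (hb : b ^ r = 1) (hr : r ∣ Nat.card V) :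
    ∃ v : V, v ≠ 1 ∧ φ b v = v := by
  set Z := Subgroup.zpowers b with hZdef
  have hZ : IsPGroup r Z := by
    rintro ⟨z, hz⟩
    obtain ⟨k, rfl⟩ := Subgroup.mem_zpowers_iff.mp hz
    refine ⟨1, Subtype.ext ?_⟩
    simp only [pow_one, Subgroup.coe_pow, Subgroup.coe_one]
    rw [← zpow_natCast, ← zpow_mul, mul_comm, zpow_mul, zpow_natCast, hb, one_zpow]
  letI : MulAction Z V := MulAction.compHom V (φ.comp Z.subtype)
  have hmod := hZ.card_modEq_card_fixedPoints V
  by_contra hcon
  push_neg at hcon
  have hfix : ∀ v : V, v ∈ MulAction.fixedPoints Z V → v = 1 := by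
    intro v hv
    by_contra hv1
    exact hcon v hv1 (hv ⟨b, Subgroup.mem_zpowers b⟩)
  have hcard : Nat.card (MulAction.fixedPoints Z V) = 1 := by
    rw [Nat.card_eq_one_iff_unique]
    refine ⟨⟨fun x y => Subtype.ext ((hfix x x.2).trans (hfix y y.2).symm)⟩, ⟨⟨1, fun z => ?_⟩⟩⟩
    change φ (z : A) 1 = 1
    exact map_one _
  rw [hcard] at hmod
  have : r ∣ 1 := by
    have h0 : Nat.card V ≡ 0 [MOD r] := (Nat.modEq_zero_iff_dvd).mpr hr
    exact (Nat.modEq_zero_iff_dvd).mp (hmod.symm.trans h0)
  exact (Fact.out : r.Prime).one_lt.ne' (Nat.dvd_one.mp this)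

end Cfsg.Agent.Lib.Helper91
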