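import Mathlib
import Cfsg.Agent.Lib.Helper91.FpfPartition
import Cfsg.Agent.Lib.Helper1.Tools

set_option autoImplicit false

namespace Cfsg.Agent.Lib.Helper91

open Finset

/-- In a commutative group, `|A[pm]| ≤ |A[p]| |A[m]|`. -/
theorem card_ker_pow_mul_le {A : Type*} [CommGroup A] [Finite A] (p m : ℕ) :
    Nat.card (powMonoidHom (p * m) : A →* A).ker ≤
      Nat.card (powMonoidHom p : A →* A).ker * Nat.card (powMonoidHom m : A →* A).ker := by
  set f : A →* A := powMonoidHom p with hf
  set L : Subgroup A := (powMonoidHom (p * m) : A →* A).ker with hL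
  have h1 : Nat.card L = Nat.card (f.ker ⊓ L : Subgroup A) * (f.ker ⊓ L).relIndex L := by
    rw [← Subgroup.relIndex_bot_left, ← Subgroup.relIndex_bot_left,
      Subgroup.relIndex_mul_relIndex _ _ _ bot_le inf_le_right]
  have h1' : f.ker.relIndex L = Nat.card (L.map f) := Subgroup.relIndex_ker L f
  rw [Subgroup.inf_relIndex_right, h1'] at h1
  have h2 : Nat.card (f.ker ⊓ L : Subgroup A) ≤ Nat.card f.ker :=
    Subgroup.card_le_of_le inf_le_left
  have h3 : L.map f ≤ (powMonoidHom m : A →* A).ker := by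
    rintro _ ⟨a, ha, rfl⟩
    rw [MonoidHom.mem_ker, powMonoidHom_apply]
    have ha' : a ∈ (powMonoidHom (p * m) : A →* A).ker := ha
    rw [MonoidHom.mem_ker, powMonoidHom_apply] at ha'
    rw [hf, powMonoidHom_apply, ← pow_mul]; exact ha'
  have h4 : Nat.card (L.map f) ≤ Nat.card (powMonoidHom m : A →* A).ker :=
    Subgroup.card_le_of_le h3
  rw [h1]
  exact Nat.mul_le_mul h2 h4

/-- A finite commutative group that is not cyclic has more than `p` elements of order dividing
`p` for some prime `p`. -/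
theorem exists_prime_lt_card_ker_pow {A : Type*} [CommGroup A] [Finite A] (hA : ¬ IsCyclic A) :
    ∃ p : ℕ, p.Prime ∧ p < Nat.card (powMonoidHom p : A →* A).ker := by
  classical
  have : Fintype A := Fintype.ofFinite A
  have hcount : ∀ n : ℕ, (univ.filter (fun a : A => a ^ n = 1)).card =
      Nat.card (powMonoidHom n : A →* A).ker := by
    intro n
    rw [Nat.card_eq_fintype_card, Fintype.card_subtype]
    congr 1
    ext a
    simp only [mem_filter, mem_univ, true_and, MonoidHom.mem_ker, powMonoidHom_apply]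
  have hex : ∃ n : ℕ, 0 < n ∧ n < Nat.card (powMonoidHom n : A →* A).ker := by
    by_contra hcon
    push Not at hcon
    apply hA
    apply isCyclic_of_card_pow_eq_one_le
    intro n hn
    rw [hcount n]
    exact hcon n hn
  have hmin : ∀ m : ℕ, m < Nat.find hex →
      ¬ (0 < m ∧ m < Nat.card (powMonoidHom m : A →* A).ker) := fun m hm => Nat.find_min hex hm
  obtain ⟨hn0, hn⟩ := Nat.find_spec hex
  set n := Nat.find hex with hndef
  have hn1 : n ≠ 1 := by
    intro h1
    rw [h1] at hn
    have : Nat.card (powMonoidHom 1 : A →* A).ker = 1 := by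
      rw [Subgroup.card_eq_one, eq_bot_iff]  
      intro a ha
      rw [MonoidHom.mem_ker, powMonoidHom_apply, pow_one] at ha
      exact ha
    omega
  set p := n.minFac with hp
  have hpp : p.Prime := Nat.minFac_prime hn1
  obtain ⟨m, hm⟩ := Nat.minFac_dvd n
  rw [← hp] at hm
  have hm0 : 0 < m := by
    rcases Nat.eq_zero_or_pos m with h | h
    · rw [h, mul_zero] at hm; omega
    · exact h
  have hmn : m < n := by
    rw [hm]
    have := hpp.two_le
    nlinarith
  have hmle : Nat.card (powMonoidHom m : A →* A).ker ≤ m := by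
    by_contra hcon
    exact hmin m hmn ⟨hm0, not_le.mp hcon⟩
  refine ⟨p, hpp, ?_⟩
  have h5 := card_ker_pow_mul_le (A := A) p m
  rw [← hm] at h5
  have h6 : p * m < Nat.card (powMonoidHom p : A →* A).ker * m := by
    calc p * m = n := hm.symm
      _ < Nat.card (powMonoidHom n : A →* A).ker := hn
      _ ≤ _ := h5
      _ ≤ _ := Nat.mul_le_mul_left _ hmle
  exact lt_of_mul_lt_mul_right h6 (Nat.zero_le m)

/-- A group acting fixed-point-freely on a nontrivial finite abelian group is cyclic if it is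
abelian. -/
theorem fpf_isCyclic_of_comm {A V : Type*} [Group A] [Finite A] [CommGroup V] [Finite V]
    [Nontrivial V] (φ : A →* MulAut V)
    (hfpf : ∀ a : A, a ≠ 1 → ∀ v : V, φ a v = v → v = 1)
    (hcomm : ∀ a b : A, a * b = b * a) : IsCyclic A := by
  classical
  by_contra hnc
  letI : CommGroup A := { ‹Group A› with mul_comm := hcomm }
  obtain ⟨p, hp, hlt⟩ := exists_prime_lt_card_ker_pow (A := A) hnc
  set B : Subgroup A := (powMonoidHom p : A →* A).ker with hB
  have hBpow : ∀ b ∈ B, b ^ p = 1 := by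
    intro b hb
    have hb' : b ∈ (powMonoidHom p : A →* A).ker := hb
    rwa [MonoidHom.mem_ker, powMonoidHom_apply] at hb'
  have h2 : 1 < Nat.card B := lt_of_le_of_lt hp.one_lt.le hlt
  have hBnt : Nontrivial B := Finite.one_lt_card_iff_nontrivial.mp h2
  obtain ⟨x, hx1⟩ : ∃ x : B, x ≠ 1 := exists_ne 1
  have hx1' : (x : A) ≠ 1 := fun h => hx1 (Subtype.ext h)
  have hxo : orderOf (x : A) = p := by
    have h3 : orderOf (x : A) ∣ p := orderOf_dvd_of_pow_eq_one (hBpow x x.2)
    rcases (Nat.dvd_prime hp).mp h3 with h | h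
    · exfalso; rw [orderOf_eq_one_iff] at h; exact hx1' h
    · exact h
  have hzx : Nat.card (Subgroup.zpowers (x : A)) = p := by rw [Nat.card_zpowers, hxo]
  obtain ⟨y, hyB, hyx⟩ : ∃ y ∈ B, y ∉ Subgroup.zpowers (x : A) := by
    by_contra hcon
    push Not at hcon
    have h3 : B ≤ Subgroup.zpowers (x : A) := hcon
    have h4 := Subgroup.card_le_of_le h3
    omega
  have hy1 : y ≠ 1 := by
    rintro rfl
    exact hyx (Subgroup.one_mem _)
  have hyo : orderOf y = p := by
    have h3 : orderOf y ∣ p := orderOf_dvd_of_pow_eq_one (hBpow y hyB)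
    rcases (Nat.dvd_prime hp).mp h3 with h | h
    · exfalso; rw [orderOf_eq_one_iff] at h; exact hy1 h
    · exact h
  have hzy : Nat.card (Subgroup.zpowers y) = p := by rw [Nat.card_zpowers, hyo]
  set E : Subgroup A := Subgroup.zpowers (x : A) ⊔ Subgroup.zpowers y with hE
  have hEB : E ≤ B := sup_le (Subgroup.zpowers_le.mpr x.2) (Subgroup.zpowers_le.mpr hyB)
  have hinf : Nat.card (Subgroup.zpowers (x : A) ⊓ Subgroup.zpowers y : Subgroup A) = 1 := by
    have hd : Nat.card (Subgroup.zpowers (x : A) ⊓ Subgroup.zpowers y : Subgroup A) ∣ p := by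
      rw [← hzy]; exact Subgroup.card_dvd_of_le inf_le_right
    rcases (Nat.dvd_prime hp).mp hd with h | h
    · exact h
    · exfalso
      have h3 : Subgroup.zpowers (x : A) ⊓ Subgroup.zpowers y = Subgroup.zpowers y :=
        Subgroup.eq_of_le_of_card_ge inf_le_right (by rw [h, hzy])
      have h4 : y ∈ Subgroup.zpowers (x : A) ⊓ Subgroup.zpowers y := by
        rw [h3]; exact Subgroup.mem_zpowers y
      exact hyx h4.1
  have hEcard : Nat.card E = p * p := by
    have h3 := Cfsg.Agent.Lib.Helper1.card_sup_mul_card_inf (Subgroup.zpowers (x : A))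
      (Subgroup.zpowers y)
    rw [hinf, mul_one, hzx, hzy] at h3
    exact h3
  have hEfin : Fintype E := Fintype.ofFinite E
  set ψ : E →* MulAut V := φ.comp E.subtype with hψdef
  have hψ : ∀ a : E, a ≠ 1 → ∀ v : V, ψ a v = v → v = 1 :=
    fun a ha v hv => hfpf a (fun h => ha (Subtype.ext h)) v hv
  have hp2 := hp.two_le
  have hEnt : Nontrivial E := Finite.one_lt_card_iff_nontrivial.mp (by rw [hEcard]; nlinarith)
  have hEprime : ∀ b : E, b ≠ 1 → (orderOf b).Prime := by
    intro b hb
    have h3 : orderOf (b : A) ∣ p := orderOf_dvd_of_pow_eq_one (hBpow b (hEB b.2))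
    rw [Subgroup.orderOf_coe] at h3
    rcases (Nat.dvd_prime hp).mp h3 with h | h
    · exfalso; exact hb (orderOf_eq_one_iff.mp h)
    · rw [h]; exact hp
  set S : Finset (Subgroup E) := (Set.toFinite {C : Subgroup E | (Nat.card C).Prime}).toFinset
    with hSdef
  have hS : ∀ C, C ∈ S ↔ (Nat.card C).Prime := fun C => by simp [hSdef]
  obtain ⟨hpow, hsum⟩ := fpf_prime_order ψ hψ hEnt hEprime S hS
  have hSp : ∀ C ∈ S, Nat.card C = p := by
    intro C hC
    have h1 := (hS C).mp hC
    have h2 : Nat.card C ∣ p * p := by rw [← hEcard]; exact Subgroup.card_subgroup_dvd_card C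
    have h3 : Nat.card C ∣ p := (h1.dvd_mul.mp h2).elim id id
    exact (Nat.prime_dvd_prime_iff_eq h1 hp).mp h3
  have e1 : ∑ C ∈ S, (Nat.card C - 1) = S.card * (p - 1) := by
    rw [Finset.sum_congr rfl (fun C hC => by rw [hSp C hC]), Finset.sum_const, smul_eq_mul]
  rw [e1, ← Nat.card_eq_fintype_card, hEcard] at hsum
  have hScard : S.card = p + 1 := by
    obtain ⟨k, hk⟩ := Nat.exists_eq_succ_of_ne_zero hp.ne_zero
    have h3 : (p + 1) * (p - 1) = p * p - 1 := by
      rw [hk]
      simp only [Nat.succ_eq_add_one, Nat.add_sub_cancel]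
      have : (k + 1) * (k + 1) = (k + 1 + 1) * k + 1 := by ring
      omega
    have h4 : 0 < p - 1 := by omega
    exact Nat.eq_of_mul_eq_mul_right h4 (hsum.trans h3.symm)
  have hpowp : ∀ v : V, v ^ p = 1 := by
    intro v
    have := hpow v
    rwa [hScard, Nat.add_sub_cancel] at this
  obtain ⟨v, hv1⟩ : ∃ v : V, v ≠ 1 := exists_ne 1
  have hvo : orderOf v = p := by
    have h3 : orderOf v ∣ p := orderOf_dvd_of_pow_eq_one (hpowp v)
    rcases (Nat.dvd_prime hp).mp h3 with h | h
    · exfalso; exact hv1 (orderOf_eq_one_iff.mp h)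
    · exact h
  have hdvd : p ∣ Nat.card V := by rw [← hvo]; exact orderOf_dvd_natCard v
  have : Fact p.Prime := ⟨hp⟩
  obtain ⟨w, hw1, hw⟩ := exists_fixed_of_prime_dvd φ (x : A) p (hBpow x x.2) hdvd
  exact hw1 (hfpf x hx1' w hw)

/-- A group of order `p q` (`p < q` primes) acting fixed-point-freely on a nontrivial finite
abelian group is cyclic. -/
theorem fpf_isCyclic_of_card_eq_mul_aux {A V : Type*} [Group A] [Finite A] [CommGroup V] [Finite V]
    [Nontrivial V] (φ : A →* MulAut V)
    (hfpf : ∀ a : A, a ≠ 1 → ∀ v : V, φ a v = v → v = 1)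
    (p q : ℕ) (hp : p.Prime) (hq : q.Prime) (hpq : p < q) (hcard : Nat.card A = p * q) :
    IsCyclic A := by
  classical
  by_contra hnc
  have hAfin : Fintype A := Fintype.ofFinite A
  have hp2 := hp.two_le
  have hq2 := hq.two_le
  have hAnt : Nontrivial A := Finite.one_lt_card_iff_nontrivial.mp (by rw [hcard]; nlinarith)
  have hord : ∀ a : A, a ≠ 1 → orderOf a = p ∨ orderOf a = q := by
    intro a ha
    have h1 : orderOf a ∣ p * q := by rw [← hcard]; exact orderOf_dvd_natCard a
    obtain ⟨d₁, d₂, hd₁, hd₂, hd⟩ := (Nat.dvd_mul).mp h1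
    rcases (Nat.dvd_prime hp).mp hd₁ with h₁ | h₁ <;> rcases (Nat.dvd_prime hq).mp hd₂ with h₂ | h₂
    · exfalso
      rw [h₁, h₂, one_mul] at hd
      exact ha (orderOf_eq_one_iff.mp hd.symm)
    · right; rw [← hd, h₁, h₂, one_mul]
    · left; rw [← hd, h₁, h₂, mul_one]
    · exfalso
      exact hnc (isCyclic_of_orderOf_eq_card a (by rw [hcard, ← hd, h₁, h₂]))
  have hprime : ∀ a : A, a ≠ 1 → (orderOf a).Prime :=
    fun a ha => (hord a ha).elim (fun h => h ▸ hp) (fun h => h ▸ hq)
  set S : Finset (Subgroup A) := (Set.toFinite {C : Subgroup A | (Nat.card C).Prime}).toFinset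
    with hSdef
  have hS : ∀ C, C ∈ S ↔ (Nat.card C).Prime := fun C => by simp [hSdef]
  obtain ⟨hpow, hsum⟩ := fpf_prime_order φ hfpf hAnt hprime S hS
  have hScard : ∀ C ∈ S, Nat.card C = p ∨ Nat.card C = q := by
    intro C hC
    have h1 := (hS C).mp hC
    have h2 : Nat.card C ∣ p * q := by rw [← hcard]; exact Subgroup.card_subgroup_dvd_card C
    rcases (Nat.Prime.dvd_mul h1).mp h2 with h | h
    · left; exact (Nat.prime_dvd_prime_iff_eq h1 hp).mp h
    · right; exact (Nat.prime_dvd_prime_iff_eq h1 hq).mp h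
  set Sq : Finset (Subgroup A) := S.filter (fun C => Nat.card C = q) with hSq
  set Sp : Finset (Subgroup A) := S.filter (fun C => ¬ Nat.card C = q) with hSp
  have hSsplit : Sq.card + Sp.card = S.card := Finset.card_filter_add_card_filter_not _
  have hsum2 : ∑ C ∈ S, (Nat.card C - 1) = Sq.card * (q - 1) + Sp.card * (p - 1) := by
    rw [← Finset.sum_filter_add_sum_filter_not S (fun C => Nat.card C = q)]
    congr 1
    · rw [Finset.sum_congr rfl (fun C hC => by rw [(Finset.mem_filter.mp hC).2]),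
        Finset.sum_const, smul_eq_mul]
    · rw [Finset.sum_congr rfl (fun C hC => by
        rw [(hScard C (Finset.mem_filter.mp hC).1).resolve_right (Finset.mem_filter.mp hC).2]),
        Finset.sum_const, smul_eq_mul]
  have hqfact : Fact q.Prime := ⟨hq⟩
  obtain ⟨x, hx⟩ := exists_prime_orderOf_dvd_card' (G := A) q (by rw [hcard]; exact dvd_mul_left q p)
  have hxS : Subgroup.zpowers x ∈ Sq := by
    rw [hSq, Finset.mem_filter, hS, Nat.card_zpowers, hx]
    exact ⟨hq, rfl⟩
  have hSq1 : Sq.card = 1 := by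
    apply le_antisymm
    · rw [Finset.card_le_one]
      intro C₁ h₁ C₂ h₂
      by_contra hne
      have hc₁ := (Finset.mem_filter.mp h₁).2
      have hc₂ := (Finset.mem_filter.mp h₂).2
      have hdis : Disjoint C₁ C₂ := by
        rw [disjoint_iff]
        have hd : Nat.card (C₁ ⊓ C₂ : Subgroup A) ∣ q := by
          rw [← hc₁]; exact Subgroup.card_dvd_of_le inf_le_left
        rcases (Nat.dvd_prime hq).mp hd with h | h
        · exact Subgroup.card_eq_one.mp h
        · exfalso
          have e1 : C₁ ⊓ C₂ = C₁ := Subgroup.eq_of_le_of_card_ge inf_le_left (by rw [h, hc₁])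
          have e2 : C₁ ⊓ C₂ = C₂ := Subgroup.eq_of_le_of_card_ge inf_le_right (by rw [h, hc₂])
          exact hne (e1.symm.trans e2)
      have hinj := Subgroup.mul_injective_of_disjoint hdis
      have h3 := Nat.card_le_card_of_injective _ hinj
      rw [Nat.card_prod, hc₁, hc₂, hcard] at h3
      nlinarith
    · exact Finset.card_pos.mpr ⟨_, hxS⟩
  rw [hsum2, hSq1, one_mul, ← Nat.card_eq_fintype_card, hcard] at hsum
  have hSpq : Sp.card = q := by
    obtain ⟨p', hp'⟩ := Nat.exists_eq_succ_of_ne_zero hp.ne_zero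
    obtain ⟨q', hq'⟩ := Nat.exists_eq_succ_of_ne_zero hq.ne_zero
    rw [hp', hq'] at hsum
    simp only [Nat.succ_eq_add_one, Nat.add_sub_cancel] at hsum
    have hpos : 1 ≤ (p' + 1) * (q' + 1) := Nat.mul_pos (Nat.succ_pos _) (Nat.succ_pos _)
    have h4 : q' + Sp.card * p' + 1 = (p' + 1) * (q' + 1) := by omega
    have h5 : Sp.card * p' = (q' + 1) * p' := by nlinarith
    have h6 : 0 < p' := by omega
    rw [hq']
    exact Nat.eq_of_mul_eq_mul_right h6 h5
  have hpowq : ∀ v : V, v ^ q = 1 := by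
    intro v
    have h3 := hpow v
    rw [← hSsplit, hSq1, hSpq] at h3
    have h4 : 1 + q - 1 = q := by omega
    rwa [h4] at h3
  obtain ⟨v, hv1⟩ : ∃ v : V, v ≠ 1 := exists_ne 1
  have hvo : orderOf v = q := by
    have h3 : orderOf v ∣ q := orderOf_dvd_of_pow_eq_one (hpowq v)
    rcases (Nat.dvd_prime hq).mp h3 with h | h
    · exfalso; exact hv1 (orderOf_eq_one_iff.mp h)
    · exact h
  have hdvd : q ∣ Nat.card V := by rw [← hvo]; exact orderOf_dvd_natCard v
  have hxq : x ^ q = 1 := by rw [← hx]; exact pow_orderOf_eq_one x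
  have hx1 : x ≠ 1 := by
    rintro rfl
    rw [orderOf_one] at hx
    omega
  obtain ⟨w, hw1, hw⟩ := exists_fixed_of_prime_dvd φ x q hxq hdvd
  exact hw1 (hfpf x hx1 w hw)

/-- A group acting fixed-point-freely on a nontrivial finite abelian group is cyclic if it is
abelian or its order is a product of two primes. -/
theorem fpf_isCyclic {A V : Type*} [Group A] [Finite A] [CommGroup V] [Finite V]
    [Nontrivial V] (φ : A →* MulAut V)
    (hfpf : ∀ a : A, a ≠ 1 → ∀ v : V, φ a v = v → v = 1)
    (hA : (∀ a b : A, a * b = b * a) ∨ ∃ p q : ℕ, p.Prime ∧ q.Prime ∧ Nat.card A = p * q) :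
    IsCyclic A := by
  rcases hA with hcomm | ⟨p, q, hp, hq, hcard⟩
  · exact fpf_isCyclic_of_comm φ hfpf hcomm
  · rcases lt_trichotomy p q with h | h | h
    · exact fpf_isCyclic_of_card_eq_mul_aux φ hfpf p q hp hq h hcard
    · have hpf : Fact p.Prime := ⟨hp⟩
      have hc : Nat.card A = p ^ 2 := by rw [hcard, ← h, sq]
      have hcomm := IsPGroup.isMulCommutative_of_card_eq_prime_sq hc
      exact fpf_isCyclic_of_comm φ hfpf hcomm.is_comm.comm
    · exact fpf_isCyclic_of_card_eq_mul_aux φ hfpf q p hq hp h (by rw [hcard, mul_comm])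

end Cfsg.Agent.Lib.Helper91
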