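import Mathlib
import Cfsg.Agent.Lib.Helper80.CharKer
import Cfsg.Agent.Lib.Helper80.Eigen
import Cfsg.Agent.Lib.Helper17.Simple
import Cfsg.Agent.Lib.Helper17.PrimeDegree
import Cfsg.Agent.S0989

set_option autoImplicit false

/-!
# Tools for excluding simple groups of a given order (character values, determinants, `n_p = p + 1`)
-/

namespace Cfsg.Agent.Lib.Helper91.SS

open Cfsg

variable {G : Type*} [Group G]

/-- The determinant of a representation is trivial on a simple group of non-prime order. -/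
theorem det_rep_eq_one [IsSimpleGroup G] (hG : ¬ (Nat.card G).Prime) {V : Type*} [AddCommGroup V]
    [Module ℂ V] (ρ : Representation ℂ G V) (g : G) : LinearMap.det (ρ g) = 1 := by
  let ψ0 : G →* ℂ := (LinearMap.det : (V →ₗ[ℂ] V) →* ℂ).comp ρ
  let ψ : G →* ℂˣ := ψ0.toHomUnits
  rcases (MonoidHom.normal_ker ψ).eq_bot_or_eq_top with h | h
  · exfalso
    apply Cfsg.Agent.Lib.Helper17.not_comm_of_not_prime hG
    have hinj : Function.Injective ψ := (MonoidHom.ker_eq_bot_iff ψ).mp h
    exact ⟨⟨fun a b => hinj (by rw [map_mul, map_mul, mul_comm])⟩⟩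
  · have hg : g ∈ ψ.ker := h ▸ Subgroup.mem_top g
    have h1 : ψ g = 1 := hg
    have h2 : ((ψ g : ℂˣ) : ℂ) = ψ0 g := MonoidHom.coe_toHomUnits ψ0 g
    rw [h1] at h2
    have h3 : ψ0 g = LinearMap.det (ρ g) := rfl
    rw [← h3, ← h2]
    rfl

/-- In a simple group of non-prime order, `χ(1) - χ(t)` is divisible by `4` for every involution
`t` and every character `χ`. -/
theorem mod_four [Finite G] [IsSimpleGroup G] (hG : ¬ (Nat.card G).Prime) {χ : G → ℂ}
    (hχ : IsCharacter G χ) (t : G) (ht : t * t = 1) : ∃ k : ℕ, χ t + 4 * (k : ℂ) = χ 1 := by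
  classical
  obtain ⟨n, ρ, rfl⟩ := hχ
  obtain ⟨ι, hι, v, μ, hv, -, -⟩ := Cfsg.Agent.Lib.Helper80.exists_eigenbasis ρ t
  have hμ2 : ∀ i, μ i = 1 ∨ μ i = -1 := by
    intro i
    have h1 : ρ t (ρ t (v i)) = v i := by
      have : ρ t * ρ t = 1 := by rw [← map_mul, ht, map_one]
      have h' := congrArg (fun f => f (v i)) this
      simpa using h'
    rw [hv i, map_smul, hv i, smul_smul] at h1
    have h2 : (μ i * μ i - 1) • v i = 0 := by rw [sub_smul, h1, one_smul, sub_self]
    have h3 := (smul_eq_zero.mp h2).resolve_right (v.ne_zero i)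
    have h4 : (μ i - 1) * (μ i + 1) = 0 := by linear_combination h3
    rcases mul_eq_zero.mp h4 with h | h
    · left; linear_combination h
    · right; linear_combination h
  have htr : ρ.character t = ∑ i, μ i :=
    Cfsg.Agent.Lib.Helper80.trace_eq_sum_of_eigenbasis (ρ t) v μ hv
  have hdet : LinearMap.det (ρ t) = ∏ i, μ i := by
    rw [← LinearMap.det_toMatrix v]
    have : LinearMap.toMatrix v v (ρ t) = Matrix.diagonal μ := by
      ext i j
      rw [LinearMap.toMatrix_apply, hv j, map_smul, Finsupp.smul_apply, Module.Basis.repr_self,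
        Matrix.diagonal_apply]
      by_cases h : i = j
      · subst h; simp
      · simp [h, Finsupp.single_apply, Ne.symm h]
    rw [this, Matrix.det_diagonal]
  have hone : ρ.character 1 = (Fintype.card ι : ℂ) := by
    rw [Representation.char_one, Module.finrank_eq_card_basis v]
  set S := Finset.univ.filter (fun i => μ i = -1) with hS
  have hsum : ∑ i, μ i = (Fintype.card ι : ℂ) - 2 * (S.card : ℂ) := by
    have h1 : ∀ i, μ i = 1 - 2 * (if μ i = -1 then (1 : ℂ) else 0) := by
      intro i
      rcases hμ2 i with h | h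
      · rw [h]; norm_num
      · rw [h]; norm_num
    rw [Finset.sum_congr rfl (fun i _ => h1 i), Finset.sum_sub_distrib, ← Finset.mul_sum,
      Finset.sum_boole]
    simp [hS]
  have hprod : ∏ i, μ i = (-1 : ℂ) ^ S.card := by
    have h1 : ∀ i, μ i = if μ i = -1 then (-1 : ℂ) else 1 := by
      intro i
      rcases hμ2 i with h | h
      · rw [h]; norm_num
      · rw [h]; norm_num
    rw [Finset.prod_congr rfl (fun i _ => h1 i), Finset.prod_ite]
    simp [hS]
  have hdet1 := det_rep_eq_one hG ρ t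
  rw [hdet, hprod] at hdet1
  have hev : Even S.card := by
    by_contra h
    rw [Nat.not_even_iff_odd] at h
    rw [h.neg_one_pow] at hdet1
    norm_num at hdet1
  obtain ⟨k, hk⟩ := hev
  refine ⟨k, ?_⟩
  rw [htr, hsum, hone, hk]
  push_cast
  ring

/-- In a simple group, a nonlinear irreducible character is faithful. -/
theorem eq_one_of_char_eq [Finite G] [IsSimpleGroup G] (χ : IrrCharacter G)
    (hχ : (χ : G → ℂ) 1 ≠ 1) (g : G) (h : (χ : G → ℂ) g = (χ : G → ℂ) 1) : g = 1 := by
  have hmem : g ∈ Cfsg.Agent.Lib.Helper80.irrKer χ := (Cfsg.Agent.Lib.Helper80.mem_irrKer χ g).mpr h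
  rcases (Cfsg.Agent.Lib.Helper80.irrKer_normal χ).eq_bot_or_eq_top with hb | ht
  · rw [hb] at hmem
    exact Subgroup.mem_bot.mp hmem
  · exfalso
    have hall : ∀ x, (χ : G → ℂ) x = (χ : G → ℂ) 1 := fun x =>
      (Cfsg.Agent.Lib.Helper80.mem_irrKer χ x).mp (ht ▸ Subgroup.mem_top x)
    have := Fintype.ofFinite G
    have h1 := Cfsg.Agent.Lib.Helper80.sum_norm_sq_eq_card χ.2
    have hd := Cfsg.Agent.Lib.Helper80.char_one_eq_charDegree
      (Cfsg.Agent.Lib.Helper80.isCharacter_of_isIrrCharacter χ.2)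
    have h2 : ∀ x, ‖(χ : G → ℂ) x‖ ^ 2 = ((Cfsg.charDegree (χ : G → ℂ) : ℝ)) ^ 2 := by
      intro x
      rw [hall x, hd, Complex.norm_natCast]
    rw [Finset.sum_congr rfl (fun x _ => h2 x), Finset.sum_const, Finset.card_univ,
      ← Nat.card_eq_fintype_card, nsmul_eq_mul] at h1
    have hpos : (0 : ℝ) < (Nat.card G : ℝ) := by exact_mod_cast Nat.card_pos
    have h3 : ((Cfsg.charDegree (χ : G → ℂ) : ℝ)) ^ 2 = 1 := by
      have := mul_left_cancel₀ hpos.ne' (h1.trans (mul_one _).symm)
      exact this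
    have h4 : Cfsg.charDegree (χ : G → ℂ) ^ 2 = 1 := by exact_mod_cast h3
    have h5 : Cfsg.charDegree (χ : G → ℂ) = 1 := by
      rcases Nat.eq_zero_or_pos (Cfsg.charDegree (χ : G → ℂ)) with h0 | h0
      · rw [h0] at h4; norm_num at h4
      · nlinarith
    apply hχ
    rw [hd, h5]
    simp

/-- In a simple group with a subgroup of index `p + 1`, the normalizer of a Sylow `p`-subgroup
has order dividing `p * (p - 1)`. -/
theorem card_normalizer_dvd_of_index_succ [Finite G] [IsSimpleGroup G] (H : Subgroup G) (p : ℕ)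
    [Fact p.Prime] (hH : H.index = p + 1) (hpG : p ∣ Nat.card G) (P : Sylow p G) :
    Nat.card (Subgroup.normalizer ((P : Subgroup G) : Set G)) ∣ p * (p - 1) := by
  classical
  have hpp : p.Prime := Fact.out
  have : Fintype (G ⧸ H) := Fintype.ofFinite _
  have hcard : Fintype.card (G ⧸ H) = p + 1 := by
    rw [← hH, Subgroup.index, Nat.card_eq_fintype_card]
  have hHtop : H ≠ ⊤ := by
    intro h
    rw [h, Subgroup.index_top] at hH
    have := hpp.one_lt
    omega
  set φ := MulAction.toPermHom G (G ⧸ H) with hφ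
  have hinj : Function.Injective φ := by
    rw [← MonoidHom.ker_eq_bot_iff, hφ, ← Subgroup.normalCore_eq_ker]
    rcases (H.normalCore_normal).eq_bot_or_eq_top with h | h
    · exact h
    · exact absurd (top_le_iff.mp (h ▸ Subgroup.normalCore_le H)) hHtop
  have hpP : p ∣ Nat.card (P : Subgroup G) := P.dvd_card_of_dvd_card hpG
  obtain ⟨Q, hQ⟩ := (P.2.map φ).exists_le_sylow
  have hcardQ : Nat.card (Q : Subgroup (Equiv.Perm (G ⧸ H))) = p := by
    rw [Sylow.card_eq_multiplicity, Nat.card_eq_fintype_card, Fintype.card_perm,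
      Cfsg.Agent.S0989.factorization_factorial_eq_one p _ hpp (by rw [hcard]; omega)
        (by rw [hcard]; have := hpp.two_le; omega), pow_one]
  have hcardP' : Nat.card ((P : Subgroup G).map φ) = Nat.card (P : Subgroup G) :=
    Subgroup.card_map_of_injective hinj
  have hPQ : (P : Subgroup G).map φ = (Q : Subgroup (Equiv.Perm (G ⧸ H))) := by
    apply Subgroup.eq_of_le_of_card_ge hQ
    rw [hcardQ, hcardP']
    exact Nat.le_of_dvd Nat.card_pos hpP
  have h1 : (Subgroup.normalizer ((P : Subgroup G) : Set G)).map φ ≤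
      Subgroup.normalizer ((Q : Subgroup (Equiv.Perm (G ⧸ H))) : Set (Equiv.Perm (G ⧸ H))) := by
    rw [← hPQ]
    exact Subgroup.le_normalizer_map φ
  have h2 := Subgroup.card_dvd_of_le h1
  rw [Subgroup.card_map_of_injective hinj,
    Cfsg.Agent.S0989.result p (Or.inr hcard) Q] at h2
  exact h2

/-- In a simple group with `n_p = p + 1`, the normalizer of a Sylow `p`-subgroup has order
dividing `p * (p - 1)`. -/
theorem card_normalizer_dvd_of_card_sylow_succ [Finite G] [IsSimpleGroup G] (p : ℕ)
    [Fact p.Prime] (hn : Nat.card (Sylow p G) = p + 1) (hpG : p ∣ Nat.card G) (P : Sylow p G) :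
    Nat.card (Subgroup.normalizer ((P : Subgroup G) : Set G)) ∣ p * (p - 1) := by
  apply card_normalizer_dvd_of_index_succ _ p _ hpG P
  · exact Subgroup.normalizer ((P : Subgroup G) : Set G)
  · rw [← hn]
    exact (P.card_eq_index_normalizer).symm

end Cfsg.Agent.Lib.Helper91.SS
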