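import Mathlib
import Cfsg.Agent.Lib.Helper90.BrauerDeg
import Cfsg.Agent.Lib.Helper79.PrincSq
import Cfsg.Agent.Lib.Helper79.Linear

set_option autoImplicit false
set_option maxHeartbeats 800000

/-!
# The principal block of a simple group with a Sylow subgroup of prime order (character form)

A version of helper90's `brauer_degrees` (built on S4709) that keeps the characters:
values on `p`-singular elements, the relation on `p`-regular elements, the restriction of an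
exceptional character to `P`, and reality of a non-exceptional character of unique degree.
-/

namespace Cfsg.Agent.Lib.Helper91.SS

open Cfsg

variable {G : Type*} [Group G] [Finite G]

theorem brauer_chars [IsSimpleGroup G] (hG : ¬ (Nat.card G).Prime) (p : ℕ) [Fact p.Prime]
    (P : Sylow p G) (hP : Nat.card (P : Subgroup G) = p) (m : ℕ) (hm2 : m + 1 < p)
    (hCN : (Subgroup.centralizer ((P : Subgroup G) : Set G)).relIndex
      (Subgroup.normalizer ((P : Subgroup G) : Set G)) = m) :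
    ∃ (k : ℕ) (χ : Fin k → IrrCharacter G) (a : Fin k → ℤ) (η : IrrCharacter G) (d δ : ℤ),
      k + 1 ≤ m ∧ (δ = 1 ∨ δ = -1) ∧
      (∀ i, a i ≠ 0 ∧ (χ i : G → ℂ) 1 ≠ 1 ∧
         ∀ z y : G, IsPPart p z y → y ∈ (P : Subgroup G) → y ≠ 1 →
           (χ i : G → ℂ) z = (a i : ℂ)) ∧
      (η : G → ℂ) 1 ≠ 1 ∧
      (∀ z y : G, IsPPart p z y → y ∈ (P : Subgroup G) → y ≠ 1 →
          (η : G → ℂ) z = (η : G → ℂ) y) ∧
      ((d - δ) ^ 2 + ((((p - 1) / m : ℕ) : ℤ) - 1) * d ^ 2 + 1 + ∑ i, a i ^ 2 = (m : ℤ) + 1) ∧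
      (∀ g : G, ¬ p ∣ orderOf g →
          ((((p - 1) / m : ℕ) : ℂ) * d - δ) * (η : G → ℂ) g + 1 +
            ∑ i, (a i : ℂ) * (χ i : G → ℂ) g = 0) ∧
      (∃ j nP : ℕ, 1 ≤ j ∧ j + 1 ≤ p ∧
          ∑ᶠ y : (P : Subgroup G), (η : G → ℂ) (y : G) = (p : ℂ) * (nP : ℂ) ∧
          (p : ℤ) * (nP : ℤ) = (Cfsg.charDegree (η : G → ℂ) : ℤ) + ((p : ℤ) - 1) * d - δ * (j : ℤ)) ∧
      (∀ i, (χ i : G → ℂ) 1 ≠ (η : G → ℂ) 1 →
          (∀ i', i' ≠ i → (χ i' : G → ℂ) 1 ≠ (χ i : G → ℂ) 1) →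
          ∀ g, (χ i : G → ℂ) g⁻¹ = (χ i : G → ℂ) g) := by
  classical
  have hpp : p.Prime := Fact.out
  obtain ⟨M, hMmax, hMp⟩ :=
    Cfsg.Agent.Lib.Helper79.exists_maximal_ideal_natCast_mem p hpp.one_lt
  have hM : Cfsg.IsPModular p M := ⟨hpp, hMmax, hMp⟩
  have hcyc : IsCyclic (P : Subgroup G) := isCyclic_of_prime_card hP
  have hab : IsMulCommutative P :=
    ⟨⟨fun a b => (IsCyclic.commGroup (α := (P : Subgroup G))).mul_comm a b⟩⟩
  have hcardP : Nat.card P = p := hP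
  have hP1 : Nat.card P ≠ 1 := by
    rw [hcardP]; exact hpp.one_lt.ne'
  have hm2' : m + 1 < Nat.card P := by
    rw [hcardP]; exact hm2
  have hperf := Cfsg.Agent.Lib.Helper90.BrauerDeg.commutator_eq_top_of_simple hG
  obtain ⟨hr1, -, hr3, -⟩ := Cfsg.Agent.Lib.Helper17.relIndex_centralizer_sylow_prime hG p P hP
  rw [hCN] at hr1 hr3
  have hm0 : m ≠ 0 := by
    rintro rfl
    rw [zero_mul] at hr3
    exact Nat.card_pos.ne' hr3.symm
  have hm1 : 1 < m := by omega
  have hgen := Cfsg.Agent.Lib.Helper90.BrauerDeg.exists_gen_normalizer p (P : Subgroup G) hP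
  have hcentP : ∀ y : G, y ∈ (P : Subgroup G) → y ≠ 1 → ∀ c : G, Commute c y →
      c ∈ Subgroup.centralizer ((P : Subgroup G) : Set G) := by
    intro y hy hy1 c hc
    have hz := Cfsg.Agent.Lib.Helper17.zpowers_eq_of_mem_of_card_prime hpp (P : Subgroup G) hP y hy hy1
    rw [Subgroup.mem_centralizer_iff]
    intro w hw
    have hw' : w ∈ Subgroup.zpowers y := by rw [hz]; exact hw
    obtain ⟨j, rfl⟩ := Subgroup.mem_zpowers_iff.mp hw'
    exact ((hc.zpow_right j).eq).symm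
  have hfrob : ∀ y : G, y ∈ (P : Subgroup G) → y ≠ 1 →
      Subgroup.centralizer ({y} : Set G) ⊓ Subgroup.normalizer ((P : Subgroup G) : Set G) =
        Subgroup.centralizer ((P : Subgroup G) : Set G) := by
    intro y hy hy1
    apply le_antisymm
    · intro c hc
      rw [Subgroup.mem_inf] at hc
      refine hcentP y hy hy1 c ?_
      have := Subgroup.mem_centralizer_iff.mp hc.1 y rfl
      exact this.symm
    · intro c hc
      rw [Subgroup.mem_inf]
      refine ⟨?_, Subgroup.centralizer_le_normalizer _ hc⟩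
      rw [Subgroup.mem_centralizer_iff]
      intro w hw
      rw [Set.mem_singleton_iff] at hw
      subst hw
      exact Subgroup.mem_centralizer_iff.mp hc w hy
  obtain ⟨s, X, Y, hs, hB, hdisj, hXcard, hYcard, ⟨χ₁, hχ₁X, hχ₁⟩, a, d, δ, ζ, hδ, hX, hζY, hYζ,
    -, hζval, hrel, hYreg, hfinal⟩ :=
    Cfsg.Agent.S4709.result p M hM P hab hP1 m hm1 hm2' hCN hgen hfrob
  -- a nonidentity element of P
  obtain ⟨y₀, hy₀P, hy₀1⟩ : ∃ y₀ : G, y₀ ∈ (P : Subgroup G) ∧ y₀ ≠ 1 := by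
    have hne : (P : Subgroup G) ≠ ⊥ := by
      intro h
      have h1 : Nat.card (P : Subgroup G) = 1 := by rw [h]; exact Subgroup.card_bot
      rw [hP] at h1
      exact hpp.one_lt.ne' h1
    obtain ⟨w, hw⟩ := Subgroup.ne_bot_iff_exists_ne_one.mp hne
    exact ⟨(w : G), w.2, fun h => hw (Subtype.ext h)⟩
  have hpart : ∀ y : G, y ∈ (P : Subgroup G) → y ≠ 1 → Cfsg.IsPPart p y y := by
    intro y hy hy1
    refine ⟨1, mul_one y, Commute.one_right y, ⟨1, ?_⟩, ?_⟩
    · rw [pow_one]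
      exact Cfsg.Agent.Lib.Helper17.orderOf_eq_of_mem_of_card_prime hpp (P : Subgroup G) hP y hy hy1
    · rw [orderOf_one]
      exact hpp.one_lt.ne' ∘ Nat.dvd_one.mp
  have hreg1 : ¬ p ∣ orderOf (1 : G) := by
    rw [orderOf_one]
    exact hpp.one_lt.ne' ∘ Nat.dvd_one.mp
  have hval : ∀ χ ∈ X, ∀ y : G, y ∈ (P : Subgroup G) → y ≠ 1 →
      (χ : G → ℂ) y = (a χ : ℂ) := fun χ hχ y hy hy1 => (hX χ hχ).2 y y (hpart y hy hy1) hy hy1
  have ha1 : a χ₁ = 1 := by
    have h := hval χ₁ hχ₁X y₀ hy₀P hy₀1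
    rw [hχ₁] at h
    have h' : (1 : ℂ) = (a χ₁ : ℂ) := h
    exact_mod_cast h'.symm
  have hχ₁1 : ∀ g, (χ₁ : G → ℂ) g = 1 := by intro g; rw [hχ₁]
  -- Y is nonempty
  have hr : 0 < (p - 1) / m := Nat.div_pos (by omega) (by omega)
  have hYne : Nat.card Y ≠ 0 := by
    rw [hYcard, hcardP]; exact hr.ne'
  obtain ⟨⟨η, hη⟩⟩ := (Nat.card_ne_zero.mp hYne).1
  -- index the nontrivial members of X by Fin k
  have hXfin : X.Finite := Set.toFinite X
  have hSfin : (X \ {χ₁}).Finite := hXfin.subset Set.sdiff_subset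
  have : Finite ↥(X \ {χ₁}) := hSfin.to_subtype
  let _ : Fintype ↥(X \ {χ₁}) := Fintype.ofFinite _
  obtain ⟨k, hk⟩ : ∃ k, k = Nat.card ↥(X \ {χ₁}) := ⟨_, rfl⟩
  have e : ↥(X \ {χ₁}) ≃ Fin k := hk ▸ Finite.equivFin _
  have hk1 : k + 1 ≤ m := by
    have h1 : Nat.card X = X.ncard := Nat.card_coe_set_eq X
    have h2 : Nat.card ↥(X \ {χ₁}) = (X \ {χ₁}).ncard := Nat.card_coe_set_eq _
    have h3 := Set.ncard_sdiff_singleton_add_one hχ₁X hXfin
    omega
  have hsplit : ∀ f : Cfsg.IrrCharacter G → ℤ,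
      ∑ᶠ χ ∈ X, f χ = f χ₁ + ∑ i : Fin k, f (e.symm i : Cfsg.IrrCharacter G) := by
    intro f
    have hins : X = insert χ₁ (X \ {χ₁}) := by
      rw [Set.insert_sdiff_singleton, Set.insert_eq_of_mem hχ₁X]
    conv_lhs => rw [hins]
    rw [finsum_mem_insert f (by simp) hSfin]
    congr 1
    rw [← finsum_set_coe_eq_finsum_mem, finsum_eq_sum_of_fintype]
    exact (Equiv.sum_comp e.symm (fun j : ↥(X \ {χ₁}) => f (j : Cfsg.IrrCharacter G))).symm
  have hsplitC : ∀ f : Cfsg.IrrCharacter G → ℂ,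
      ∑ᶠ χ ∈ X, f χ = f χ₁ + ∑ i : Fin k, f (e.symm i : Cfsg.IrrCharacter G) := by
    intro f
    have hins : X = insert χ₁ (X \ {χ₁}) := by
      rw [Set.insert_sdiff_singleton, Set.insert_eq_of_mem hχ₁X]
    conv_lhs => rw [hins]
    rw [finsum_mem_insert f (by simp) hSfin]
    congr 1
    rw [← finsum_set_coe_eq_finsum_mem, finsum_eq_sum_of_fintype]
    exact (Equiv.sum_comp e.symm (fun j : ↥(X \ {χ₁}) => f (j : Cfsg.IrrCharacter G))).symm
  have hmem : ∀ i : Fin k, (e.symm i : Cfsg.IrrCharacter G) ∈ X ∧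
      (e.symm i : Cfsg.IrrCharacter G) ≠ χ₁ := by
    intro i
    have := (e.symm i).2
    exact ⟨this.1, fun h => this.2 (by simpa using h)⟩
  -- a linear irreducible character is trivial
  have hlin : ∀ θ : Cfsg.IrrCharacter G, (θ : G → ℂ) 1 = 1 → θ = χ₁ := by
    intro θ h11
    apply Subtype.ext
    rw [hχ₁]
    funext g
    exact Cfsg.Agent.Lib.Helper79.linear_irr_commutator θ.2 h11
      (by rw [hperf]; exact Subgroup.mem_top g)
  have hdeg1 : ∀ i : Fin k, ((e.symm i : Cfsg.IrrCharacter G) : G → ℂ) 1 ≠ 1 := by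
    intro i h11
    exact (hmem i).2 (hlin _ h11)
  have hη1 : (η : G → ℂ) 1 ≠ 1 := by
    intro h11
    have := hlin η h11
    rw [this] at hη
    exact (Set.disjoint_left.mp hdisj hχ₁X) hη
  obtain ⟨ψ, hψ1, hψη⟩ := hYζ η hη
  -- the orbit of ψ
  set O : Set (↥(P : Subgroup G) →* ℂˣ) := {ψ' : ↥(P : Subgroup G) →* ℂˣ |
    ∃ n : G, n ∈ Subgroup.normalizer ((P : Subgroup G) : Set G) ∧
      ∀ w w' : ↥(P : Subgroup G), (w' : G) = n * w * n⁻¹ → ψ' w' = ψ w} with hO
  have hηval : ∀ (z : G) (y : ↥(P : Subgroup G)), Cfsg.IsPPart p z (y : G) → (y : G) ≠ 1 →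
      (η : G → ℂ) z = (d : ℂ) + (δ : ℂ) * ∑ᶠ ψ' ∈ O, ((ψ' y : ℂˣ) : ℂ) := by
    intro z y hz hy1
    rw [← hψη]
    exact hζval ψ hψ1 z y hz hy1
  refine ⟨k, fun i => (e.symm i : Cfsg.IrrCharacter G), fun i => a (e.symm i : Cfsg.IrrCharacter G),
    η, d, δ, hk1, hδ, ?_, hη1, ?_, ?_, ?_, ?_, ?_⟩
  · intro i
    exact ⟨(hX _ (hmem i).1).1, hdeg1 i, (hX _ (hmem i).1).2⟩
  · intro z y hz hyP hy1
    rw [hηval z ⟨y, hyP⟩ hz hy1, hηval y ⟨y, hyP⟩ (hpart y hyP hy1) hy1]
  · have h := hrel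
    rw [hsplit (fun χ => a χ ^ 2), ha1] at h
    rw [hcardP] at h
    have hdiv : ((p : ℤ) - 1) / (m : ℤ) = (((p - 1) / m : ℕ) : ℤ) := by
      rw [Int.natCast_div, Nat.cast_sub hpp.one_lt.le, Nat.cast_one]
    rw [hdiv] at h
    linarith
  · intro g hg
    have h := hfinal η hη g hg
    rw [hsplitC (fun χ => (a χ : ℂ) * (χ : G → ℂ) g), ha1, hχ₁1 g] at h
    rw [hcardP] at h
    push_cast at h ⊢
    linear_combination h
  · -- restriction of η to P
    have : Finite (↥(P : Subgroup G) →* ℂˣ) := Cfsg.Agent.Lib.Helper79.finite_monoidHom_units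
    let _ : Fintype (↥(P : Subgroup G) →* ℂˣ) := Fintype.ofFinite _
    let _ : Fintype ↥(P : Subgroup G) := Fintype.ofFinite _
    have hOfin : O.Finite := Set.toFinite O
    set Ofin := hOfin.toFinset with hOfin_def
    have hmemO : ∀ ψ', ψ' ∈ Ofin ↔ ψ' ∈ O := fun ψ' => hOfin.mem_toFinset
    have hψO : ψ ∈ O := by
      refine ⟨1, Subgroup.one_mem _, ?_⟩
      intro w w' hww'
      have : w' = w := Subtype.ext (by rw [hww']; group)
      rw [this]
    have hO1 : ∀ ψ' ∈ O, ψ' ≠ 1 := by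
      rintro ψ' ⟨n, hn, hψ'⟩ rfl
      apply hψ1
      ext w
      have hmemP : n * (w : G) * n⁻¹ ∈ (P : Subgroup G) :=
        (Subgroup.mem_normalizer_iff.mp hn (w : G)).mp w.2
      have := hψ' w ⟨n * (w : G) * n⁻¹, hmemP⟩ rfl
      rw [← this]
      simp
    have hsum1 : ∀ ψ' ∈ Ofin, ∑ y ∈ (Finset.univ : Finset ↥(P : Subgroup G)).erase 1,
        ((ψ' y : ℂˣ) : ℂ) = -1 := by
      intro ψ' hψ'
      have hne : ψ' ≠ 1 := hO1 ψ' ((hmemO ψ').mp hψ')
      have hf : ((Units.coeHom ℂ).comp ψ' : ↥(P : Subgroup G) →* ℂ) ≠ 1 := by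
        intro h
        apply hne
        ext w
        have := congrArg (fun f : ↥(P : Subgroup G) →* ℂ => f w) h
        simpa using this
      have h0 := sum_hom_units_eq_zero ((Units.coeHom ℂ).comp ψ') hf
      rw [← Finset.add_sum_erase Finset.univ _ (Finset.mem_univ (1 : ↥(P : Subgroup G)))] at h0
      simp only [MonoidHom.coe_comp, Function.comp_apply, map_one, Units.coeHom_apply,
        Units.val_one] at h0
      linear_combination h0
    have hcardO : Ofin.card + 1 ≤ p := by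
      have hsub : Ofin ⊆ (Finset.univ : Finset (↥(P : Subgroup G) →* ℂˣ)).erase 1 := by
        intro ψ' hψ'
        rw [Finset.mem_erase]
        exact ⟨hO1 ψ' ((hmemO ψ').mp hψ'), Finset.mem_univ _⟩
      have h1 := Finset.card_le_card hsub
      rw [Finset.card_erase_of_mem (Finset.mem_univ _), Finset.card_univ,
        ← Nat.card_eq_fintype_card, Cfsg.Agent.Lib.Helper79.card_monoidHom_units] at h1
      have hcomm : commutator ↥(P : Subgroup G) = ⊥ := by
        rw [commutator_eq_bot_iff_center_eq_top]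
        ext x
        simp only [Subgroup.mem_center_iff, Subgroup.mem_top, iff_true]
        intro g
        exact hab.1.1 g x
      rw [hcomm, Subgroup.index_bot, hcardP] at h1
      have := hpp.one_lt
      omega
    have hcard1 : 1 ≤ Ofin.card :=
      Finset.card_pos.mpr ⟨ψ, (hmemO ψ).mpr hψO⟩
    have hsumP : ∑ y : ↥(P : Subgroup G), (η : G → ℂ) (y : G) =
        (η : G → ℂ) 1 + ((p : ℂ) - 1) * (d : ℂ) - (δ : ℂ) * (Ofin.card : ℂ) := by
      rw [← Finset.add_sum_erase Finset.univ _ (Finset.mem_univ (1 : ↥(P : Subgroup G)))]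
      have hterm : ∀ y ∈ (Finset.univ : Finset ↥(P : Subgroup G)).erase 1,
          (η : G → ℂ) (y : G) = (d : ℂ) + (δ : ℂ) * ∑ ψ' ∈ Ofin, ((ψ' y : ℂˣ) : ℂ) := by
        intro y hy
        have hy1 : (y : G) ≠ 1 := by
          intro h
          exact (Finset.ne_of_mem_erase hy) (Subtype.ext h)
        rw [hηval (y : G) y (hpart (y : G) y.2 hy1) hy1,
          finsum_mem_eq_finite_toFinset_sum _ hOfin]
      rw [Finset.sum_congr rfl hterm, Finset.sum_add_distrib, ← Finset.mul_sum, Finset.sum_comm,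
        Finset.sum_congr rfl hsum1, Finset.sum_const, Finset.sum_const,
        Finset.card_erase_of_mem (Finset.mem_univ _), Finset.card_univ,
        ← Nat.card_eq_fintype_card, hcardP]
      simp only [OneMemClass.coe_one, nsmul_eq_mul]
      rw [Nat.cast_sub hpp.one_lt.le, Nat.cast_one]
      ring
    obtain ⟨nP, hnP⟩ := Cfsg.Agent.Lib.Helper79.irr_sum_subgroup η.2 (P : Subgroup G)
    rw [hcardP] at hnP
    refine ⟨Ofin.card, nP, hcard1, hcardO, ?_, ?_⟩
    · rw [finsum_eq_sum_of_fintype]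
      exact hnP
    · have h1 := (Cfsg.Agent.Lib.Helper79.irr_charDegree η.2).1
      have h2 : ((p : ℂ) * (nP : ℂ)) =
          (Cfsg.charDegree (η : G → ℂ) : ℂ) + ((p : ℂ) - 1) * (d : ℂ) - (δ : ℂ) * (Ofin.card : ℂ) := by
        rw [← hnP, hsumP, h1]
      exact_mod_cast h2
  · -- reality
    intro i hne huniq g
    have hN : 0 < Nat.card G := Nat.card_pos
    have hk' : Nat.Coprime (Nat.card G - 1) (Nat.card G) := by
      have h1 : Nat.Coprime (Nat.card G - 1) (Nat.card G - 1 + 1) := by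
        rw [Nat.coprime_self_add_right]
        exact Nat.coprime_one_right _
      rwa [Nat.sub_add_cancel hN] at h1
    set θ := Cfsg.Agent.Lib.Helper79.powIrr hk' (e.symm i : Cfsg.IrrCharacter G) with hθ
    have hθval : ∀ x : G, (θ : G → ℂ) x =
        ((e.symm i : Cfsg.IrrCharacter G) : G → ℂ) (x ^ (Nat.card G - 1)) := fun x => rfl
    have hpowinv : ∀ x : G, x ^ (Nat.card G - 1) = x⁻¹ := by
      intro x
      have h1 : x ^ (Nat.card G - 1) * x = 1 := by
        rw [← pow_succ, Nat.sub_add_cancel hN, pow_card_eq_one']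
      exact eq_inv_of_mul_eq_one_left h1
    have hθ1 : (θ : G → ℂ) 1 = ((e.symm i : Cfsg.IrrCharacter G) : G → ℂ) 1 := by
      rw [hθval, one_pow]
    have hiB : (e.symm i : Cfsg.IrrCharacter G) ∈ Cfsg.principalBlock M G := by
      rw [hB]; exact Or.inl (hmem i).1
    have hθB : θ ∈ Cfsg.principalBlock M G :=
      Cfsg.Agent.Lib.Helper79.powIrr_mem_principalBlock hk' hiB
    rw [hB] at hθB
    rcases hθB with hθX | hθY
    · by_cases h1 : θ = χ₁
      · exfalso
        apply hdeg1 i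
        rw [← hθ1, h1, hχ₁1]
      · have hθmem : θ ∈ X \ {χ₁} := ⟨hθX, by simpa using h1⟩
        have hi' : (e.symm (e ⟨θ, hθmem⟩) : Cfsg.IrrCharacter G) = θ := by
          rw [Equiv.symm_apply_apply]
        by_cases hii : e ⟨θ, hθmem⟩ = i
        · rw [hii] at hi'
          have := hθval g
          rw [← hi', hpowinv] at this
          exact this.symm
        · exfalso
          apply huniq _ hii
          show ((e.symm (e ⟨θ, hθmem⟩) : Cfsg.IrrCharacter G) : G → ℂ) 1 =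
            ((e.symm i : Cfsg.IrrCharacter G) : G → ℂ) 1
          rw [hi', hθ1]
    · exfalso
      apply hne
      rw [← hθ1]
      exact hYreg θ hθY η hη 1 hreg1

end Cfsg.Agent.Lib.Helper91.SS
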