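import Mathlib
import Cfsg.Agent.Lib.Helper79.ClassMult
import Cfsg.Agent.Lib.Helper17.Count

set_option autoImplicit false

/-!
# Character sums over `P × ⟨c⟩` for a Sylow subgroup `P` of prime order
-/

namespace Cfsg.Agent.Lib.Helper91.SS

open Cfsg

variable {G : Type*} [Group G]

/-- Sum over a cyclic subgroup as a sum over a range. -/
theorem sum_zpowers_eq_sum_range [Finite G] (f : G → ℂ) (w : G) [Fintype (Subgroup.zpowers w)] :
    ∑ u : Subgroup.zpowers w, f (u : G) = ∑ i ∈ Finset.range (orderOf w), f (w ^ i) := by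
  have hw : IsOfFinOrder w := isOfFinOrder_of_finite w
  rw [← Fin.sum_univ_eq_sum_range (fun i => f (w ^ i)) (orderOf w)]
  exact (Fintype.sum_equiv (finEquivZPowers hw) (fun n => f (w ^ (n : ℕ)))
    (fun u => f (u : G)) (fun n => by rw [finEquivZPowers_apply])).symm

/-- Splitting a sum over `range (p * q)` into blocks of length `p`. -/
theorem sum_range_mul_block (F : ℕ → ℂ) (p q : ℕ) :
    ∑ i ∈ Finset.range (p * q), F i = ∑ j ∈ Finset.range q, ∑ r ∈ Finset.range p, F (p * j + r) := by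
  induction q with
  | zero => simp
  | succ q ih =>
    rw [Nat.mul_succ, Finset.sum_range_add, ih, Finset.sum_range_succ]

/-- **Key character sum.** Let `P` be a subgroup of prime order `p`, let `χ` be an irreducible
character taking the constant value `a` on all elements whose `p`-part is a nonidentity element
of `P`, and let `c` be an element of prime order `q ≠ p` centralizing `P`. Then the sum of `χ`
over the subgroup generated by `c ^ p` is `q * (p * n - (p - 1) * a)` for a natural number `n`. -/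
theorem sum_pow_centralizer [Finite G] {χ : G → ℂ} (hχ : IsIrrCharacter G χ) (p : ℕ)
    [Fact p.Prime] (P : Subgroup G) (hP : Nat.card P = p) (a : ℂ)
    (ha : ∀ z y : G, IsPPart p z y → y ∈ P → y ≠ 1 → χ z = a)
    (c : G) (hc : c ∈ Subgroup.centralizer (P : Set G)) (q : ℕ) (hq : q.Prime) (hqp : q ≠ p)
    (hcq : orderOf c = q) :
    ∃ n : ℕ, ∑ j ∈ Finset.range q, χ ((c ^ p) ^ j) =
      (q : ℂ) * ((p : ℂ) * (n : ℂ) - ((p : ℂ) - 1) * a) := by
  classical
  have hpp : p.Prime := Fact.out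
  -- a generator of P
  obtain ⟨x₀, hx₀P, hx₀1⟩ : ∃ x₀ : G, x₀ ∈ P ∧ x₀ ≠ 1 := by
    have hne : P ≠ ⊥ := by
      intro h
      have h1 : Nat.card P = 1 := by rw [h]; exact Subgroup.card_bot
      rw [hP] at h1
      exact hpp.one_lt.ne' h1
    obtain ⟨w, hw⟩ := Subgroup.ne_bot_iff_exists_ne_one.mp hne
    exact ⟨(w : G), w.2, fun h => hw (Subtype.ext h)⟩
  have hox : orderOf x₀ = p :=
    Cfsg.Agent.Lib.Helper17.orderOf_eq_of_mem_of_card_prime hpp P hP x₀ hx₀P hx₀1
  have hcomm : Commute x₀ c := by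
    have := Subgroup.mem_centralizer_iff.mp hc x₀ hx₀P
    exact this
  have hcop : Nat.Coprime p q := (Nat.coprime_primes hpp hq).mpr (Ne.symm hqp)
  set w := x₀ * c with hw
  have how : orderOf w = p * q := by
    rw [hw, hcomm.orderOf_mul_eq_mul_orderOf_of_coprime (by rw [hox, hcq]; exact hcop), hox, hcq]
  have hwpow : ∀ i : ℕ, w ^ i = x₀ ^ i * c ^ i := fun i => hcomm.mul_pow i
  let _ : Fintype (Subgroup.zpowers w) := Fintype.ofFinite _
  obtain ⟨n, hn⟩ := Cfsg.Agent.Lib.Helper79.irr_sum_subgroup hχ (Subgroup.zpowers w)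
  rw [sum_zpowers_eq_sum_range, how, Nat.card_zpowers, how, sum_range_mul_block] at hn
  -- evaluate each block
  have hp1 : p = (p - 1) + 1 := by have := hpp.one_lt; omega
  have hblock : ∀ j ∈ Finset.range q, ∑ r ∈ Finset.range p, χ (w ^ (p * j + r)) =
      χ ((c ^ p) ^ j) + ((p : ℂ) - 1) * a := by
    intro j _
    have h0 : χ (w ^ (p * j + 0)) = χ ((c ^ p) ^ j) := by
      rw [add_zero, hwpow, pow_mul, ← hox, pow_orderOf_eq_one, one_pow, one_mul, hox, ← pow_mul]
    have hr : ∀ r ∈ Finset.range (p - 1), χ (w ^ (p * j + (r + 1))) = a := by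
      intro r hr
      rw [Finset.mem_range] at hr
      have hx : x₀ ^ (p * j + (r + 1)) = x₀ ^ (r + 1) := by
        rw [pow_add, pow_mul, ← hox, pow_orderOf_eq_one, one_pow, one_mul]
      apply ha (w ^ (p * j + (r + 1))) (x₀ ^ (r + 1))
      · refine ⟨c ^ (p * j + (r + 1)), ?_, ?_, ⟨1, ?_⟩, ?_⟩
        · rw [hwpow, hx]
        · exact (hcomm.pow_pow (r + 1) (p * j + (r + 1)))
        · rw [pow_one]
          refine Cfsg.Agent.Lib.Helper17.orderOf_eq_of_mem_of_card_prime hpp P hP _
            (pow_mem hx₀P _) ?_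
          exact pow_ne_one_of_lt_orderOf (by omega) (by rw [hox]; omega)
        · intro hdvd
          have h1 : orderOf (c ^ (p * j + (r + 1))) ∣ q := hcq ▸ orderOf_pow_dvd _
          have h2 : p ∣ q := hdvd.trans h1
          exact hqp ((Nat.prime_dvd_prime_iff_eq hpp hq).mp h2).symm
      · exact pow_mem hx₀P _
      · exact pow_ne_one_of_lt_orderOf (by omega) (by rw [hox]; omega)
    have hsplit : ∀ f : ℕ → ℂ, ∑ r ∈ Finset.range p, f r =
        ∑ r ∈ Finset.range (p - 1), f (r + 1) + f 0 := by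
      intro f
      conv_lhs => rw [hp1]
      exact Finset.sum_range_succ' f (p - 1)
    rw [hsplit, h0, Finset.sum_congr rfl hr, Finset.sum_const, Finset.card_range,
      nsmul_eq_mul, add_comm]
    congr 1
    rw [Nat.cast_sub hpp.one_lt.le, Nat.cast_one]
  rw [Finset.sum_congr rfl hblock, Finset.sum_add_distrib, Finset.sum_const, Finset.card_range,
    nsmul_eq_mul] at hn
  refine ⟨n, ?_⟩
  push_cast at hn
  linear_combination hn

/-- An element `≠ 1` of a subgroup of prime order `p` is its own `p`-part. -/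
theorem isPPart_self {p : ℕ} (hp : p.Prime) (P : Subgroup G) (hP : Nat.card P = p) (y : G)
    (hy : y ∈ P) (hy1 : y ≠ 1) : IsPPart p y y := by
  refine ⟨1, mul_one y, Commute.one_right y, ⟨1, ?_⟩, ?_⟩
  · rw [pow_one]
    exact Cfsg.Agent.Lib.Helper17.orderOf_eq_of_mem_of_card_prime hp P hP y hy hy1
  · rw [orderOf_one]
    exact hp.one_lt.ne' ∘ Nat.dvd_one.mp

/-- Commuting with a nonidentity element of a subgroup of prime order means centralizing it. -/
theorem mem_centralizer_of_commute {p : ℕ} (hp : p.Prime) (P : Subgroup G) (hP : Nat.card P = p)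
    (y : G) (hy : y ∈ P) (hy1 : y ≠ 1) (c : G) (hc : Commute c y) :
    c ∈ Subgroup.centralizer (P : Set G) := by
  have hz := Cfsg.Agent.Lib.Helper17.zpowers_eq_of_mem_of_card_prime hp P hP y hy hy1
  rw [Subgroup.mem_centralizer_iff]
  intro w hw
  have hw' : w ∈ Subgroup.zpowers y := by rw [hz]; exact hw
  obtain ⟨j, rfl⟩ := Subgroup.mem_zpowers_iff.mp hw'
  exact ((hc.zpow_right j).eq).symm

/-- The value of a character of the principal block type at a central involution of `C(P)`. -/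
theorem sum_involution_centralizer [Finite G] {χ : G → ℂ} (hχ : IsIrrCharacter G χ) (p : ℕ)
    [Fact p.Prime] (hp2 : p ≠ 2) (P : Subgroup G) (hP : Nat.card P = p) (a : ℂ)
    (ha : ∀ z y : G, IsPPart p z y → y ∈ P → y ≠ 1 → χ z = a)
    (c : G) (hc : c ∈ Subgroup.centralizer (P : Set G)) (hc2 : orderOf c = 2) :
    ∃ t : G, t ≠ 1 ∧ t * t = 1 ∧ t ∈ Subgroup.centralizer (P : Set G) ∧
      ∃ n : ℕ, χ 1 + χ t = 2 * ((p : ℂ) * (n : ℂ) - ((p : ℂ) - 1) * a) := by
  have hpp : p.Prime := Fact.out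
  obtain ⟨n, hn⟩ := sum_pow_centralizer hχ p P hP a ha c hc 2 Nat.prime_two (Ne.symm hp2) hc2
  have hcop : Nat.Coprime (orderOf c) p := by
    rw [hc2]
    exact (Nat.coprime_primes Nat.prime_two hpp).mpr (Ne.symm hp2)
  have ho : orderOf (c ^ p) = 2 := by rw [hcop.orderOf_pow, hc2]
  refine ⟨c ^ p, ?_, ?_, pow_mem hc p, n, ?_⟩
  · intro h
    rw [h, orderOf_one] at ho
    omega
  · rw [← pow_two, ← ho, pow_orderOf_eq_one]
  · rw [Finset.sum_range_succ, Finset.sum_range_one, pow_zero, pow_one] at hn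
    rw [hn]
    push_cast
    ring

/-- The values of a character of the principal block type at an element of order `3` of
`C(P)`. -/
theorem sum_order_three_centralizer [Finite G] {χ : G → ℂ} (hχ : IsIrrCharacter G χ) (p : ℕ)
    [Fact p.Prime] (hp3 : p ≠ 3) (P : Subgroup G) (hP : Nat.card P = p) (a : ℂ)
    (ha : ∀ z y : G, IsPPart p z y → y ∈ P → y ≠ 1 → χ z = a)
    (c : G) (hc : c ∈ Subgroup.centralizer (P : Set G)) (hc3 : orderOf c = 3) :
    ∃ t : G, t ≠ 1 ∧ orderOf t = 3 ∧ t ∈ Subgroup.centralizer (P : Set G) ∧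
      ∃ n : ℕ, χ 1 + χ t + χ t⁻¹ = 3 * ((p : ℂ) * (n : ℂ) - ((p : ℂ) - 1) * a) := by
  have hpp : p.Prime := Fact.out
  obtain ⟨n, hn⟩ := sum_pow_centralizer hχ p P hP a ha c hc 3 Nat.prime_three (Ne.symm hp3) hc3
  have hcop : Nat.Coprime (orderOf c) p := by
    rw [hc3]
    exact (Nat.coprime_primes Nat.prime_three hpp).mpr (Ne.symm hp3)
  have ho : orderOf (c ^ p) = 3 := by rw [hcop.orderOf_pow, hc3]
  have hinv : (c ^ p) ^ 2 = (c ^ p)⁻¹ := by
    apply eq_inv_of_mul_eq_one_left
    have h3 : (c ^ p) ^ 3 = 1 := by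
      have := pow_orderOf_eq_one (c ^ p)
      rwa [ho] at this
    rw [← pow_succ]
    exact h3
  refine ⟨c ^ p, ?_, ho, pow_mem hc p, n, ?_⟩
  · intro h
    rw [h, orderOf_one] at ho
    omega
  · rw [Finset.sum_range_succ, Finset.sum_range_succ, Finset.sum_range_one, pow_zero, pow_one,
      hinv] at hn
    rw [hn]
    push_cast
    ring

end Cfsg.Agent.Lib.Helper91.SS
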