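import Mathlib
import Cfsg.Agent.Lib.Helper78.BLMain
import Cfsg.Agent.Lib.Helper90.BrauerDeg
import Cfsg.Agent.Lib.Helper79.PrincSq
import Cfsg.Agent.Lib.Helper79.Linear
import Cfsg.Agent.Lib.Helper91.SSSum

set_option autoImplicit false
set_option maxHeartbeats 800000

/-!
# The principal block of a simple group with a Sylow subgroup `P` of prime order `p` and
`[N(P) : C(P)] = p - 1`

All characters of the block take integer values `a_χ ≠ 0` on the `p`-singular elements with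
`p`-part in `P`; `∑ a_χ² = p` and `∑ a_χ χ(g) = 0` for `p`-regular `g`.
-/

namespace Cfsg.Agent.Lib.Helper91.SS

open Cfsg Cfsg.Agent.Lib.Helper78

variable {G : Type*} [Group G] [Finite G]

theorem brauer_top [IsSimpleGroup G] (hG : ¬ (Nat.card G).Prime) (p : ℕ) [Fact p.Prime]
    (P : Sylow p G) (hP : Nat.card (P : Subgroup G) = p)
    (hCN : (Subgroup.centralizer ((P : Subgroup G) : Set G)).relIndex
      (Subgroup.normalizer ((P : Subgroup G) : Set G)) = p - 1) :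
    ∃ (k : ℕ) (χ : Fin k → IrrCharacter G) (a : Fin k → ℤ), Function.Injective χ ∧
      (∀ i, a i ≠ 0 ∧ (χ i : G → ℂ) 1 ≠ 1 ∧
         ∀ z y : G, IsPPart p z y → y ∈ (P : Subgroup G) → y ≠ 1 →
           (χ i : G → ℂ) z = (a i : ℂ)) ∧
      (1 + ∑ i, a i ^ 2 = (p : ℤ)) ∧
      (∀ g : G, ¬ p ∣ orderOf g → 1 + ∑ i, (a i : ℂ) * (χ i : G → ℂ) g = 0) ∧
      (∀ i, (∀ i', i' ≠ i → (χ i' : G → ℂ) 1 ≠ (χ i : G → ℂ) 1) →
          ∀ g, (χ i : G → ℂ) g⁻¹ = (χ i : G → ℂ) g) := by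
  classical
  have hpp : p.Prime := Fact.out
  obtain ⟨M, hMmax, hMp⟩ :=
    Cfsg.Agent.Lib.Helper79.exists_maximal_ideal_natCast_mem p hpp.one_lt
  have hM : Cfsg.IsPModular p M := ⟨hpp, hMmax, hMp⟩
  have hcyc : IsCyclic (P : Subgroup G) := isCyclic_of_prime_card hP
  have hab : IsMulCommutative P :=
    ⟨⟨fun a b => (IsCyclic.commGroup (α := (P : Subgroup G))).mul_comm a b⟩⟩
  have hab' : ∀ a b : (P : Subgroup G), a * b = b * a := bl_comm P hab
  have hperf := Cfsg.Agent.Lib.Helper90.BrauerDeg.commutator_eq_top_of_simple hG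
  have hfrob : ∀ y : G, y ∈ (P : Subgroup G) → y ≠ 1 →
      Subgroup.centralizer ({y} : Set G) ⊓ Subgroup.normalizer ((P : Subgroup G) : Set G) =
        Subgroup.centralizer ((P : Subgroup G) : Set G) := by
    intro y hy hy1
    apply le_antisymm
    · intro c hc
      rw [Subgroup.mem_inf] at hc
      refine mem_centralizer_of_commute hpp (P : Subgroup G) hP y hy hy1 c ?_
      have := Subgroup.mem_centralizer_iff.mp hc.1 y rfl
      exact this.symm
    · intro c hc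
      rw [Subgroup.mem_inf]
      refine ⟨?_, Subgroup.centralizer_le_normalizer _ hc⟩
      rw [Subgroup.mem_centralizer_iff]
      intro w hw
      rw [Set.mem_singleton_iff] at hw
      subst hw
      exact Subgroup.mem_centralizer_iff.mp hc w hy
  have hchar : ∀ χ : IrrCharacter G, IsCharacter G (χ : G → ℂ) := fun χ =>
    Cfsg.Agent.Lib.Helper80.isCharacter_of_isIrrCharacter χ.2
  -- a nonidentity element of P and a nontrivial character of P
  obtain ⟨y₀, hy₀1⟩ : ∃ y₀ : (P : Subgroup G), y₀ ≠ 1 := by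
    have hne : (P : Subgroup G) ≠ ⊥ := by
      intro h
      have h1 : Nat.card (P : Subgroup G) = 1 := by rw [h]; exact Subgroup.card_bot
      rw [hP] at h1
      exact hpp.one_lt.ne' h1
    obtain ⟨w, hw⟩ := Subgroup.ne_bot_iff_exists_ne_one.mp hne
    exact ⟨w, hw⟩
  have hy₀1' : (y₀ : G) ≠ 1 := fun h => hy₀1 (Subtype.ext h)
  obtain ⟨ψ₀, hψ₀y⟩ := bl_exists_ne_one hab' y₀ hy₀1
  have hψ₀ : ψ₀ ≠ 1 := by
    rintro rfl
    exact hψ₀y rfl
  -- one orbit
  have hone : ∀ ψ : (P : Subgroup G) →* ℂˣ, ψ ≠ 1 →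
      ∃ n : Subgroup.normalizer ((P : Subgroup G) : Set G), blActL (P : Subgroup G) n ψ₀ = ψ := by
    intro ψ hψ
    have hcard := bl_card_orb P hab (p - 1) hCN hfrob
    rw [hP] at hcard
    have hp1 : 0 < p - 1 := by have := hpp.one_lt; omega
    have h1 : Nat.card (blOrb (P : Subgroup G)) = 1 := by
      have h2 : Nat.card (blOrb (P : Subgroup G)) * (p - 1) = 1 * (p - 1) := by rw [hcard, one_mul]
      exact Nat.eq_of_mul_eq_mul_right hp1 h2
    have hsub : Subsingleton (blOrb (P : Subgroup G)) := (Nat.card_eq_one_iff_unique.mp h1).1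
    exact (blOrb_eq_iff (P : Subgroup G) ⟨ψ₀, hψ₀⟩ ⟨ψ, hψ⟩).mp (Subsingleton.elim _ _)
  -- the integers a_χ
  obtain ⟨A, hAdef⟩ : ∃ A : IrrCharacter G → ℤ,
      A = fun χ : IrrCharacter G => blAInt (P : Subgroup G) (χ : G → ℂ) ψ₀ := ⟨_, rfl⟩
  have hA : ∀ χ : IrrCharacter G, ((A χ : ℤ) : ℂ) = blA (P : Subgroup G) (χ : G → ℂ) ψ₀ := by
    intro χ
    rw [hAdef]
    exact blAInt_cast _ (hchar χ) _
  have hAall : ∀ (χ : IrrCharacter G) (ψ : (P : Subgroup G) →* ℂˣ), ψ ≠ 1 →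
      blA (P : Subgroup G) (χ : G → ℂ) ψ = (A χ : ℂ) := by
    intro χ ψ hψ
    obtain ⟨n, hn⟩ := hone ψ hψ
    rw [← hn, blA_act _ (Cfsg.Agent.Lib.Helper3.isClassFunction_of_isCharacter (hchar χ)), hA]
  have : Finite ((P : Subgroup G) →* ℂˣ) := Cfsg.Agent.Lib.Helper79.finite_monoidHom_units
  let _ : Fintype ((P : Subgroup G) →* ℂˣ) := Fintype.ofFinite _
  -- values on P
  have hvalP : ∀ (χ : IrrCharacter G) (y : (P : Subgroup G)), y ≠ 1 →
      (χ : G → ℂ) (y : G) = (A χ : ℂ) := by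
    intro χ y hy
    rw [blA_fourier (P : Subgroup G) hab' (χ : G → ℂ) y hy]
    have h1 : ∀ ψ : (P : Subgroup G) →* ℂˣ,
        blA (P : Subgroup G) (χ : G → ℂ) ψ * ((ψ y : ℂˣ) : ℂ) =
          (A χ : ℂ) * ((ψ y : ℂˣ) : ℂ) - (if ψ = 1 then (A χ : ℂ) else 0) := by
      intro ψ
      by_cases hψ : ψ = 1
      · rw [if_pos hψ, hψ, blA_one]
        simp
      · rw [if_neg hψ, hAall χ ψ hψ, sub_zero]
    rw [Finset.sum_congr rfl (fun ψ _ => h1 ψ), Finset.sum_sub_distrib, ← Finset.mul_sum,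
      bl_sum_dual hab' y hy, Finset.sum_ite_eq' Finset.univ (1 : (P : Subgroup G) →* ℂˣ),
      if_pos (Finset.mem_univ _)]
    ring
  -- values on p-singular elements
  have hval : ∀ χ ∈ principalBlock M G, ∀ z y : G, IsPPart p z y → y ∈ (P : Subgroup G) →
      y ≠ 1 → (χ : G → ℂ) z = (A χ : ℂ) := by
    intro χ hχ z y hzy hy hy1
    rw [bl_value P hM hab' hfrob χ hχ z y hzy hy hy1]
    exact hvalP χ ⟨y, hy⟩ (fun h => hy1 (congrArg Subtype.val h))
  have hA0 : ∀ χ ∈ principalBlock M G, A χ ≠ 0 := by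
    intro χ hχ h0
    have h1 := bl_ne_zero P hM hab' χ hχ (y₀ : G) y₀.2
    rw [hvalP χ y₀ hy₀1, h0] at h1
    exact h1 (by simp)
  -- the trivial character
  obtain ⟨χ₁, hχ₁def⟩ : ∃ χ₁ : IrrCharacter G, χ₁ = Cfsg.Agent.Lib.Helper77.trivIrr G := ⟨_, rfl⟩
  have hχ₁B : χ₁ ∈ principalBlock M G := by
    rw [hχ₁def]
    exact Cfsg.Agent.Lib.Helper77.trivIrr_mem_principalBlock hMmax.isPrime
  have hχ₁1 : ∀ g, (χ₁ : G → ℂ) g = 1 := by
    intro g
    rw [hχ₁def]
    rfl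
  have hAχ₁ : A χ₁ = 1 := by
    have h1 := hvalP χ₁ y₀ hy₀1
    rw [hχ₁1] at h1
    exact_mod_cast h1.symm
  -- index the other members of the block
  obtain ⟨X, hX⟩ : ∃ X : Set (IrrCharacter G), X = principalBlock M G := ⟨_, rfl⟩
  rw [← hX] at hval hA0 hχ₁B
  have hXfin : X.Finite := Set.toFinite X
  have hSfin : (X \ {χ₁}).Finite := hXfin.subset Set.sdiff_subset
  have : Finite ↥(X \ {χ₁}) := hSfin.to_subtype
  let _ : Fintype ↥(X \ {χ₁}) := Fintype.ofFinite _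
  obtain ⟨k, hk⟩ : ∃ k, k = Nat.card ↥(X \ {χ₁}) := ⟨_, rfl⟩
  have e : ↥(X \ {χ₁}) ≃ Fin k := hk ▸ Finite.equivFin _
  have hsplitC : ∀ f : Cfsg.IrrCharacter G → ℂ,
      ∑ᶠ χ ∈ X, f χ = f χ₁ + ∑ i : Fin k, f (e.symm i : Cfsg.IrrCharacter G) := by
    intro f
    have hins : X = insert χ₁ (X \ {χ₁}) := by
      rw [Set.insert_sdiff_singleton, Set.insert_eq_of_mem hχ₁B]
    conv_lhs => rw [hins]
    rw [finsum_mem_insert f (by simp) hSfin]
    congr 1
    rw [← finsum_set_coe_eq_finsum_mem, finsum_eq_sum_of_fintype]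
    exact (Equiv.sum_comp e.symm (fun j : ↥(X \ {χ₁}) => f (j : Cfsg.IrrCharacter G))).symm
  have hmem : ∀ i : Fin k, (e.symm i : Cfsg.IrrCharacter G) ∈ X ∧
      (e.symm i : Cfsg.IrrCharacter G) ≠ χ₁ := by
    intro i
    have := (e.symm i).2
    exact ⟨this.1, fun h => this.2 (by simpa using h)⟩
  have hlin : ∀ θ : Cfsg.IrrCharacter G, (θ : G → ℂ) 1 = 1 → θ = χ₁ := by
    intro θ h11
    apply Subtype.ext
    funext g
    rw [hχ₁1]
    exact Cfsg.Agent.Lib.Helper79.linear_irr_commutator θ.2 h11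
      (by rw [hperf]; exact Subgroup.mem_top g)
  have hdeg1 : ∀ i : Fin k, ((e.symm i : Cfsg.IrrCharacter G) : G → ℂ) 1 ≠ 1 := by
    intro i h11
    exact (hmem i).2 (hlin _ h11)
  refine ⟨k, fun i => (e.symm i : Cfsg.IrrCharacter G), fun i => A (e.symm i : Cfsg.IrrCharacter G),
    ?_, ?_, ?_, ?_, ?_⟩
  · intro i j hij
    have h1 : e.symm i = e.symm j := Subtype.ext hij
    exact e.symm.injective h1
  · intro i
    exact ⟨hA0 _ (hmem i).1, hdeg1 i, hval _ (hmem i).1⟩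
  · have hg := bl_gram P hM hab hfrob ψ₀ ψ₀ hψ₀ hψ₀
    rw [hCN, if_pos ⟨1, blActL_one _ _⟩, ← hX, hsplitC] at hg
    simp only [← hA] at hg
    rw [hAχ₁] at hg
    have h1 : ((1 + ∑ i : Fin k, A (e.symm i : Cfsg.IrrCharacter G) ^ 2 : ℤ) : ℂ) = ((p : ℤ) : ℂ) := by
      push_cast
      rw [Nat.cast_sub hpp.one_lt.le] at hg
      push_cast at hg
      simp only [pow_two]
      linear_combination hg
    exact_mod_cast h1
  · intro g hg
    have hr := bl_reg P hM g hg ψ₀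
    rw [← hX, hsplitC] at hr
    simp only [← hA] at hr
    rw [hAχ₁, hχ₁1] at hr
    push_cast at hr
    rw [← hr]
    congr 1
    · ring
    · exact Finset.sum_congr rfl (fun i _ => mul_comm _ _)
  · intro i huniq g
    have hN : 0 < Nat.card G := Nat.card_pos
    have hk' : Nat.Coprime (Nat.card G - 1) (Nat.card G) := by
      have h1 : Nat.Coprime (Nat.card G - 1) (Nat.card G - 1 + 1) := by
        rw [Nat.coprime_self_add_right]
        exact Nat.coprime_one_right _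
      rwa [Nat.sub_add_cancel hN] at h1
    set θ := Cfsg.Agent.Lib.Helper79.powIrr hk' (e.symm i : Cfsg.IrrCharacter G) with hθ
    have hθval : ∀ x : G, (θ : G → ℂ) x =
        ((e.symm i : Cfsg.IrrCharacter G) : G → ℂ) (x ^ (Nat.card G - 1)) := fun x => rfl
    have hpowinv : ∀ x : G, x ^ (Nat.card G - 1) = x⁻¹ := by
      intro x
      have h1 : x ^ (Nat.card G - 1) * x = 1 := by
        rw [← pow_succ, Nat.sub_add_cancel hN, pow_card_eq_one']
      exact eq_inv_of_mul_eq_one_left h1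
    have hθ1 : (θ : G → ℂ) 1 = ((e.symm i : Cfsg.IrrCharacter G) : G → ℂ) 1 := by
      rw [hθval, one_pow]
    have hiB : (e.symm i : Cfsg.IrrCharacter G) ∈ Cfsg.principalBlock M G := by
      rw [← hX]; exact (hmem i).1
    have hθB : θ ∈ Cfsg.principalBlock M G :=
      Cfsg.Agent.Lib.Helper79.powIrr_mem_principalBlock hk' hiB
    rw [← hX] at hθB
    by_cases h1 : θ = χ₁
    · exfalso
      apply hdeg1 i
      rw [← hθ1, h1, hχ₁1]
    · have hθmem : θ ∈ X \ {χ₁} := ⟨hθB, by simpa using h1⟩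
      have hi' : (e.symm (e ⟨θ, hθmem⟩) : Cfsg.IrrCharacter G) = θ := by
        rw [Equiv.symm_apply_apply]
      by_cases hii : e ⟨θ, hθmem⟩ = i
      · rw [hii] at hi'
        have := hθval g
        rw [← hi', hpowinv] at this
        exact this.symm
      · exfalso
        apply huniq _ hii
        show ((e.symm (e ⟨θ, hθmem⟩) : Cfsg.IrrCharacter G) : G → ℂ) 1 =
          ((e.symm i : Cfsg.IrrCharacter G) : G → ℂ) 1
        rw [hi', hθ1]

end Cfsg.Agent.Lib.Helper91.SS
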