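import Mathlib
import Cfsg.Agent.Lib.Helper91.SSBasic
import Cfsg.Agent.Lib.Helper91.SSSum
import Cfsg.Agent.Lib.Helper91.SSBrauer
import Cfsg.Agent.Lib.Helper91.SSTop
import Cfsg.Agent.Lib.Helper17.PrimeSylow
import Cfsg.Agent.Lib.Helper81.CharCore

set_option autoImplicit false

/-!
# Tools for simple groups whose Sylow `5`-subgroups have order `5`
-/

namespace Cfsg.Agent.Lib.Helper91.SS

open Cfsg Cfsg.Agent.Lib.Helper17

/-- a complex number whose real part equals a bound for its norm is real -/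
theorem eq_ofReal_of_re_eq_of_norm_le (z : ℂ) (r : ℝ) (h1 : z.re = r) (h2 : ‖z‖ ≤ r) :
    z = (r : ℂ) := by
  have h3 : ‖z‖ ^ 2 = z.re ^ 2 + z.im ^ 2 := by
    rw [Complex.sq_norm, Complex.normSq_apply]
    ring
  have h4 : z.im ^ 2 ≤ 0 := by nlinarith [norm_nonneg z]
  have h5 : z.im = 0 := by nlinarith [sq_nonneg z.im]
  apply Complex.ext
  · simp [h1]
  · simp [h5]

variable {G : Type*} [Group G] [Finite G]

/-- A character of degree `4` or `9` with value `-1` on the `5`-singular elements is incompatible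
with an involution centralizing `P`. -/
theorem kill_involution_five [IsSimpleGroup G] (hGn : ¬ (Nat.card G).Prime) (P : Sylow 5 G)
    (hP : Nat.card (P : Subgroup G) = 5) (χ : IrrCharacter G) (hχ1 : (χ : G → ℂ) 1 ≠ 1)
    (hval : ∀ z y : G, IsPPart 5 z y → y ∈ (P : Subgroup G) → y ≠ 1 →
      (χ : G → ℂ) z = ((-1 : ℤ) : ℂ))
    (hdeg : Cfsg.charDegree (χ : G → ℂ) = 4 ∨ Cfsg.charDegree (χ : G → ℂ) = 9)
    (c : G) (hc : c ∈ Subgroup.centralizer ((P : Subgroup G) : Set G)) (hc2 : orderOf c = 2) :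
    False := by
  have : Fact (Nat.Prime 5) := ⟨by norm_num⟩
  have hirr := χ.2
  have hchar := Cfsg.Agent.Lib.Helper80.isCharacter_of_isIrrCharacter hirr
  obtain ⟨hxd, -, -⟩ := Cfsg.Agent.Lib.Helper79.irr_charDegree hirr
  obtain ⟨x, hx⟩ : ∃ x, x = Cfsg.charDegree (χ : G → ℂ) := ⟨_, rfl⟩
  rw [← hx] at hxd hdeg
  have hfaith : ∀ g : G, (χ : G → ℂ) g = (x : ℂ) → g = 1 := by
    intro g hg
    exact eq_one_of_char_eq χ hχ1 g (by rw [hg, hxd])
  have hbound : ∀ g : G, ‖(χ : G → ℂ) g‖ ≤ (x : ℝ) := by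
    intro g
    rw [hx]
    exact Cfsg.Agent.Lib.Helper80.norm_char_le_charDegree hchar g
  obtain ⟨t, ht1, ht2, htC, n, hn⟩ := sum_involution_centralizer hirr 5 (by norm_num)
    (P : Subgroup G) hP ((-1 : ℤ) : ℂ) hval c hc hc2
  rw [hxd] at hn
  push_cast at hn
  have hvalt : (χ : G → ℂ) t = ((10 * n + 8 : ℕ) : ℂ) - (x : ℂ) := by
    push_cast
    linear_combination hn
  obtain ⟨k4, hk4⟩ := mod_four hGn hchar t ht2
  rw [hxd] at hk4
  have hb := hbound t
  rcases hdeg with h4 | h9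
  · rw [h4] at hvalt hb hk4
    have hval' : (χ : G → ℂ) t = ((10 * n + 4 : ℕ) : ℂ) := by
      rw [hvalt]; push_cast; ring
    rw [hval', Complex.norm_natCast] at hb
    have hn0 : n = 0 := by
      have : (10 * n + 4 : ℕ) ≤ 4 := by exact_mod_cast hb
      omega
    subst hn0
    apply ht1
    apply hfaith
    rw [hval', h4]
  · rw [h9] at hvalt hb hk4
    rcases Nat.eq_zero_or_pos n with hn0 | hnpos
    · subst hn0
      rw [hvalt] at hk4
      have h1 : ((4 * k4 : ℕ) : ℂ) = ((10 : ℕ) : ℂ) := by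
        push_cast
        linear_combination hk4
      have h2 := Nat.cast_injective h1
      omega
    · have hval' : (χ : G → ℂ) t = ((10 * n - 1 : ℕ) : ℂ) := by
        rw [hvalt]
        rw [Nat.cast_sub (by omega)]
        push_cast; ring
      rw [hval', Complex.norm_natCast] at hb
      have hn1 : n = 1 := by
        have : (10 * n - 1 : ℕ) ≤ 9 := by exact_mod_cast hb
        omega
      subst hn1
      apply ht1
      apply hfaith
      rw [hval', h9]

/-- A character of degree `4`, or a real character of degree `9`, with value `-1` on the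
`5`-singular elements is incompatible with an element of order `3` centralizing `P`. -/
theorem kill_order_three_five [IsSimpleGroup G] (P : Sylow 5 G)
    (hP : Nat.card (P : Subgroup G) = 5) (χ : IrrCharacter G) (hχ1 : (χ : G → ℂ) 1 ≠ 1)
    (hval : ∀ z y : G, IsPPart 5 z y → y ∈ (P : Subgroup G) → y ≠ 1 →
      (χ : G → ℂ) z = ((-1 : ℤ) : ℂ))
    (hdeg : Cfsg.charDegree (χ : G → ℂ) = 4 ∨
      (Cfsg.charDegree (χ : G → ℂ) = 9 ∧ ∀ g : G, (χ : G → ℂ) g⁻¹ = (χ : G → ℂ) g))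
    (c : G) (hc : c ∈ Subgroup.centralizer ((P : Subgroup G) : Set G)) (hc3 : orderOf c = 3) :
    False := by
  have : Fact (Nat.Prime 5) := ⟨by norm_num⟩
  have hirr := χ.2
  have hchar := Cfsg.Agent.Lib.Helper80.isCharacter_of_isIrrCharacter hirr
  obtain ⟨hxd, -, -⟩ := Cfsg.Agent.Lib.Helper79.irr_charDegree hirr
  obtain ⟨x, hx⟩ : ∃ x, x = Cfsg.charDegree (χ : G → ℂ) := ⟨_, rfl⟩
  rw [← hx] at hxd hdeg
  have hfaith : ∀ g : G, (χ : G → ℂ) g = (x : ℂ) → g = 1 := by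
    intro g hg
    exact eq_one_of_char_eq χ hχ1 g (by rw [hg, hxd])
  have hbound : ∀ g : G, ‖(χ : G → ℂ) g‖ ≤ (x : ℝ) := by
    intro g
    rw [hx]
    exact Cfsg.Agent.Lib.Helper80.norm_char_le_charDegree hchar g
  obtain ⟨t, ht1, ht3, htC, n, hn⟩ := sum_order_three_centralizer hirr 5 (by norm_num)
    (P : Subgroup G) hP ((-1 : ℤ) : ℂ) hval c hc hc3
  rw [hxd] at hn
  have hb := hbound t
  rcases hdeg with h4 | ⟨h9, hreal⟩
  · rw [h4] at hn hb
    rw [Cfsg.Agent.Lib.Helper80.char_inv_eq_conj hchar t] at hn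
    obtain ⟨z, hz⟩ : ∃ z, z = (χ : G → ℂ) t := ⟨_, rfl⟩
    rw [← hz] at hn hb
    have h1 : z + (starRingEnd ℂ) z = ((15 * n + 8 : ℕ) : ℂ) := by
      push_cast at hn ⊢
      linear_combination hn
    rw [Complex.add_conj] at h1
    have h2 : 2 * z.re = ((15 * n + 8 : ℕ) : ℝ) := by exact_mod_cast h1
    have hb' : ‖z‖ ≤ 4 := by exact_mod_cast hb
    have h3 : z.re ≤ 4 := le_trans (Complex.re_le_norm z) hb'
    have hn0 : n = 0 := by
      have h4' : ((15 * n + 8 : ℕ) : ℝ) ≤ 8 := by rw [← h2]; linarith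
      have h5 : 15 * n + 8 ≤ 8 := by exact_mod_cast h4'
      omega
    subst hn0
    have h4' : z.re = 4 := by
      push_cast at h2
      linarith
    have h5 := eq_ofReal_of_re_eq_of_norm_le z 4 h4' hb'
    apply ht1
    apply hfaith
    rw [← hz, h5, h4]
    norm_num
  · rw [h9] at hn hb
    rw [hreal t] at hn
    push_cast at hn
    have hint := Cfsg.Agent.Lib.Helper79.irr_isIntegral hirr t
    have hvalt : 2 * (χ : G → ℂ) t = ((15 * n + 3 : ℕ) : ℂ) := by
      push_cast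
      linear_combination hn
    have hn1 : n ≤ 1 := by
      have h1 : ‖2 * (χ : G → ℂ) t‖ ≤ 18 := by
        rw [norm_mul]
        have : ‖(2 : ℂ)‖ = 2 := by norm_num
        rw [this]
        push_cast at hb
        linarith
      rw [hvalt, Complex.norm_natCast] at h1
      have : (15 * n + 3 : ℕ) ≤ 18 := by exact_mod_cast h1
      omega
    interval_cases n
    · have hval' : 2 * (χ : G → ℂ) t = 3 := by rw [hvalt]; norm_num
      have := Cfsg.Agent.Lib.Helper79.nat_dvd_of_eq_mul_isIntegral 3 2 (by norm_num) _ hint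
        (by push_cast; exact hval'.symm)
      omega
    · apply ht1
      apply hfaith
      rw [h9]
      push_cast at hvalt ⊢
      linear_combination hvalt / 2

/-- The principal `5`-block when `[N(P) : C(P)] = 2`, given that the only solutions of the
degree equation are `(4, 3)` and `(9, 8)`. -/
theorem block_m2_five [IsSimpleGroup G] (hGn : ¬ (Nat.card G).Prime)
    (harith : ∀ x y : ℕ, x ∣ Nat.card G → y ∣ Nat.card G → x ≠ 1 →
      ¬ (x % 5 = 1 ∧ y = x + 1) ∧ (x % 5 = 4 ∧ x = y + 1 → x = 4 ∨ x = 9))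
    (P : Sylow 5 G) (hP : Nat.card (P : Subgroup G) = 5)
    (hm : (Subgroup.centralizer ((P : Subgroup G) : Set G)).relIndex
      (Subgroup.normalizer ((P : Subgroup G) : Set G)) = 2) :
    ∃ χ η : IrrCharacter G, (χ : G → ℂ) 1 ≠ 1 ∧
      (Cfsg.charDegree (χ : G → ℂ) = 4 ∨ Cfsg.charDegree (χ : G → ℂ) = 9) ∧
      Cfsg.charDegree (χ : G → ℂ) = Cfsg.charDegree (η : G → ℂ) + 1 ∧
      (∀ z y : G, IsPPart 5 z y → y ∈ (P : Subgroup G) → y ≠ 1 →
        (χ : G → ℂ) z = ((-1 : ℤ) : ℂ)) ∧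
      (∀ g : G, ¬ 5 ∣ orderOf g → (η : G → ℂ) g = (χ : G → ℂ) g - 1) ∧
      (∀ g : G, (χ : G → ℂ) g⁻¹ = (χ : G → ℂ) g) ∧
      ∑ᶠ y : (P : Subgroup G), (η : G → ℂ) (y : G) = (η : G → ℂ) 1 + 2 := by
  have : Fact (Nat.Prime 5) := ⟨by norm_num⟩
  obtain ⟨k, χ, a, η, d, δ, hk, hδ, hχ, hη1, hηP, hnorm, hrel, hj, hreal⟩ :=
    brauer_chars hGn 5 P hP 2 (by norm_num) hm
  have h2 : ((5 - 1) / 2 : ℕ) = 2 := by norm_num
  rw [h2] at hnorm hrel
  push_cast at hnorm hrel
  have hk' : k = 0 ∨ k = 1 := by omega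
  rcases hk' with rfl | rfl
  · exfalso
    simp only [Finset.univ_eq_empty, Finset.sum_empty, add_zero] at hnorm
    rcases hδ with rfl | rfl
    · have : 2 * (d * d - d) = 1 := by nlinarith
      omega
    · have : 2 * (d * d + d) = 1 := by nlinarith
      omega
  · simp only [Fin.sum_univ_succ, Fin.sum_univ_zero, add_zero] at hnorm hrel
    obtain ⟨ha0, hx1, hxa⟩ := hχ 0
    have hirr := (χ 0).2
    have hirrη := η.2
    obtain ⟨hxd, hxpos, hxdvd⟩ := Cfsg.Agent.Lib.Helper79.irr_charDegree hirr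
    obtain ⟨hyd, hypos, hydvd⟩ := Cfsg.Agent.Lib.Helper79.irr_charDegree hirrη
    have hmod : (Cfsg.charDegree ((χ 0 : IrrCharacter G) : G → ℂ) : ℤ) ≡ a 0 [ZMOD 5] := by
      have := Cfsg.Agent.Lib.Helper90.BrauerDeg.degree_modEq hirr 5 (P : Subgroup G) hP (a 0)
        (fun y hy hy1 => hxa y y (isPPart_self (by norm_num) _ hP y hy hy1) hy hy1)
      exact_mod_cast this
    obtain ⟨x, hxdef⟩ : ∃ x, x = Cfsg.charDegree ((χ 0 : IrrCharacter G) : G → ℂ) := ⟨_, rfl⟩
    obtain ⟨y, hydef⟩ : ∃ y, y = Cfsg.charDegree ((η : IrrCharacter G) : G → ℂ) := ⟨_, rfl⟩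
    rw [← hxdef] at hxd hxpos hxdvd hmod
    rw [← hydef] at hyd hypos hydvd
    have hx1' : x ≠ 1 := by
      intro h
      apply hx1
      rw [hxd, h]
      norm_num
    have hrel1 := hrel 1 (by rw [orderOf_one]; norm_num)
    rw [hxd, hyd] at hrel1
    have hrel1' : (2 * d - δ) * (y : ℤ) + 1 + a 0 * (x : ℤ) = 0 := by
      have h : (((2 * d - δ) * (y : ℤ) + 1 + a 0 * (x : ℤ) : ℤ) : ℂ) = 0 := by
        push_cast
        exact hrel1
      exact_mod_cast h
    have hd : -1 ≤ d ∧ d ≤ 1 := by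
      constructor <;> rcases hδ with rfl | rfl <;>
        nlinarith [sq_nonneg (a 0), sq_nonneg (d - 1), sq_nonneg (d + 1)]
    have ha2 : a 0 ^ 2 = 1 ∧ (2 * d - δ = 1 ∨ 2 * d - δ = -1) := by
      obtain ⟨hd1, hd2⟩ := hd
      have hapos : 0 < a 0 ^ 2 := by positivity
      obtain ⟨A, hA⟩ : ∃ A, A = a 0 ^ 2 := ⟨_, rfl⟩
      rw [← hA] at hnorm hapos ⊢
      interval_cases d <;> rcases hδ with rfl | rfl <;> norm_num at hnorm ⊢ <;> omega
    obtain ⟨ha2, hε⟩ := ha2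
    have ha : a 0 = 1 ∨ a 0 = -1 := by
      have h1 : (a 0 - 1) * (a 0 + 1) = 0 := by nlinarith
      rcases mul_eq_zero.mp h1 with h | h
      · left; omega
      · right; omega
    have harith' := harith x y hxdvd hydvd hx1'
    unfold Int.ModEq at hmod
    have hxy : (x = 4 ∨ x = 9) ∧ x = y + 1 ∧ a 0 = -1 ∧ 2 * d - δ = 1 := by
      rcases hε with h | h <;> rcases ha with h' | h' <;> rw [h, h'] at hrel1' <;> rw [h'] at hmod
      · omega
      · exact ⟨harith'.2 ⟨by omega, by omega⟩, by omega, h', h⟩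
      · exact absurd ⟨by omega, by omega⟩ harith'.1
      · omega
    obtain ⟨hx49, hxy, ha0', hε1⟩ := hxy
    refine ⟨χ 0, η, hx1, ?_, ?_, ?_, ?_, ?_, ?_⟩
    · rw [← hxdef]
      exact hx49
    · rw [← hxdef, ← hydef]
      exact hxy
    · intro z y' hz hy' hy'1
      rw [hxa z y' hz hy' hy'1, ha0']
    · intro g hg
      have h := hrel g hg
      have hεc : (2 : ℂ) * (d : ℂ) - (δ : ℂ) = 1 := by exact_mod_cast hε1
      rw [hεc, ha0'] at h
      push_cast at h
      linear_combination h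
    · apply hreal 0
      · rw [hxd, hyd]
        intro h
        have : x = y := by exact_mod_cast h
        omega
      · intro i' hi'
        exact absurd (Subsingleton.elim i' 0) hi'
    · obtain ⟨j, nP, hj1, hj2, hsum, hjeq⟩ := hj
      rw [← hydef] at hjeq
      have hnP : 5 * nP = y + 2 := by
        push_cast at hjeq
        rcases hδ with rfl | rfl <;> rcases hx49 with h | h <;> omega
      rw [hsum, hyd]
      have : ((5 * nP : ℕ) : ℂ) = ((y + 2 : ℕ) : ℂ) := by rw [hnP]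
      push_cast at this ⊢
      linear_combination this

/-- The case `[N(P) : C(P)] = 2` with an element of order `2` or `3` in `C(P)`. -/
theorem case_m2_five [IsSimpleGroup G] (hGn : ¬ (Nat.card G).Prime)
    (harith : ∀ x y : ℕ, x ∣ Nat.card G → y ∣ Nat.card G → x ≠ 1 →
      ¬ (x % 5 = 1 ∧ y = x + 1) ∧ (x % 5 = 4 ∧ x = y + 1 → x = 4 ∨ x = 9))
    (P : Sylow 5 G) (hP : Nat.card (P : Subgroup G) = 5)
    (hm : (Subgroup.centralizer ((P : Subgroup G) : Set G)).relIndex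
      (Subgroup.normalizer ((P : Subgroup G) : Set G)) = 2)
    (c : G) (hc : c ∈ Subgroup.centralizer ((P : Subgroup G) : Set G))
    (hcq : orderOf c = 2 ∨ orderOf c = 3) : False := by
  obtain ⟨χ, η, hχ1, hdeg, -, hval, -, hreal, -⟩ := block_m2_five hGn harith P hP hm
  rcases hcq with hc2 | hc3
  · exact kill_involution_five hGn P hP χ hχ1 hval hdeg c hc hc2
  · refine kill_order_three_five P hP χ hχ1 hval ?_ c hc hc3
    rcases hdeg with h | h
    · exact Or.inl h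
    · exact Or.inr ⟨h, hreal⟩

/-- A central involution of a Sylow `2`-subgroup. -/
theorem exists_central_involution (h2 : 2 ∣ Nat.card G) :
    ∃ z : G, z ≠ 1 ∧ z * z = 1 ∧
      ∀ k : ℕ, 2 ^ k ∣ Nat.card G → 2 ^ k ∣ Nat.card (Subgroup.centralizer ({z} : Set G)) := by
  obtain ⟨S⟩ := (Sylow.nonempty : Nonempty (Sylow 2 G))
  have hSne : (S : Subgroup G) ≠ ⊥ := S.ne_bot_of_dvd_card h2
  have : Nontrivial (S : Subgroup G) := (Subgroup.nontrivial_iff_ne_bot _).mpr hSne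
  have hS2 : IsPGroup 2 (S : Subgroup G) := S.2
  have hcn : Nontrivial (Subgroup.center (S : Subgroup G)) := hS2.center_nontrivial
  have hZ2 : IsPGroup 2 (Subgroup.center (S : Subgroup G)) := hS2.to_subgroup _
  have hdvd : 2 ∣ Nat.card (Subgroup.center (S : Subgroup G)) := by
    rcases hZ2.card_eq_or_dvd with h | h
    · exfalso
      have := Finite.one_lt_card (α := Subgroup.center (S : Subgroup G))
      omega
    · exact h
  obtain ⟨z', hz'⟩ := exists_prime_orderOf_dvd_card' (G := Subgroup.center (S : Subgroup G)) 2 hdvd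
  obtain ⟨z, hzdef⟩ : ∃ z : G, z = (((z' : Subgroup.center (S : Subgroup G)) : (S : Subgroup G)) : G) :=
    ⟨_, rfl⟩
  have hzo : orderOf z = 2 := by
    rw [hzdef, Subgroup.orderOf_coe, Subgroup.orderOf_coe]
    exact hz'
  have hz1 : z ≠ 1 := by
    intro h
    rw [h, orderOf_one] at hzo
    omega
  have hz2 : z * z = 1 := by
    rw [← pow_two, ← hzo]
    exact pow_orderOf_eq_one z
  refine ⟨z, hz1, hz2, ?_⟩
  intro k hk
  have hle : (S : Subgroup G) ≤ Subgroup.centralizer ({z} : Set G) := by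
    intro u hu
    rw [Subgroup.mem_centralizer_iff]
    intro w hw
    rw [Set.mem_singleton_iff] at hw
    subst hw
    have h1 := Subgroup.mem_center_iff.mp z'.2 ⟨u, hu⟩
    have h2 := congrArg Subtype.val h1
    rw [hzdef]
    exact h2.symm
  exact (S.pow_dvd_card_of_pow_dvd_card hk).trans (Subgroup.card_dvd_of_le hle)

/-- **Column orthogonality bound**: for distinct nonlinear irreducible characters `χ i` with
integer values `c i` at `s`, `1 + ∑ c i ^ 2 ≤ |C(s)|`. -/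
theorem one_add_sum_sq_le_card_centralizer (k : ℕ) (χ : Fin k → IrrCharacter G)
    (hinj : Function.Injective χ) (hdeg : ∀ i, (χ i : G → ℂ) 1 ≠ 1) (s : G) (c : Fin k → ℤ)
    (hc : ∀ i, (χ i : G → ℂ) s = (c i : ℂ)) :
    1 + ∑ i, c i ^ 2 ≤ (Nat.card (Subgroup.centralizer ({s} : Set G)) : ℤ) := by
  classical
  have : Fintype G := Fintype.ofFinite G
  have : Finite (IrrCharacter G) := Cfsg.Agent.Lib.Helper81.irr_finite G
  have : Fintype (IrrCharacter G) := Fintype.ofFinite _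
  have hcol := Cfsg.Agent.Lib.Helper81.irr_col_orth s s
  have hcard : Nat.card {y : G // y * s * y⁻¹ = s} =
      Nat.card (Subgroup.centralizer ({s} : Set G)) := by
    apply Nat.card_congr
    refine Equiv.subtypeEquivRight (fun y => ?_)
    rw [Subgroup.mem_centralizer_iff]
    simp only [Set.mem_singleton_iff, forall_eq]
    constructor
    · intro h
      calc s * y = (y * s * y⁻¹) * y := by rw [h]
        _ = y * s := by group
    · intro h
      calc y * s * y⁻¹ = (s * y) * y⁻¹ := by rw [h]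
        _ = s := by group
  rw [hcard] at hcol
  -- real-valued version
  have hre : ∀ θ : IrrCharacter G, θ.1 s * starRingEnd ℂ (θ.1 s) = ((Complex.normSq (θ.1 s) : ℝ) : ℂ) :=
    fun θ => Complex.mul_conj _
  rw [Finset.sum_congr rfl (fun θ _ => hre θ), ← Complex.ofReal_sum] at hcol
  have hcolR : ∑ θ : IrrCharacter G, Complex.normSq (θ.1 s) =
      (Nat.card (Subgroup.centralizer ({s} : Set G)) : ℝ) := by exact_mod_cast hcol
  obtain ⟨χ₁, hχ₁⟩ : ∃ χ₁ : IrrCharacter G, χ₁ = Cfsg.Agent.Lib.Helper77.trivIrr G := ⟨_, rfl⟩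
  have hχ₁1 : ∀ g, (χ₁ : G → ℂ) g = 1 := by
    intro g
    rw [hχ₁]
    rfl
  set T : Finset (IrrCharacter G) := insert χ₁ (Finset.univ.image χ) with hT
  have hnot : χ₁ ∉ Finset.univ.image χ := by
    intro h
    obtain ⟨i, -, hi⟩ := Finset.mem_image.mp h
    apply hdeg i
    rw [hi, hχ₁1]
  have hle : ∑ θ ∈ T, Complex.normSq (θ.1 s) ≤ ∑ θ : IrrCharacter G, Complex.normSq (θ.1 s) :=
    Finset.sum_le_sum_of_subset_of_nonneg (Finset.subset_univ _)
      (fun θ _ _ => Complex.normSq_nonneg _)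
  rw [hT, Finset.sum_insert hnot, Finset.sum_image (fun i _ j _ h => hinj h), hcolR] at hle
  have h1 : Complex.normSq ((χ₁ : G → ℂ) s) = 1 := by
    rw [hχ₁1]
    simp
  have h2 : ∀ i, Complex.normSq ((χ i : G → ℂ) s) = ((c i ^ 2 : ℤ) : ℝ) := by
    intro i
    rw [hc i, Complex.normSq_intCast]
    push_cast
    ring
  have hχ₁s : Complex.normSq (χ₁.1 s) = 1 := h1
  rw [hχ₁s, Finset.sum_congr rfl (fun i _ => h2 i), ← Int.cast_sum] at hle
  exact_mod_cast hle

/-- a nonzero integer with square at most `4` has square `1` or `4` -/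
theorem sq_eq_one_or_four (b : ℤ) (hb : b ≠ 0) (h : b ^ 2 ≤ 4) : b ^ 2 = 1 ∨ b ^ 2 = 4 := by
  have h1 : -2 ≤ b ∧ b ≤ 2 := by constructor <;> nlinarith
  obtain ⟨h1, h2⟩ := h1
  interval_cases b <;> simp_all

/-- The principal `5`-block when `[N(P) : C(P)] = 4`: four nonlinear characters with signs. -/
theorem block_m4_five [IsSimpleGroup G] (hGn : ¬ (Nat.card G).Prime)
    (P : Sylow 5 G) (hP : Nat.card (P : Subgroup G) = 5)
    (hm : (Subgroup.centralizer ((P : Subgroup G) : Set G)).relIndex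
      (Subgroup.normalizer ((P : Subgroup G) : Set G)) = 4) :
    ∃ (χ : Fin 4 → IrrCharacter G) (a : Fin 4 → ℤ), Function.Injective χ ∧
      (∀ i, (a i = 1 ∨ a i = -1) ∧ (χ i : G → ℂ) 1 ≠ 1 ∧
         ∀ z y : G, IsPPart 5 z y → y ∈ (P : Subgroup G) → y ≠ 1 →
           (χ i : G → ℂ) z = (a i : ℂ)) ∧
      (∀ g : G, ¬ 5 ∣ orderOf g → 1 + ∑ i, (a i : ℂ) * (χ i : G → ℂ) g = 0) ∧
      (∀ i, (∀ i', i' ≠ i → (χ i' : G → ℂ) 1 ≠ (χ i : G → ℂ) 1) →
          ∀ g, (χ i : G → ℂ) g⁻¹ = (χ i : G → ℂ) g) := by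
  have : Fact (Nat.Prime 5) := ⟨by norm_num⟩
  obtain ⟨k, χ, a, hinj, hχ, hnorm, hrel, hreal⟩ := brauer_top hGn 5 P hP (by rw [hm])
  have hge : ∀ i, 1 ≤ a i ^ 2 := by
    intro i
    have h1 : 0 < a i ^ 2 := by
      have := (hχ i).1
      positivity
    omega
  have hk4 : k ≤ 4 := by
    have h1 : ∑ _i : Fin k, (1 : ℤ) ≤ ∑ i, a i ^ 2 := Finset.sum_le_sum (fun i _ => hge i)
    rw [Finset.sum_const, Finset.card_univ, Fintype.card_fin, nsmul_eq_mul, mul_one] at h1
    push_cast at hnorm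
    omega
  have hrel1 := hrel 1 (by rw [orderOf_one]; norm_num)
  push_cast at hnorm
  interval_cases k
  · simp at hnorm
  · exfalso
    simp only [Fin.sum_univ_succ, Fin.sum_univ_zero, add_zero] at hnorm hrel1
    obtain ⟨hxd, hxpos, -⟩ := Cfsg.Agent.Lib.Helper79.irr_charDegree (χ 0).2
    rw [hxd] at hrel1
    obtain ⟨f, hf⟩ : ∃ f, f = Cfsg.charDegree ((χ 0 : IrrCharacter G) : G → ℂ) := ⟨_, rfl⟩
    rw [← hf] at hrel1
    have h1 : 1 + a 0 * (f : ℤ) = 0 := by
      have h : ((1 + a 0 * (f : ℤ) : ℤ) : ℂ) = 0 := by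
        push_cast
        exact hrel1
      exact_mod_cast h
    have h2 : a 0 ^ 2 * ((f : ℤ) * (f : ℤ)) = 1 := by nlinarith
    have h3 : a 0 ^ 2 = 4 := by omega
    rw [h3] at h2
    omega
  · exfalso
    simp only [Fin.sum_univ_two] at hnorm
    have h0 := sq_eq_one_or_four (a 0) (hχ 0).1 (by nlinarith [sq_nonneg (a 1)])
    have h1 := sq_eq_one_or_four (a 1) (hχ 1).1 (by nlinarith [sq_nonneg (a 0)])
    omega
  · exfalso
    simp only [Fin.sum_univ_three] at hnorm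
    have h0 := sq_eq_one_or_four (a 0) (hχ 0).1 (by nlinarith [sq_nonneg (a 1), sq_nonneg (a 2)])
    have h1 := sq_eq_one_or_four (a 1) (hχ 1).1 (by nlinarith [sq_nonneg (a 0), sq_nonneg (a 2)])
    have h2 := sq_eq_one_or_four (a 2) (hχ 2).1 (by nlinarith [sq_nonneg (a 0), sq_nonneg (a 1)])
    omega
  · refine ⟨χ, a, hinj, ?_, hrel, hreal⟩
    have hsum := hnorm
    simp only [Fin.sum_univ_four] at hsum
    have hall : ∀ i, a i ^ 2 = 1 := by
      have h0 := hge 0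
      have h1 := hge 1
      have h2 := hge 2
      have h3 := hge 3
      intro i
      fin_cases i <;> simp only [Fin.zero_eta, Fin.mk_one, Fin.reduceFinMk] <;> omega
    intro i
    refine ⟨?_, (hχ i).2.1, (hχ i).2.2⟩
    have h1 : (a i - 1) * (a i + 1) = 0 := by nlinarith [hall i]
    rcases mul_eq_zero.mp h1 with h | h
    · left; omega
    · right; omega

/-- the sign attached to a degree -/
def sgnFive (f : ℕ) : ℤ := if f % 5 = 1 then 1 else -1

/-- Every solution of the degree equation of the block with four signed characters contains the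
degree `4`, or the degree `9` exactly once. -/
theorem arith_m4_five (f : Fin 4 → ℕ) (a : Fin 4 → ℤ)
    (hf : ∀ i, f i ∈ [4, 6, 9, 16, 24, 36, 54, 64]) (ha : ∀ i, a i = 1 ∨ a i = -1)
    (hmod : ∀ i, (f i : ℤ) % 5 = a i % 5) (hrel : 1 + ∑ i, a i * (f i : ℤ) = 0) :
    ∃ i, a i = -1 ∧ (f i = 4 ∨ (f i = 9 ∧ ∀ j, j ≠ i → f j ≠ 9)) := by
  have key : ∀ f₀ ∈ ([4, 6, 9, 16, 24, 36, 54, 64] : List ℕ),
      ∀ f₁ ∈ ([4, 6, 9, 16, 24, 36, 54, 64] : List ℕ),
      ∀ f₂ ∈ ([4, 6, 9, 16, 24, 36, 54, 64] : List ℕ),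
      ∀ f₃ ∈ ([4, 6, 9, 16, 24, 36, 54, 64] : List ℕ),
      1 + (sgnFive f₀ * (f₀ : ℤ) + sgnFive f₁ * (f₁ : ℤ) + sgnFive f₂ * (f₂ : ℤ) +
        sgnFive f₃ * (f₃ : ℤ)) = 0 →
      (f₀ = 4 ∨ (f₀ = 9 ∧ f₁ ≠ 9 ∧ f₂ ≠ 9 ∧ f₃ ≠ 9)) ∨
      (f₁ = 4 ∨ (f₁ = 9 ∧ f₀ ≠ 9 ∧ f₂ ≠ 9 ∧ f₃ ≠ 9)) ∨
      (f₂ = 4 ∨ (f₂ = 9 ∧ f₀ ≠ 9 ∧ f₁ ≠ 9 ∧ f₃ ≠ 9)) ∨
      (f₃ = 4 ∨ (f₃ = 9 ∧ f₀ ≠ 9 ∧ f₁ ≠ 9 ∧ f₂ ≠ 9)) := by
    unfold sgnFive
    decide +kernel
  have hsg : ∀ i, a i = sgnFive (f i) := by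
    intro i
    have h1 := hf i
    have h2 := hmod i
    unfold sgnFive
    simp only [List.mem_cons, List.not_mem_nil, or_false] at h1
    rcases ha i with h | h <;> rw [h] at h2 ⊢ <;> split_ifs with h3 <;> omega
  have hneg : ∀ i, (f i = 4 ∨ f i = 9) → a i = -1 := by
    intro i hi
    rw [hsg i]
    unfold sgnFive
    rcases hi with h | h <;> rw [h] <;> simp
  simp only [Fin.sum_univ_four] at hrel
  rw [hsg 0, hsg 1, hsg 2, hsg 3] at hrel
  rcases key (f 0) (hf 0) (f 1) (hf 1) (f 2) (hf 2) (f 3) (hf 3) hrel with h | h | h | h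
  · refine ⟨0, hneg 0 (h.imp id (fun h' => h'.1)), h.imp id (fun h' => ⟨h'.1, ?_⟩)⟩
    intro j hj
    fin_cases j
    · exact absurd rfl hj
    · exact h'.2.1
    · exact h'.2.2.1
    · exact h'.2.2.2
  · refine ⟨1, hneg 1 (h.imp id (fun h' => h'.1)), h.imp id (fun h' => ⟨h'.1, ?_⟩)⟩
    intro j hj
    fin_cases j
    · exact h'.2.1
    · exact absurd rfl hj
    · exact h'.2.2.1
    · exact h'.2.2.2
  · refine ⟨2, hneg 2 (h.imp id (fun h' => h'.1)), h.imp id (fun h' => ⟨h'.1, ?_⟩)⟩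
    intro j hj
    fin_cases j
    · exact h'.2.1
    · exact h'.2.2.1
    · exact absurd rfl hj
    · exact h'.2.2.2
  · refine ⟨3, hneg 3 (h.imp id (fun h' => h'.1)), h.imp id (fun h' => ⟨h'.1, ?_⟩)⟩
    intro j hj
    fin_cases j
    · exact h'.2.1
    · exact h'.2.2.1
    · exact h'.2.2.2
    · exact absurd rfl hj

/-- The case `[N(P) : C(P)] = 4` with an element of order `2` or `3` in `C(P)`. -/
theorem case_m4_five [IsSimpleGroup G] (hGn : ¬ (Nat.card G).Prime)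
    (hL : ∀ f : ℕ, f ∣ Nat.card G → f ≠ 1 → f ^ 2 ≤ Nat.card G → (f % 5 = 1 ∨ f % 5 = 4) →
      f ∈ [4, 6, 9, 16, 24, 36, 54, 64])
    (P : Sylow 5 G) (hP : Nat.card (P : Subgroup G) = 5)
    (hm : (Subgroup.centralizer ((P : Subgroup G) : Set G)).relIndex
      (Subgroup.normalizer ((P : Subgroup G) : Set G)) = 4)
    (c : G) (hc : c ∈ Subgroup.centralizer ((P : Subgroup G) : Set G))
    (hcq : orderOf c = 2 ∨ orderOf c = 3) : False := by
  have : Fact (Nat.Prime 5) := ⟨by norm_num⟩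
  obtain ⟨χ, a, hinj, hχ, hrel, hreal⟩ := block_m4_five hGn P hP hm
  have hdegs : ∀ i, ((χ i : G → ℂ) 1 = (Cfsg.charDegree (χ i : G → ℂ) : ℂ)) ∧
      Cfsg.charDegree (χ i : G → ℂ) ∈ [4, 6, 9, 16, 24, 36, 54, 64] ∧
      ((Cfsg.charDegree (χ i : G → ℂ) : ℕ) : ℤ) % 5 = a i % 5 := by
    intro i
    obtain ⟨ha, hx1, hxa⟩ := hχ i
    have hirr := (χ i).2
    obtain ⟨hxd, hxpos, hxdvd⟩ := Cfsg.Agent.Lib.Helper79.irr_charDegree hirr
    have hmod := Cfsg.Agent.Lib.Helper90.BrauerDeg.degree_modEq hirr 5 (P : Subgroup G) hP (a i)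
        (fun y hy hy1 => hxa y y (isPPart_self (by norm_num) _ hP y hy hy1) hy hy1)
    have hmod' : ((Cfsg.charDegree (χ i : G → ℂ) : ℕ) : ℤ) % 5 = a i % 5 := by
      have := hmod
      unfold Int.ModEq at this
      exact_mod_cast this
    refine ⟨hxd, ?_, hmod'⟩
    apply hL _ hxdvd
    · intro h
      apply hx1
      rw [hxd, h]
      norm_num
    · exact Cfsg.Agent.Lib.Helper80.charDegree_sq_le_card hirr
    · rcases ha with h | h <;> rw [h] at hmod' <;> omega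
  have hrel1 := hrel 1 (by rw [orderOf_one]; norm_num)
  have hrel1' : 1 + ∑ i, a i * ((Cfsg.charDegree (χ i : G → ℂ) : ℕ) : ℤ) = 0 := by
    have h : ((1 + ∑ i, a i * ((Cfsg.charDegree (χ i : G → ℂ) : ℕ) : ℤ) : ℤ) : ℂ) = 0 := by
      push_cast
      rw [← hrel1]
      congr 1
      exact Finset.sum_congr rfl (fun i _ => by rw [(hdegs i).1])
    exact_mod_cast h
  obtain ⟨i, hai, hfi⟩ := arith_m4_five (fun i => Cfsg.charDegree (χ i : G → ℂ)) a
    (fun i => (hdegs i).2.1) (fun i => (hχ i).1) (fun i => (hdegs i).2.2) hrel1'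
  have hval : ∀ z y : G, IsPPart 5 z y → y ∈ (P : Subgroup G) → y ≠ 1 →
      (χ i : G → ℂ) z = ((-1 : ℤ) : ℂ) := by
    intro z y hz hy hy1
    rw [(hχ i).2.2 z y hz hy hy1, hai]
  rcases hcq with hc2 | hc3
  · refine kill_involution_five hGn P hP (χ i) (hχ i).2.1 hval ?_ c hc hc2
    rcases hfi with h | h
    · exact Or.inl h
    · exact Or.inr h.1
  · refine kill_order_three_five P hP (χ i) (hχ i).2.1 hval ?_ c hc hc3
    rcases hfi with h | h
    · exact Or.inl h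
    · refine Or.inr ⟨h.1, hreal i ?_⟩
      intro i' hi'
      rw [(hdegs i').1, (hdegs i).1]
      intro heq
      have h1 : Cfsg.charDegree (χ i' : G → ℂ) = Cfsg.charDegree (χ i : G → ℂ) := by
        exact_mod_cast heq
      exact h.2 i' hi' (by rw [h1]; exact h.1)

end Cfsg.Agent.Lib.Helper91.SS
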