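import Mathlib
import Cfsg.Agent.Lib.Helper91.SSFive

set_option autoImplicit false

/-!
# Arithmetic for the simple groups of order `7920`

Finite verifications used in the determination of the character degrees of a simple group of
order `7920 = 2^4 * 3^2 * 5 * 11`.
-/

namespace Cfsg.Agent.Lib.Helper91.M11

open Cfsg.Agent.Lib.Helper91.SS

/-- the sign of a degree `≡ ±1` modulo `11` -/
def sgnEleven (f : ℕ) : ℤ := if f % 11 = 1 then 1 else -1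

/-- Brauer's degree equation for `p = 11`, `e = 2` among divisors of `7920` -/
theorem arith_m2 (x y : ℕ) (hx : x ∣ 7920) (hy : y ∣ 7920) (hx1 : x ≠ 1) :
    (x % 11 = 1 ∧ y = x + 1 → False) ∧ (x % 11 = 10 ∧ x = y + 1 → x = 10) := by
  have hx' : x ∈ Nat.divisors 7920 := Nat.mem_divisors.mpr ⟨hx, by norm_num⟩
  have hy' : y ∈ Nat.divisors 7920 := Nat.mem_divisors.mpr ⟨hy, by norm_num⟩
  have key : ∀ x ∈ Nat.divisors 7920, ∀ y ∈ Nat.divisors 7920, x ≠ 1 →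
      (x % 11 = 1 ∧ y = x + 1 → False) ∧ (x % 11 = 10 ∧ x = y + 1 → x = 10) := by
    decide +kernel
  exact key x hx' y hy' hx1

/-- candidates for the degrees of the non-exceptional characters of the principal `11`-block -/
theorem list11 (f : ℕ) (hf : f ∣ 7920) (h1 : f ≠ 1) (hsq : f ^ 2 ≤ 7920)
    (hmod : f % 11 = 1 ∨ f % 11 = 10) : f ∈ [10, 12, 45] := by
  have hf' : f ∈ Nat.divisors 7920 := Nat.mem_divisors.mpr ⟨hf, by norm_num⟩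
  have key : ∀ f ∈ Nat.divisors 7920, f ≠ 1 → f ^ 2 ≤ 7920 → (f % 11 = 1 ∨ f % 11 = 10) →
      f ∈ [10, 12, 45] := by decide +kernel
  exact key f hf' h1 hsq hmod

/-- the degree equation with one non-exceptional character of value `±2` -/
theorem arith_a2 (x y : ℕ) (hx : x ∣ 7920) (hy : y ∣ 7920) (hx1 : x ≠ 1) :
    (x % 11 = 2 ∧ y = 1 + 2 * x → x = 2) ∧ (x % 11 = 9 ∧ y + 1 = 2 * x → False) := by
  have hx' : x ∈ Nat.divisors 7920 := Nat.mem_divisors.mpr ⟨hx, by norm_num⟩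
  have hy' : y ∈ Nat.divisors 7920 := Nat.mem_divisors.mpr ⟨hy, by norm_num⟩
  have key : ∀ x ∈ Nat.divisors 7920, ∀ y ∈ Nat.divisors 7920, x ≠ 1 →
      (x % 11 = 2 ∧ y = 1 + 2 * x → x = 2) ∧ (x % 11 = 9 ∧ y + 1 = 2 * x → False) := by
    decide +kernel
  exact key x hx' y hy' hx1

/-- the signed degree sum of four non-exceptional characters -/
def sumEleven (x₀ x₁ x₂ x₃ : ℕ) : ℤ :=
  1 + (sgnEleven x₀ * (x₀ : ℤ) + sgnEleven x₁ * (x₁ : ℤ) + sgnEleven x₂ * (x₂ : ℤ) +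
    sgnEleven x₃ * (x₃ : ℤ))

/-- the conclusion of the analysis of the principal `11`-block -/
def concEleven (x₀ x₁ x₂ x₃ : ℕ) : Prop :=
  (sumEleven x₀ x₁ x₂ x₃ = 16 ∧
    ((x₀ = 45 ∧ x₁ = 10 ∧ x₂ = 10 ∧ x₃ = 10) ∨ (x₀ = 10 ∧ x₁ = 45 ∧ x₂ = 10 ∧ x₃ = 10) ∨
      (x₀ = 10 ∧ x₁ = 10 ∧ x₂ = 45 ∧ x₃ = 10) ∨ (x₀ = 10 ∧ x₁ = 10 ∧ x₂ = 10 ∧ x₃ = 45))) ∨
  (sumEleven x₀ x₁ x₂ x₃ = 5 ∧ (x₀ = 10 ∨ x₀ = 12) ∧ (x₁ = 10 ∨ x₁ = 12) ∧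
    (x₂ = 10 ∨ x₂ = 12) ∧ (x₃ = 10 ∨ x₃ = 12))

/-- the check for one tuple -/
def chkEleven (x₀ x₁ x₂ x₃ : ℕ) : Prop :=
  (sumEleven x₀ x₁ x₂ x₃).natAbs ∣ 7920 →
  1 + (x₀ ^ 2 + x₁ ^ 2 + x₂ ^ 2 + x₃ ^ 2) + 2 * (sumEleven x₀ x₁ x₂ x₃).natAbs ^ 2 ≤ 7920 →
  concEleven x₀ x₁ x₂ x₃

instance (x₀ x₁ x₂ x₃ : ℕ) : Decidable (chkEleven x₀ x₁ x₂ x₃) := by
  unfold chkEleven concEleven
  infer_instance

/-- the degree equation of the principal `11`-block: the two solutions -/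
theorem key_eleven : ∀ x₀ ∈ ([10, 12, 45] : List ℕ), ∀ x₁ ∈ ([10, 12, 45] : List ℕ),
    ∀ x₂ ∈ ([10, 12, 45] : List ℕ), ∀ x₃ ∈ ([10, 12, 45] : List ℕ), chkEleven x₀ x₁ x₂ x₃ := by
  decide +kernel

/-- candidates for the degrees in the principal `5`-block, first configuration -/
theorem list5A (f : ℕ) (hf : f ∣ 7920) (h1 : f ≠ 1) (hsq : f ^ 2 ≤ 7920)
    (hmod : f % 5 = 1 ∨ f % 5 = 4) (h11 : f = 16 ∨ 11 ∣ f) : f ∈ [16, 11, 44, 66] := by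
  have hf' : f ∈ Nat.divisors 7920 := Nat.mem_divisors.mpr ⟨hf, by norm_num⟩
  have key : ∀ f ∈ Nat.divisors 7920, f ≠ 1 → f ^ 2 ≤ 7920 → (f % 5 = 1 ∨ f % 5 = 4) →
      (f = 16 ∨ 11 ∣ f) → f ∈ [16, 11, 44, 66] := by decide +kernel
  exact key f hf' h1 hsq hmod h11

/-- the conclusion of the analysis of the principal `5`-block with `[N(P) : C(P)] = 4` -/
def concFive (x : Fin 4 → ℕ) : Prop :=
  ∃ i j : Fin 4, x i = 11 ∧ x j = 44 ∧ ∀ l : Fin 4, l ≠ i → l ≠ j → x l = 16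

instance (x : Fin 4 → ℕ) : Decidable (concFive x) := by
  unfold concFive
  infer_instance

/-- the degree equation of the principal `5`-block with `[N(P) : C(P)] = 4` -/
theorem key_five : ∀ x₀ ∈ ([16, 11, 44, 66] : List ℕ), ∀ x₁ ∈ ([16, 11, 44, 66] : List ℕ),
    ∀ x₂ ∈ ([16, 11, 44, 66] : List ℕ), ∀ x₃ ∈ ([16, 11, 44, 66] : List ℕ),
    1 + (sgnFive x₀ * (x₀ : ℤ) + sgnFive x₁ * (x₁ : ℤ) + sgnFive x₂ * (x₂ : ℤ) +
      sgnFive x₃ * (x₃ : ℤ)) = 0 → concFive ![x₀, x₁, x₂, x₃] := by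
  decide +kernel

/-- the degree equation of the principal `5`-block with `[N(P) : C(P)] = 2` -/
theorem arith5_m2 (x y : ℕ) (hx : x ∣ 7920) (hy : y ∣ 7920) (hx1 : x ≠ 1) (hy1 : y ≠ 1)
    (hrel : (x % 5 = 1 ∧ y = x + 1) ∨ (x % 5 = 4 ∧ x = y + 1)) :
    ((x = 16 ∨ 11 ∣ x) → (y = 10 ∨ y = 45 ∨ y = 16 ∨ 11 ∣ y) → False) ∧
    ((x = 10 ∨ x = 12 ∨ x = 5 ∨ 11 ∣ x) → (y = 10 ∨ y = 12 ∨ y = 5 ∨ 11 ∣ y) →
      x = 11 ∧ y = 12) := by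
  have hx' : x ∈ Nat.divisors 7920 := Nat.mem_divisors.mpr ⟨hx, by norm_num⟩
  have hy' : y ∈ Nat.divisors 7920 := Nat.mem_divisors.mpr ⟨hy, by norm_num⟩
  have key : ∀ x ∈ Nat.divisors 7920, ∀ y ∈ Nat.divisors 7920, x ≠ 1 → y ≠ 1 →
      ((x % 5 = 1 ∧ y = x + 1) ∨ (x % 5 = 4 ∧ x = y + 1)) →
      ((x = 16 ∨ 11 ∣ x) → (y = 10 ∨ y = 45 ∨ y = 16 ∨ 11 ∣ y) → False) ∧
      ((x = 10 ∨ x = 12 ∨ x = 5 ∨ 11 ∣ x) → (y = 10 ∨ y = 12 ∨ y = 5 ∨ 11 ∣ y) →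
        x = 11 ∧ y = 12) := by
    decide +kernel
  exact key x hx' y hy' hx1 hy1 hrel

/-- the Sylow `5`-normalizer -/
theorem arith_sylow5 (n r c : ℕ) (h : n * (r * c) = 7920) (hmod : n % 5 = 1)
    (h11 : ¬ 11 ∣ c) (hr : r = 2 ∨ r = 4) : 2 ∣ c ∨ (r = 4 ∧ c = 5) := by
  have hn : n ∈ Nat.divisors 7920 := Nat.mem_divisors.mpr ⟨Dvd.intro _ h, by norm_num⟩
  have hc : c ∈ Nat.divisors 7920 :=
    Nat.mem_divisors.mpr ⟨Dvd.intro_left (n * r) (by rw [← h]; ring), by norm_num⟩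
  have key : ∀ n ∈ Nat.divisors 7920, ∀ c ∈ Nat.divisors 7920, ∀ r ∈ ([2, 4] : List ℕ),
      n * (r * c) = 7920 → n % 5 = 1 → ¬ 11 ∣ c → 2 ∣ c ∨ (r = 4 ∧ c = 5) := by
    decide +kernel
  exact key n hn c hc r (by rcases hr with rfl | rfl <;> simp) h hmod h11

/-- the final contradiction in the first configuration: an involution centralizing a Sylow
`5`-subgroup -/
theorem key_A : ∀ k₀ ∈ List.range 23, ∀ k₁ ∈ List.range 6, ∀ k₂ ∈ List.range 6,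
    ∀ k₃ ∈ List.range 6,
    5 + ((45 : ℤ) - 4 * (k₀ : ℤ)) - ((10 : ℤ) - 4 * (k₁ : ℤ)) - ((10 : ℤ) - 4 * (k₂ : ℤ)) -
      ((10 : ℤ) - 4 * (k₃ : ℤ)) = 0 →
    2 * ((45 : ℤ) - 4 * (k₀ : ℤ)) ^ 2 - 9 * (((10 : ℤ) - 4 * (k₁ : ℤ)) ^ 2 +
      ((10 : ℤ) - 4 * (k₂ : ℤ)) ^ 2 + ((10 : ℤ) - 4 * (k₃ : ℤ)) ^ 2) = 0 → False := by
  decide +kernel

/-- the admissible values `k` for a character of degree `f` at an involution -/
def ksM (f : ℕ) : List ℕ := List.range (f / 2 + 1)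

/-- the check for one tuple in the second configuration -/
def chkB (x₀ x₁ x₂ x₃ k₀ k₁ k₂ k₃ ke : ℕ) : Prop :=
  ((x₀ = 12 ∧ k₀ = 5) ∨ (x₁ = 12 ∧ k₁ = 5) ∨ (x₂ = 12 ∧ k₂ = 5) ∨ (x₃ = 12 ∧ k₃ = 5)) →
  -((5 : ℤ) - 4 * (ke : ℤ)) + 1 + (sgnEleven x₀ * ((x₀ : ℤ) - 4 * (k₀ : ℤ)) +
    sgnEleven x₁ * ((x₁ : ℤ) - 4 * (k₁ : ℤ)) + sgnEleven x₂ * ((x₂ : ℤ) - 4 * (k₂ : ℤ)) +
    sgnEleven x₃ * ((x₃ : ℤ) - 4 * (k₃ : ℤ))) = 0 →
  -12 * ((5 : ℤ) - 4 * (ke : ℤ)) ^ 2 + 60 +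
    (sgnEleven x₀ * ((x₀ : ℤ) - 4 * (k₀ : ℤ)) ^ 2 * ((60 / x₀ : ℕ) : ℤ) +
    sgnEleven x₁ * ((x₁ : ℤ) - 4 * (k₁ : ℤ)) ^ 2 * ((60 / x₁ : ℕ) : ℤ) +
    sgnEleven x₂ * ((x₂ : ℤ) - 4 * (k₂ : ℤ)) ^ 2 * ((60 / x₂ : ℕ) : ℤ) +
    sgnEleven x₃ * ((x₃ : ℤ) - 4 * (k₃ : ℤ)) ^ 2 * ((60 / x₃ : ℕ) : ℤ)) = 0 → False

instance (x₀ x₁ x₂ x₃ k₀ k₁ k₂ k₃ ke : ℕ) : Decidable (chkB x₀ x₁ x₂ x₃ k₀ k₁ k₂ k₃ ke) := by
  unfold chkB
  infer_instance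

set_option maxRecDepth 100000 in
/-- the final contradiction in the second configuration -/
theorem key_B : ∀ x₀ ∈ ([10, 12] : List ℕ), ∀ x₁ ∈ ([10, 12] : List ℕ),
    ∀ x₂ ∈ ([10, 12] : List ℕ), ∀ x₃ ∈ ([10, 12] : List ℕ), sumEleven x₀ x₁ x₂ x₃ = 5 →
    ∀ k₀ ∈ ksM x₀, ∀ k₁ ∈ ksM x₁, ∀ k₂ ∈ ksM x₂, ∀ k₃ ∈ ksM x₃, ∀ ke ∈ List.range 3,
      chkB x₀ x₁ x₂ x₃ k₀ k₁ k₂ k₃ ke := by
  decide +kernel

/-- the number of indices of a given degree, in the final list of degrees -/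
theorem count_degrees (n : ℕ) :
    Fintype.card {j : Fin 10 // (![55, 1, 45, 10, 10, 10, 16, 16, 11, 44] : Fin 10 → ℕ) j = n} =
      (if n = 1 ∨ n = 11 ∨ n = 44 ∨ n = 45 ∨ n = 55 then 1 else if n = 10 then 3
        else if n = 16 then 2 else 0) := by
  by_cases h1 : n = 1
  · subst h1; decide
  by_cases h11 : n = 11
  · subst h11; decide
  by_cases h44 : n = 44
  · subst h44; decide
  by_cases h45 : n = 45
  · subst h45; decide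
  by_cases h55 : n = 55
  · subst h55; decide
  by_cases h10 : n = 10
  · subst h10; decide
  by_cases h16 : n = 16
  · subst h16; decide
  have hif : (if n = 1 ∨ n = 11 ∨ n = 44 ∨ n = 45 ∨ n = 55 then 1 else if n = 10 then 3
        else if n = 16 then 2 else 0) = 0 := by
    simp [h1, h11, h44, h45, h55, h10, h16]
  rw [hif, Fintype.card_eq_zero_iff]
  constructor
  rintro ⟨j, hj⟩
  fin_cases j <;> simp at hj <;> omega

/-- the sum of the squares of the nine known degrees -/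
theorem sum_nine :
    ∑ j : Fin 9, (![1, 45, 10, 10, 10, 16, 16, 11, 44] : Fin 9 → ℕ) j ^ 2 = 4895 := by
  decide

/-- an injectivity criterion for a list of nine objects with the degrees
`1, 45, 10, 10, 10, 16, 16, 11, 44` -/
theorem injective_nine {α : Type*} (c : Fin 9 → α) (f : α → ℕ)
    (hf : ∀ j, f (c j) = (![1, 45, 10, 10, 10, 16, 16, 11, 44] : Fin 9 → ℕ) j)
    (h23 : c 2 ≠ c 3) (h24 : c 2 ≠ c 4) (h34 : c 3 ≠ c 4) (h56 : c 5 ≠ c 6) :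
    Function.Injective c := by
  intro j j' h
  have hd := congrArg f h
  rw [hf, hf] at hd
  fin_cases j <;> fin_cases j' <;>
    first
    | rfl
    | (exfalso; revert hd; decide)
    | exact absurd h h23
    | exact absurd h.symm h23
    | exact absurd h h24
    | exact absurd h.symm h24
    | exact absurd h h34
    | exact absurd h.symm h34
    | exact absurd h h56
    | exact absurd h.symm h56

/-- among four indices, one differs from two given ones -/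
theorem exists_third : ∀ i j : Fin 4, ∃ l : Fin 4, l ≠ i ∧ l ≠ j := by decide

end Cfsg.Agent.Lib.Helper91.M11
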