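import Mathlib
import Cfsg.Agent.Lib.Helper17.PrimeSylow
import Cfsg.Agent.Lib.Helper53.PGroups
import Cfsg.Agent.Lib.Helper90.BrauerDeg

set_option autoImplicit false

/-!
# Further group-theoretic tools for small simple orders

Triviality of central elements, Sylow counting inside a subgroup,
uniqueness of Sylow subgroups of a centralizer, and central involutions of `2`-subgroups.
-/

namespace Cfsg.Agent.Lib.Helper91.SS

open Cfsg

variable {G : Type*} [Group G]

/-- A central element of a simple group of non-prime order is trivial. -/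
theorem eq_one_of_central [Finite G] [IsSimpleGroup G] (hGn : ¬ (Nat.card G).Prime) (t : G)
    (ht : ∀ g : G, g * t = t * g) : t = 1 := by
  have hperf := Cfsg.Agent.Lib.Helper90.BrauerDeg.commutator_eq_top_of_simple hGn
  have hmem : t ∈ Subgroup.center G := Subgroup.mem_center_iff.mpr ht
  rcases (inferInstance : (Subgroup.center G).Normal).eq_bot_or_eq_top with h | h
  · rw [h] at hmem
    exact Subgroup.mem_bot.mp hmem
  · exfalso
    have h1 := (commutator_eq_bot_iff_center_eq_top G).mpr h
    rw [hperf] at h1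
    exact top_ne_bot h1

/-- Sylow counting inside a subgroup `H` containing the Sylow subgroup `P`. -/
theorem card_sylow_subgroup [Finite G] (p : ℕ) [Fact p.Prime] (P : Sylow p G) (H : Subgroup G)
    (hPH : (P : Subgroup G) ≤ H) :
    Nat.card (Sylow p H) % p = 1 ∧
      Nat.card (Sylow p H) *
        Nat.card (Subgroup.normalizer ((P : Subgroup G) : Set G) ⊓ H : Subgroup G) =
          Nat.card H := by
  have h1 := Cfsg.Agent.Lib.Helper17.card_sylow_mul_card_normalizer p (P.subtype hPH)
  rw [Sylow.coe_subtype, ← Subgroup.subgroupOf_normalizer_eq hPH] at h1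
  have h2 : Nat.card ((Subgroup.normalizer ((P : Subgroup G) : Set G)).subgroupOf H) =
      Nat.card (Subgroup.normalizer ((P : Subgroup G) : Set G) ⊓ H : Subgroup G) := by
    rw [← Subgroup.inf_subgroupOf_right]
    exact Nat.card_congr (Subgroup.subgroupOfEquivOfLe inf_le_right).toEquiv
  rw [h2] at h1
  exact ⟨Cfsg.Agent.Lib.Helper17.card_sylow_mod p, h1⟩

/-- In a group with a unique Sylow `q`-subgroup, of order `q`, any two elements of order `q`
generate the same subgroup. -/
theorem mem_zpowers_of_card_sylow_eq_one [Finite G] (q : ℕ) [Fact q.Prime] (m : ℕ)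
    (hG : Nat.card G = q ^ 1 * m) (hm : ¬ q ∣ m) (hn : Nat.card (Sylow q G) = 1) (x y : G)
    (hx : orderOf x = q) (hy : orderOf y = q) : y ∈ Subgroup.zpowers x := by
  have hsub : Subsingleton (Sylow q G) := (Nat.card_eq_one_iff_unique.mp hn).1
  have hpx : IsPGroup q (Subgroup.zpowers x) :=
    IsPGroup.of_card (n := 1) (by rw [Nat.card_zpowers, hx, pow_one])
  have hpy : IsPGroup q (Subgroup.zpowers y) :=
    IsPGroup.of_card (n := 1) (by rw [Nat.card_zpowers, hy, pow_one])
  obtain ⟨S, hS⟩ := hpx.exists_le_sylow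
  obtain ⟨S', hS'⟩ := hpy.exists_le_sylow
  have hSS : S' = S := Subsingleton.elim _ _
  rw [hSS] at hS'
  have hcard := Cfsg.Agent.Lib.Helper17.card_sylow_eq_of_card_eq q 1 m hG hm S
  have hxS : Subgroup.zpowers x = (S : Subgroup G) :=
    Subgroup.eq_of_le_of_card_ge hS (by rw [hcard, Nat.card_zpowers, hx, pow_one])
  rw [hxS]
  exact hS' (Subgroup.mem_zpowers y)

/-- Conjugating an element of `C(P)` by an element of `N(P)` stays in `C(P)`. -/
theorem conj_mem_centralizer_of_mem_normalizer (P : Subgroup G) (g x : G)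
    (hg : g ∈ Subgroup.normalizer (P : Set G)) (hx : x ∈ Subgroup.centralizer (P : Set G)) :
    g * x * g⁻¹ ∈ Subgroup.centralizer (P : Set G) := by
  rw [Subgroup.mem_centralizer_iff]
  intro u hu
  have hu' : g⁻¹ * u * g ∈ P := by
    have := (Subgroup.mem_normalizer_iff.mp (inv_mem hg) u).mp hu
    simpa using this
  have h1 := Subgroup.mem_centralizer_iff.mp hx _ hu'
  calc u * (g * x * g⁻¹) = g * ((g⁻¹ * u * g) * x) * g⁻¹ := by group
    _ = g * (x * (g⁻¹ * u * g)) * g⁻¹ := by rw [h1]
    _ = g * x * g⁻¹ * u := by group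

/-- If `C(P)` has a unique Sylow `q`-subgroup, of order `q`, then `N(P)` normalizes the subgroup
generated by any element of order `q` of `C(P)`. -/
theorem normalizer_le_normalizer_zpowers [Finite G] (P : Subgroup G) (q m : ℕ) [Fact q.Prime]
    (hC : Nat.card (Subgroup.centralizer (P : Set G)) = q ^ 1 * m) (hm : ¬ q ∣ m)
    (hn : Nat.card (Sylow q (Subgroup.centralizer (P : Set G))) = 1) (x : G)
    (hxC : x ∈ Subgroup.centralizer (P : Set G)) (hx : orderOf x = q) :
    Subgroup.normalizer (P : Set G) ≤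
      Subgroup.normalizer ((Subgroup.zpowers x : Subgroup G) : Set G) := by
  apply Cfsg.Agent.Lib.Helper53.le_normalizer_of_conj_mem
  intro g hg w hw
  have hgx : g * x * g⁻¹ ∈ Subgroup.zpowers x := by
    have ho : orderOf (g * x * g⁻¹) = q := by
      have := (MulAut.conj g).orderOf_eq x
      rw [MulAut.conj_apply] at this
      rw [this, hx]
    have h1 := mem_zpowers_of_card_sylow_eq_one (G := Subgroup.centralizer (P : Set G)) q m hC hm
      hn ⟨x, hxC⟩ ⟨g * x * g⁻¹, conj_mem_centralizer_of_mem_normalizer P g x hg hxC⟩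
      (by rw [Subgroup.orderOf_mk]; exact hx) (by rw [Subgroup.orderOf_mk]; exact ho)
    obtain ⟨k, hk⟩ := Subgroup.mem_zpowers_iff.mp h1
    have h2 := congrArg Subtype.val hk
    rw [Subgroup.coe_zpow] at h2
    exact Subgroup.mem_zpowers_iff.mpr ⟨k, h2⟩
  obtain ⟨k, rfl⟩ := Subgroup.mem_zpowers_iff.mp hw
  rw [← conj_zpow]
  exact zpow_mem hgx k

/-- The number of Sylow `q`-subgroups of `C(P)`, for `P` abelian, times a multiple of `|P|` and
of the order of a Sylow `q`-subgroup, is `|C(P)|`. -/
theorem card_sylow_centralizer_mul [Finite G] (P : Subgroup G)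
    (hab : ∀ a ∈ P, ∀ b ∈ P, a * b = b * a) (q : ℕ) [Fact q.Prime]
    (S : Sylow q (Subgroup.centralizer (P : Set G))) :
    ∃ w : ℕ, Nat.card (Sylow q (Subgroup.centralizer (P : Set G))) * w =
        Nat.card (Subgroup.centralizer (P : Set G)) ∧ Nat.card P ∣ w ∧
        Nat.card (S : Subgroup (Subgroup.centralizer (P : Set G))) ∣ w := by
  have hPC : P ≤ Subgroup.centralizer (P : Set G) := by
    intro a ha
    rw [Subgroup.mem_centralizer_iff]
    intro b hb
    exact hab b hb a ha
  refine ⟨_, Cfsg.Agent.Lib.Helper17.card_sylow_mul_card_normalizer q S, ?_, ?_⟩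
  · have h1 : Nat.card (P.subgroupOf (Subgroup.centralizer (P : Set G))) = Nat.card P :=
      Nat.card_congr (Subgroup.subgroupOfEquivOfLe hPC).toEquiv
    rw [← h1]
    apply Subgroup.card_dvd_of_le
    refine le_trans ?_ (Subgroup.center_le_normalizer _)
    intro z hz
    rw [Subgroup.mem_center_iff]
    intro c
    apply Subtype.ext
    have h2 := Subgroup.mem_centralizer_iff.mp c.2 (z : G) (Subgroup.mem_subgroupOf.mp hz)
    simpa using h2.symm
  · exact Subgroup.card_dvd_of_le Subgroup.le_normalizer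

/-- A nontrivial subgroup `M` of a finite `2`-subgroup `T` normalized by `T` contains an involution
central in `T`. -/
theorem exists_involution_central [Finite G] (T M : Subgroup G) (hT : IsPGroup 2 T)
    (hMT : M ≤ T) (hTN : T ≤ Subgroup.normalizer (M : Set G)) (hM : M ≠ ⊥) :
    ∃ t ∈ M, orderOf t = 2 ∧ ∀ g ∈ T, g * t = t * g := by
  have : Fact (Nat.Prime 2) := ⟨Nat.prime_two⟩
  obtain ⟨w, hwM, hw1, hwc⟩ :=
    Cfsg.Agent.Lib.Helper53.exists_mem_center_of_normal_subgroup hT hMT hTN hM
  obtain ⟨j, hj⟩ := (IsPGroup.iff_orderOf.mp hT) ⟨w, hMT hwM⟩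
  rw [Subgroup.orderOf_mk] at hj
  have hj0 : j ≠ 0 := by
    rintro rfl
    rw [pow_zero, orderOf_eq_one_iff] at hj
    exact hw1 hj
  obtain ⟨i, rfl⟩ : ∃ i, j = i + 1 := ⟨j - 1, by omega⟩
  refine ⟨w ^ 2 ^ i, pow_mem hwM _, ?_, ?_⟩
  · rw [orderOf_pow_of_dvd (by positivity) (by rw [hj, pow_succ]; exact Dvd.intro _ rfl), hj,
      pow_succ, Nat.mul_div_cancel_left _ (by positivity)]
  · intro g hg
    have hc : Commute g w := hwc g hg
    exact (hc.pow_right _).eq

end Cfsg.Agent.Lib.Helper91.SS
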