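import Mathlib
import Cfsg.Agent.Lib.Helper91.SSSum
import Cfsg.Agent.Lib.Helper17.PrimeSylow

set_option autoImplicit false

/-!
# Class functions vanishing off the `p`-singular elements, when `N(P)` is dihedral of order `2p`

Let the Sylow `p`-subgroups of `G` have order `p`, be self-centralizing and have normalizers of
order `2p`, and let `s` be an involution of `N(P)`.  If `Φ` is a class function vanishing on the
`p`-regular elements then `2 * ∑ g, Φ (g s g⁻¹ s) = |C(s)|² * ∑ y ∈ P, Φ y`.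
-/

namespace Cfsg.Agent.Lib.Helper91.SS

open Cfsg

variable {G : Type*} [Group G]

/-- Membership in a conjugate Sylow subgroup. -/
theorem mem_smul_sylow {p : ℕ} (c : G) (P : Sylow p G) (x : G) :
    x ∈ ((c • P : Sylow p G) : Subgroup G) ↔ c⁻¹ * x * c ∈ (P : Subgroup G) := by
  rw [Sylow.coe_subgroup_smul, Subgroup.mem_pointwise_smul_iff_inv_smul_mem]
  have h2 : (MulAut.conj c)⁻¹ • x = c⁻¹ * x * c := by
    rw [MulAut.smul_def, MulAut.conj_inv_apply]
  rw [h2]

section

variable [Finite G] (p : ℕ) [Fact p.Prime]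

/-- If the Sylow `p`-subgroups have order `p` and are self-centralizing, an element of order
divisible by `p` lies in one of them. -/
theorem exists_sylow_mem_of_dvd_orderOf
    (hQ : ∀ Q : Sylow p G, Nat.card (Q : Subgroup G) = p)
    (hC : ∀ Q : Sylow p G, Subgroup.centralizer ((Q : Subgroup G) : Set G) = (Q : Subgroup G))
    (u : G) (hu : p ∣ orderOf u) : ∃ Q : Sylow p G, u ∈ (Q : Subgroup G) := by
  have hpp : p.Prime := Fact.out
  obtain ⟨n', hn'⟩ := hu
  have hn0 : n' ≠ 0 := by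
    rintro rfl
    rw [mul_zero] at hn'
    exact (orderOf_pos u).ne' hn'
  have hv : orderOf (u ^ n') = p := by
    rw [orderOf_pow_of_dvd hn0 (Dvd.intro_left _ hn'.symm), hn',
      Nat.mul_div_cancel _ (Nat.pos_of_ne_zero hn0)]
  have hvp : IsPGroup p (Subgroup.zpowers (u ^ n')) :=
    IsPGroup.of_card (n := 1) (by rw [Nat.card_zpowers, hv, pow_one])
  obtain ⟨Q, hQle⟩ := hvp.exists_le_sylow
  have hvQ : u ^ n' ∈ (Q : Subgroup G) := hQle (Subgroup.mem_zpowers _)
  have hv1 : u ^ n' ≠ 1 := by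
    intro h
    rw [h, orderOf_one] at hv
    exact hpp.one_lt.ne hv
  refine ⟨Q, ?_⟩
  have h1 := mem_centralizer_of_commute hpp (Q : Subgroup G) (hQ Q) (u ^ n') hvQ hv1 u
    (Commute.pow_right (Commute.refl u) n')
  rw [hC Q] at h1
  exact h1

omit [Finite G] in
/-- Under the same hypotheses, an involution normalizing a Sylow `p`-subgroup (`p` odd) inverts
it. -/
theorem involution_inverts (hp2 : p ≠ 2)
    (hQ : ∀ Q : Sylow p G, Nat.card (Q : Subgroup G) = p)
    (hC : ∀ Q : Sylow p G, Subgroup.centralizer ((Q : Subgroup G) : Set G) = (Q : Subgroup G))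
    (Q : Sylow p G) (v : G) (hv1 : v ≠ 1) (hv2 : v * v = 1)
    (hvQ : v ∈ Subgroup.normalizer ((Q : Subgroup G) : Set G)) (y : G)
    (hy : y ∈ (Q : Subgroup G)) : v * y * v⁻¹ = y⁻¹ := by
  have hpp : p.Prime := Fact.out
  have hvnQ : v ∉ (Q : Subgroup G) := by
    intro h
    have h1 := Cfsg.Agent.Lib.Helper17.orderOf_eq_of_mem_of_card_prime hpp (Q : Subgroup G)
      (hQ Q) v h hv1
    have h2 : orderOf v ∣ 2 := orderOf_dvd_of_pow_eq_one (by rw [pow_two]; exact hv2)
    rw [h1] at h2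
    exact hp2 ((Nat.prime_dvd_prime_iff_eq hpp Nat.prime_two).mp h2)
  have hcomm : ∀ a b : G, a ∈ (Q : Subgroup G) → b ∈ (Q : Subgroup G) → a * b = b * a := by
    intro a b ha hb
    have hb' : b ∈ Subgroup.centralizer ((Q : Subgroup G) : Set G) := by rw [hC Q]; exact hb
    exact Subgroup.mem_centralizer_iff.mp hb' a ha
  have hy' : v * y * v⁻¹ ∈ (Q : Subgroup G) := (Subgroup.mem_normalizer_iff.mp hvQ y).mp hy
  have hwQ : y * (v * y * v⁻¹) ∈ (Q : Subgroup G) := mul_mem hy hy'
  have h1 : v * (y * (v * y * v⁻¹)) * v⁻¹ = (v * y * v⁻¹) * y := by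
    calc v * (y * (v * y * v⁻¹)) * v⁻¹ = (v * y * v⁻¹) * ((v * v) * y * (v * v)⁻¹) := by group
      _ = (v * y * v⁻¹) * y := by rw [hv2]; group
  have h2 : v * (y * (v * y * v⁻¹)) * v⁻¹ = y * (v * y * v⁻¹) := by
    rw [h1]
    exact hcomm _ _ hy' hy
  have hvw : v * (y * (v * y * v⁻¹)) = (y * (v * y * v⁻¹)) * v := by
    calc v * (y * (v * y * v⁻¹)) = (v * (y * (v * y * v⁻¹)) * v⁻¹) * v := by group
      _ = (y * (v * y * v⁻¹)) * v := by rw [h2]
  have hw1 : y * (v * y * v⁻¹) = 1 := by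
    by_contra hne
    apply hvnQ
    have h3 := mem_centralizer_of_commute hpp (Q : Subgroup G) (hQ Q) _ hwQ hne v hvw
    rw [hC Q] at h3
    exact h3
  exact eq_inv_of_mul_eq_one_right hw1

end

/-- **Counting with a class function supported on `p`-singular elements.**  The sum of `Φ` over
the products `g s g⁻¹ s` is `|C(s)|` times the number of Sylow `p`-subgroups normalized by the
involution `s` times the sum of `Φ` over one Sylow `p`-subgroup. -/
theorem sum_conj_involution_fixed [Fintype G] (p : ℕ) [Fact p.Prime] (hp2 : p ≠ 2)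
    (hQ : ∀ Q : Sylow p G, Nat.card (Q : Subgroup G) = p)
    (hC : ∀ Q : Sylow p G, Subgroup.centralizer ((Q : Subgroup G) : Set G) = (Q : Subgroup G))
    (P : Sylow p G) (s : G) (hs1 : s ≠ 1) (hs2 : s * s = 1)
    (Φ : G → ℂ) (hΦ : ∀ g x : G, Φ (g * x * g⁻¹) = Φ x)
    (hΦ0 : ∀ g : G, ¬ p ∣ orderOf g → Φ g = 0) :
    ∑ g : G, Φ (g * s * g⁻¹ * s) =
      (Nat.card (Subgroup.centralizer ({s} : Set G)) : ℂ) *
        ((Set.ncard {Q : Sylow p G | s • Q = Q} : ℕ) : ℂ) *
        ∑ᶠ y : (P : Subgroup G), Φ (y : G) := by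
  classical
  have hpp : p.Prime := Fact.out
  have hpodd : p % 2 = 1 := by
    rcases hpp.eq_two_or_odd with h | h
    · exact absurd h hp2
    · exact h
  set H := Subgroup.centralizer ({s} : Set G) with hH
  have hmemH : ∀ g : G, g ∈ H ↔ g * s = s * g := by
    intro g
    rw [hH, Subgroup.mem_centralizer_iff]
    simp only [Set.mem_singleton_iff, forall_eq]
    exact eq_comm
  have hsinv : s⁻¹ = s := inv_eq_of_mul_eq_one_left hs2
  have hpow : ∀ Q : Sylow p G, ∀ y : G, y ∈ (Q : Subgroup G) → y ^ p = 1 := by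
    intro Q y hy
    have h1 : orderOf y ∣ p := by
      have := Subgroup.orderOf_dvd_natCard (Q : Subgroup G) hy
      rwa [hQ Q] at this
    exact orderOf_dvd_iff_pow_eq_one.mp h1
  have hhalf : ∀ Q : Sylow p G, ∀ z : G, z ∈ (Q : Subgroup G) →
      ∃ w : G, w ∈ (Q : Subgroup G) ∧ w * w = z := by
    intro Q z hz
    refine ⟨z ^ ((p + 1) / 2), pow_mem hz _, ?_⟩
    have h2 : (p + 1) / 2 + (p + 1) / 2 = p + 1 := by omega
    rw [← pow_add, h2, pow_succ, hpow Q z hz, one_mul]
  have hinv : ∀ Q : Sylow p G, s • Q = Q → ∀ y : G, y ∈ (Q : Subgroup G) →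
      s * y * s⁻¹ = y⁻¹ := fun Q hsQ y hy =>
    involution_inverts p hp2 hQ hC Q s hs1 hs2 (Sylow.smul_eq_iff_mem_normalizer.mp hsQ) y hy
  have huniqQ : ∀ (Q Q' : Sylow p G) (u : G), u ∈ (Q : Subgroup G) → u ∈ (Q' : Subgroup G) →
      u ≠ 1 → Q = Q' := by
    intro Q Q' u hu hu' hu1
    by_contra hne
    have h1 := Cfsg.Agent.Lib.Helper17.inf_eq_bot_of_sylow_prime p Q Q' (hQ Q) hne
    have hmem : u ∈ (Q : Subgroup G) ⊓ (Q' : Subgroup G) := ⟨hu, hu'⟩
    rw [h1] at hmem
    exact hu1 (Subgroup.mem_bot.mp hmem)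
  -- a Sylow subgroup containing an element inverted by `s` is normalized by `s`
  have hfixQ : ∀ (Q : Sylow p G) (u : G), u ∈ (Q : Subgroup G) → u ≠ 1 →
      s * u * s⁻¹ = u⁻¹ → s • Q = Q := by
    intro Q u hu hu1 hinvu
    have h1 : u⁻¹ ∈ ((s • Q : Sylow p G) : Subgroup G) := by
      rw [mem_smul_sylow, ← hinvu]
      have : s⁻¹ * (s * u * s⁻¹) * s = u := by group
      rw [this]
      exact hu
    exact huniqQ (s • Q) Q u⁻¹ h1 (inv_mem hu) (inv_ne_one.mpr hu1)
  have he2 : ∀ w : G, s * w * s⁻¹ = w⁻¹ → w * s⁻¹ = s * w⁻¹ := by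
    intro w hsw
    have h1 : s * w⁻¹ * s⁻¹ = w := by
      calc s * w⁻¹ * s⁻¹ = (s * w * s⁻¹)⁻¹ := by group
        _ = w := by rw [hsw, inv_inv]
    calc w * s⁻¹ = (s * w⁻¹ * s⁻¹) * s⁻¹ := by rw [h1]
      _ = s * w⁻¹ * (s * s)⁻¹ := by group
      _ = s * w⁻¹ := by rw [hs2]; group
  have : Fintype (Sylow p G) := Fintype.ofFinite _
  set Qs : Sylow p G → Finset G :=
    fun Q => (Finset.univ.filter (fun u : G => u ∈ (Q : Subgroup G))).erase 1 with hQs
  set F : Finset (Sylow p G) := Finset.univ.filter (fun Q : Sylow p G => s • Q = Q) with hF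
  set U : Finset G := Finset.univ.filter (fun u : G => orderOf u = p ∧ s * u * s⁻¹ = u⁻¹) with hU
  set M := Nat.card H with hM
  have hS1 : ∑ g : G, Φ (g * s * g⁻¹ * s) = (M : ℂ) * ∑ u ∈ U, Φ u := by
    rw [← Finset.sum_fiberwise Finset.univ (fun g : G => g * s * g⁻¹ * s)
      (fun g => Φ (g * s * g⁻¹ * s)), Finset.mul_sum, hU, Finset.sum_filter]
    apply Finset.sum_congr rfl
    intro u _
    split_ifs with hu
    · obtain ⟨huo, huinv⟩ := hu
      obtain ⟨Q, huQ⟩ := exists_sylow_mem_of_dvd_orderOf p hQ hC u (by rw [huo])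
      have hu1 : u ≠ 1 := by
        rintro rfl
        rw [orderOf_one] at huo
        exact hpp.one_lt.ne huo
      obtain ⟨w, hwQ, hww⟩ := hhalf Q u huQ
      have hsQ : s • Q = Q := hfixQ Q u huQ hu1 huinv
      have hsw : s * w * s⁻¹ = w⁻¹ := hinv Q hsQ w hwQ
      have e2 : w * s⁻¹ = s * w⁻¹ := he2 w hsw
      have hfib : Finset.univ.filter (fun g : G => g * s * g⁻¹ * s = u) =
          (Finset.univ.filter (fun c : G => c ∈ H)).image (fun c => w * c) := by
        ext g
        simp only [Finset.mem_filter, Finset.mem_univ, true_and, Finset.mem_image]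
        constructor
        · intro hg
          refine ⟨w⁻¹ * g, ?_, by group⟩
          rw [hmemH]
          have e1 : g * s = w * w * s⁻¹ * g := by
            have h1 : g * s * g⁻¹ * s = w * w := by rw [hg, hww]
            calc g * s = (g * s * g⁻¹ * s) * s⁻¹ * g := by group
              _ = w * w * s⁻¹ * g := by rw [h1]
          calc w⁻¹ * g * s = w⁻¹ * (g * s) := by group
            _ = w⁻¹ * (w * w * s⁻¹ * g) := by rw [e1]
            _ = (w * s⁻¹) * g := by group
            _ = s * w⁻¹ * g := by rw [e2]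
            _ = s * (w⁻¹ * g) := by group
        · rintro ⟨c, hc, rfl⟩
          rw [hmemH] at hc
          calc w * c * s * (w * c)⁻¹ * s = w * (c * s) * c⁻¹ * w⁻¹ * s := by group
            _ = w * (s * c) * c⁻¹ * w⁻¹ * s := by rw [hc]
            _ = w * (s * w⁻¹) * s := by group
            _ = w * (w * s⁻¹) * s := by rw [e2]
            _ = w * w := by group
            _ = u := hww
      have hcardH : (Finset.univ.filter (fun c : G => c ∈ H)).card = M := by
        rw [hM, Nat.card_eq_fintype_card, Fintype.card_subtype]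
      rw [Finset.sum_congr rfl (fun g hg => by rw [(Finset.mem_filter.mp hg).2]),
        Finset.sum_const, hfib, Finset.card_image_of_injective _ (mul_right_injective w),
        hcardH, nsmul_eq_mul]
    · apply Finset.sum_eq_zero
      intro g hg
      have hg' : g * s * g⁻¹ * s = u := (Finset.mem_filter.mp hg).2
      rw [hg']
      apply hΦ0
      intro hdvd
      apply hu
      obtain ⟨Q, huQ⟩ := exists_sylow_mem_of_dvd_orderOf p hQ hC u hdvd
      have hu1 : u ≠ 1 := by
        rintro rfl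
        rw [orderOf_one] at hdvd
        exact hpp.one_lt.ne' (Nat.dvd_one.mp hdvd)
      refine ⟨Cfsg.Agent.Lib.Helper17.orderOf_eq_of_mem_of_card_prime hpp (Q : Subgroup G)
        (hQ Q) u huQ hu1, ?_⟩
      rw [← hg']
      calc s * (g * s * g⁻¹ * s) * s⁻¹ = s * g * s * g⁻¹ := by group
        _ = s⁻¹ * g * s⁻¹ * g⁻¹ := by rw [hsinv]
        _ = (g * s * g⁻¹ * s)⁻¹ := by group
  have hS2 : ∑ u ∈ U, Φ u = (F.card : ℂ) * ∑ᶠ y : (P : Subgroup G), Φ (y : G) := by
    have hΦ1 : Φ 1 = 0 :=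
      hΦ0 1 (by rw [orderOf_one]; exact fun h => hpp.one_lt.ne' (Nat.dvd_one.mp h))
    have hUeq : U = F.biUnion Qs := by
      ext u
      simp only [hU, hF, hQs, Finset.mem_filter, Finset.mem_univ, true_and, Finset.mem_biUnion,
        Finset.mem_erase]
      constructor
      · rintro ⟨huo, huinv⟩
        obtain ⟨Q, huQ⟩ := exists_sylow_mem_of_dvd_orderOf p hQ hC u (by rw [huo])
        have hu1 : u ≠ 1 := by
          rintro rfl
          rw [orderOf_one] at huo
          exact hpp.one_lt.ne huo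
        exact ⟨Q, hfixQ Q u huQ hu1 huinv, hu1, huQ⟩
      · rintro ⟨Q, hsQ, hu1, huQ⟩
        exact ⟨Cfsg.Agent.Lib.Helper17.orderOf_eq_of_mem_of_card_prime hpp (Q : Subgroup G)
          (hQ Q) u huQ hu1, hinv Q hsQ u huQ⟩
    have hdisj : (F : Set (Sylow p G)).PairwiseDisjoint Qs := by
      intro Q _ Q' _ hne
      rw [Function.onFun, Finset.disjoint_left]
      intro u hu hu'
      simp only [hQs, Finset.mem_erase, Finset.mem_filter, Finset.mem_univ, true_and] at hu hu'
      exact hne (huniqQ Q Q' u hu.2 hu'.2 hu.1)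
    have hPsum : ∑ y ∈ Finset.univ.filter (fun u : G => u ∈ (P : Subgroup G)), Φ y =
        ∑ᶠ y : (P : Subgroup G), Φ (y : G) := by
      rw [finsum_eq_sum_of_fintype]
      exact Finset.sum_subtype _ (fun x => by simp) _
    have hQsum : ∀ Q : Sylow p G, ∑ u ∈ Qs Q, Φ u = ∑ᶠ y : (P : Subgroup G), Φ (y : G) := by
      intro Q
      obtain ⟨h, hh⟩ := MulAction.exists_smul_eq G P Q
      rw [hQs]
      simp only
      rw [Finset.sum_erase _ hΦ1, ← hPsum]
      apply Finset.sum_nbij' (fun u => h⁻¹ * u * h) (fun y => h * y * h⁻¹)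
      · intro u hu
        simp only [Finset.mem_filter, Finset.mem_univ, true_and] at hu ⊢
        rw [← hh, mem_smul_sylow] at hu
        exact hu
      · intro y hy
        simp only [Finset.mem_filter, Finset.mem_univ, true_and] at hy ⊢
        rw [← hh, mem_smul_sylow]
        have h1 : h⁻¹ * (h * y * h⁻¹) * h = y := by group
        rw [h1]
        exact hy
      · intro u _
        group
      · intro y _
        group
      · intro u _
        have h1 := hΦ h⁻¹ u
        rw [inv_inv] at h1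
        exact h1.symm
    rw [hUeq, Finset.sum_biUnion hdisj, Finset.sum_congr rfl (fun Q _ => hQsum Q),
      Finset.sum_const, nsmul_eq_mul]
  rw [hS1, hS2]
  have h3 : {Q : Sylow p G | s • Q = Q} = (F : Set (Sylow p G)) := by
    ext Q
    simp [hF]
  rw [h3, Set.ncard_coe_finset]
  ring

/-- If `|N(Q)| = m * p` for the (self-centralizing, order `p`) Sylow `p`-subgroups, an involution
`s` of `N(P)` normalizes exactly `|C(s)| / m` Sylow `p`-subgroups. -/
theorem card_fixed_sylow [Finite G] (p : ℕ) [Fact p.Prime] (hp2 : p ≠ 2)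
    (hQ : ∀ Q : Sylow p G, Nat.card (Q : Subgroup G) = p)
    (hC : ∀ Q : Sylow p G, Subgroup.centralizer ((Q : Subgroup G) : Set G) = (Q : Subgroup G))
    (m : ℕ)
    (hN : ∀ Q : Sylow p G, Nat.card (Subgroup.normalizer ((Q : Subgroup G) : Set G)) = m * p)
    (P : Sylow p G) (s : G) (hsN : s ∈ Subgroup.normalizer ((P : Subgroup G) : Set G))
    (hs1 : s ≠ 1) (hs2 : s * s = 1) :
    m * Set.ncard {Q : Sylow p G | s • Q = Q} =
      Nat.card (Subgroup.centralizer ({s} : Set G)) := by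
  classical
  have hpp : p.Prime := Fact.out
  have hpodd : p % 2 = 1 := by
    rcases hpp.eq_two_or_odd with h | h
    · exact absurd h hp2
    · exact h
  set H := Subgroup.centralizer ({s} : Set G) with hH
  have hmemH : ∀ g : G, g ∈ H ↔ g * s = s * g := by
    intro g
    rw [hH, Subgroup.mem_centralizer_iff]
    simp only [Set.mem_singleton_iff, forall_eq]
    exact eq_comm
  have hsinv : s⁻¹ = s := inv_eq_of_mul_eq_one_left hs2
  have hpow : ∀ Q : Sylow p G, ∀ y : G, y ∈ (Q : Subgroup G) → y ^ p = 1 := by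
    intro Q y hy
    have h1 : orderOf y ∣ p := by
      have := Subgroup.orderOf_dvd_natCard (Q : Subgroup G) hy
      rwa [hQ Q] at this
    exact orderOf_dvd_iff_pow_eq_one.mp h1
  have hhalf : ∀ Q : Sylow p G, ∀ z : G, z ∈ (Q : Subgroup G) →
      ∃ w : G, w ∈ (Q : Subgroup G) ∧ w * w = z := by
    intro Q z hz
    refine ⟨z ^ ((p + 1) / 2), pow_mem hz _, ?_⟩
    have h2 : (p + 1) / 2 + (p + 1) / 2 = p + 1 := by omega
    rw [← pow_add, h2, pow_succ, hpow Q z hz, one_mul]
  have hinv : ∀ Q : Sylow p G, s • Q = Q → ∀ y : G, y ∈ (Q : Subgroup G) →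
      s * y * s⁻¹ = y⁻¹ := fun Q hsQ y hy =>
    involution_inverts p hp2 hQ hC Q s hs1 hs2 (Sylow.smul_eq_iff_mem_normalizer.mp hsQ) y hy
  have huniqQ : ∀ (Q Q' : Sylow p G) (u : G), u ∈ (Q : Subgroup G) → u ∈ (Q' : Subgroup G) →
      u ≠ 1 → Q = Q' := by
    intro Q Q' u hu hu' hu1
    by_contra hne
    have h1 := Cfsg.Agent.Lib.Helper17.inf_eq_bot_of_sylow_prime p Q Q' (hQ Q) hne
    have hmem : u ∈ (Q : Subgroup G) ⊓ (Q' : Subgroup G) := ⟨hu, hu'⟩
    rw [h1] at hmem
    exact hu1 (Subgroup.mem_bot.mp hmem)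
  -- a Sylow subgroup containing an element inverted by `s` is normalized by `s`
  have hfixQ : ∀ (Q : Sylow p G) (u : G), u ∈ (Q : Subgroup G) → u ≠ 1 →
      s * u * s⁻¹ = u⁻¹ → s • Q = Q := by
    intro Q u hu hu1 hinvu
    have h1 : u⁻¹ ∈ ((s • Q : Sylow p G) : Subgroup G) := by
      rw [mem_smul_sylow, ← hinvu]
      have : s⁻¹ * (s * u * s⁻¹) * s = u := by group
      rw [this]
      exact hu
    exact huniqQ (s • Q) Q u⁻¹ h1 (inv_mem hu) (inv_ne_one.mpr hu1)
  have he2 : ∀ w : G, s * w * s⁻¹ = w⁻¹ → w * s⁻¹ = s * w⁻¹ := by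
    intro w hsw
    have h1 : s * w⁻¹ * s⁻¹ = w := by
      calc s * w⁻¹ * s⁻¹ = (s * w * s⁻¹)⁻¹ := by group
        _ = w := by rw [hsw, inv_inv]
    calc w * s⁻¹ = (s * w⁻¹ * s⁻¹) * s⁻¹ := by rw [h1]
      _ = s * w⁻¹ * (s * s)⁻¹ := by group
      _ = s * w⁻¹ := by rw [hs2]; group
  have hPN : (P : Subgroup G) ≤ Subgroup.normalizer ((P : Subgroup G) : Set G) :=
    Subgroup.le_normalizer
  have hsP : s • P = P := Sylow.smul_eq_iff_mem_normalizer.mpr hsN
  have hP2 : ∀ y : G, y ∈ (P : Subgroup G) → y * y = 1 → y = 1 := by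
    intro y hy hyy
    by_contra hy1
    have h1 := Cfsg.Agent.Lib.Helper17.orderOf_eq_of_mem_of_card_prime hpp (P : Subgroup G)
      (hQ P) y hy hy1
    have h2 : orderOf y ∣ 2 := orderOf_dvd_of_pow_eq_one (by rw [pow_two]; exact hyy)
    rw [h1] at h2
    exact hp2 ((Nat.prime_dvd_prime_iff_eq hpp Nat.prime_two).mp h2)
  -- the product of an involution of `N(P)` with `s` lies in `P`
  have hprod : ∀ s' : G, s' ∈ Subgroup.normalizer ((P : Subgroup G) : Set G) → s' ≠ 1 →
      s' * s' = 1 → s' * s ∈ (P : Subgroup G) := by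
    intro s' hs'N hs'1 hs'2
    have h1 : s' * s ∈ Subgroup.centralizer ((P : Subgroup G) : Set G) := by
      rw [Subgroup.mem_centralizer_iff]
      intro y hy
      have e1 := involution_inverts p hp2 hQ hC P s' hs'1 hs'2 hs'N y⁻¹ (inv_mem hy)
      rw [inv_inv] at e1
      have e2 := hinv P hsP y hy
      calc y * (s' * s) = (s' * y⁻¹ * s'⁻¹) * (s' * s) := by rw [e1]
        _ = s' * (y⁻¹ * s) := by group
        _ = s' * ((s * y * s⁻¹) * s) := by rw [e2]
        _ = (s' * s) * y := by group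
    rw [hC P] at h1
    exact h1
  have hconjhalf : ∀ g w : G, w ∈ (P : Subgroup G) → g⁻¹ * s * g * s = w * w → g * w ∈ H := by
    intro g w hwP hww
    have hsw : s * w * s⁻¹ = w⁻¹ := hinv P hsP w hwP
    have e2 := he2 w hsw
    have e3 : g * (w * w) = s * g * s := by
      rw [← hww]
      group
    rw [hmemH]
    calc g * w * s = g * w * (s * w⁻¹) * w := by group
      _ = g * w * (w * s⁻¹) * w := by rw [e2]
      _ = g * (w * w) * s⁻¹ * w := by group
      _ = s * g * s * s⁻¹ * w := by rw [e3]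
      _ = s * (g * w) := by group
  have hconjinv : ∀ g : G, g⁻¹ * s * g ≠ 1 ∧ (g⁻¹ * s * g) * (g⁻¹ * s * g) = 1 := by
    intro g
    constructor
    · intro h
      apply hs1
      calc s = g * (g⁻¹ * s * g) * g⁻¹ := by group
        _ = 1 := by rw [h]; group
    · calc (g⁻¹ * s * g) * (g⁻¹ * s * g) = g⁻¹ * (s * s) * g := by group
        _ = 1 := by rw [hs2]; group
  have horb : MulAction.orbit H P = {Q : Sylow p G | s • Q = Q} := by
    ext Q
    constructor
    · rintro ⟨c, rfl⟩
      show s • ((c : H) • P) = (c : H) • P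
      rw [Subgroup.smul_def, ← mul_smul, ← (hmemH c).mp c.2, mul_smul, hsP]
    · intro hQ'
      have hsQ : s • Q = Q := hQ'
      obtain ⟨g, hg⟩ := MulAction.exists_smul_eq G P Q
      have h1 : (g⁻¹ * s * g) • P = P := by
        rw [mul_smul, mul_smul, hg, hsQ]
        exact inv_smul_eq_iff.mpr hg.symm
      have h2 : g⁻¹ * s * g ∈ Subgroup.normalizer ((P : Subgroup G) : Set G) :=
        Sylow.smul_eq_iff_mem_normalizer.mp h1
      have hz := hprod _ h2 (hconjinv g).1 (hconjinv g).2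
      obtain ⟨w, hwP, hww⟩ := hhalf P _ hz
      have hgw := hconjhalf g w hwP hww.symm
      refine ⟨⟨g * w, hgw⟩, ?_⟩
      show (⟨g * w, hgw⟩ : H) • P = Q
      rw [Subgroup.smul_def]
      simp only
      rw [mul_smul, Sylow.smul_eq_iff_mem_normalizer.mpr (hPN hwP), hg]
  have hstab : Nat.card (MulAction.stabilizer H P) = m := by
    have e1 : Nat.card (MulAction.stabilizer H P) =
        Nat.card {c : G // c ∈ Subgroup.normalizer ((P : Subgroup G) : Set G) ∧ c * s = s * c} := by
      apply Nat.card_congr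
      exact
        { toFun := fun c => ⟨((c : H) : G), Sylow.smul_eq_iff_mem_normalizer.mp (by
              have h := c.2
              rw [MulAction.mem_stabilizer_iff, Subgroup.smul_def] at h
              exact h), (hmemH _).mp (c : H).2⟩
          invFun := fun k => ⟨⟨(k : G), (hmemH _).mpr k.2.2⟩, by
              rw [MulAction.mem_stabilizer_iff, Subgroup.smul_def]
              exact Sylow.smul_eq_iff_mem_normalizer.mpr k.2.1⟩
          left_inv := fun c => rfl
          right_inv := fun k => rfl }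
    have e2 : Nat.card ((↥(P : Subgroup G)) ×
        {c : G // c ∈ Subgroup.normalizer ((P : Subgroup G) : Set G) ∧ c * s = s * c}) =
        Nat.card (Subgroup.normalizer ((P : Subgroup G) : Set G)) := by
      apply Nat.card_congr
      refine Equiv.ofBijective (fun yc => ⟨(yc.1 : G) * (yc.2 : G),
        mul_mem (hPN yc.1.2) yc.2.2.1⟩) ⟨?_, ?_⟩
      · rintro ⟨y, c⟩ ⟨y', c'⟩ h
        have h' : (y : G) * (c : G) = (y' : G) * (c' : G) := congrArg Subtype.val h
        have hu : (y' : G)⁻¹ * (y : G) = (c' : G) * (c : G)⁻¹ := by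
          calc (y' : G)⁻¹ * (y : G) = (y' : G)⁻¹ * ((y : G) * (c : G)) * (c : G)⁻¹ := by group
            _ = (y' : G)⁻¹ * ((y' : G) * (c' : G)) * (c : G)⁻¹ := by rw [h']
            _ = (c' : G) * (c : G)⁻¹ := by group
        have huP : (y' : G)⁻¹ * (y : G) ∈ (P : Subgroup G) := mul_mem (inv_mem y'.2) y.2
        have hus : ((y' : G)⁻¹ * (y : G)) * s = s * ((y' : G)⁻¹ * (y : G)) := by
          rw [hu]
          have hc := c.2.2
          have hc' := c'.2.2
          calc (c' : G) * (c : G)⁻¹ * s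
              = (c' : G) * ((c : G)⁻¹ * (s * (c : G)) * (c : G)⁻¹) := by group
            _ = (c' : G) * ((c : G)⁻¹ * ((c : G) * s) * (c : G)⁻¹) := by rw [hc]
            _ = ((c' : G) * s) * (c : G)⁻¹ := by group
            _ = (s * (c' : G)) * (c : G)⁻¹ := by rw [hc']
            _ = s * ((c' : G) * (c : G)⁻¹) := by group
        have hinvu := hinv P hsP _ huP
        have h3 : s * ((y' : G)⁻¹ * (y : G)) * s⁻¹ = (y' : G)⁻¹ * (y : G) := by
          rw [← hus]
          group
        rw [h3] at hinvu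
        have h4 : ((y' : G)⁻¹ * (y : G)) * ((y' : G)⁻¹ * (y : G)) = 1 := by
          nth_rewrite 2 [hinvu]
          exact mul_inv_cancel _
        have h5 := hP2 _ huP h4
        have hy : (y : G) = (y' : G) := (inv_mul_eq_one.mp h5).symm
        have hc : (c : G) = (c' : G) := by
          rw [hy] at h'
          exact mul_left_cancel h'
        exact Prod.ext (Subtype.ext hy) (Subtype.ext hc)
      · rintro ⟨n, hn⟩
        have hs' := hconjinv n⁻¹
        simp only [inv_inv] at hs'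
        have hs'N : n * s * n⁻¹ ∈ Subgroup.normalizer ((P : Subgroup G) : Set G) :=
          mul_mem (mul_mem hn hsN) (inv_mem hn)
        have hz := hprod _ hs'N hs'.1 hs'.2
        obtain ⟨w, hwP, hww⟩ := hhalf P _ hz
        have hgw := hconjhalf n⁻¹ w hwP (by rw [inv_inv]; exact hww.symm)
        have hcH : w⁻¹ * n ∈ H := by
          have h6 := inv_mem hgw
          have e : (n⁻¹ * w)⁻¹ = w⁻¹ * n := by group
          rwa [e] at h6
        refine ⟨(⟨w, hwP⟩, ⟨w⁻¹ * n, mul_mem (inv_mem (hPN hwP)) hn, (hmemH _).mp hcH⟩), ?_⟩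
        apply Subtype.ext
        show w * (w⁻¹ * n) = n
        group
    rw [Nat.card_prod, hQ P, hN P, ← e1, mul_comm] at e2
    exact Nat.eq_of_mul_eq_mul_right hpp.pos e2
  have h1 := MulAction.index_stabilizer H P
  have h2 := Subgroup.index_mul_card (MulAction.stabilizer H P)
  rw [h1, hstab, horb] at h2
  rw [← h2, mul_comm]

/-- The dihedral case `|N(Q)| = 2p`. -/
theorem sum_conj_involution_mul [Fintype G] (p : ℕ) [Fact p.Prime] (hp2 : p ≠ 2)
    (hQ : ∀ Q : Sylow p G, Nat.card (Q : Subgroup G) = p)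
    (hC : ∀ Q : Sylow p G, Subgroup.centralizer ((Q : Subgroup G) : Set G) = (Q : Subgroup G))
    (hN : ∀ Q : Sylow p G, Nat.card (Subgroup.normalizer ((Q : Subgroup G) : Set G)) = 2 * p)
    (P : Sylow p G) (s : G) (hsN : s ∈ Subgroup.normalizer ((P : Subgroup G) : Set G))
    (hs1 : s ≠ 1) (hs2 : s * s = 1)
    (Φ : G → ℂ) (hΦ : ∀ g x : G, Φ (g * x * g⁻¹) = Φ x)
    (hΦ0 : ∀ g : G, ¬ p ∣ orderOf g → Φ g = 0) :
    2 * ∑ g : G, Φ (g * s * g⁻¹ * s) =
      (Nat.card (Subgroup.centralizer ({s} : Set G)) : ℂ) ^ 2 *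
        ∑ᶠ y : (P : Subgroup G), Φ (y : G) := by
  have h1 := sum_conj_involution_fixed p hp2 hQ hC P s hs1 hs2 Φ hΦ hΦ0
  have h2 := card_fixed_sylow p hp2 hQ hC 2 hN P s hsN hs1 hs2
  rw [h1]
  have h3 : (Nat.card (Subgroup.centralizer ({s} : Set G)) : ℂ) =
      2 * ((Set.ncard {Q : Sylow p G | s • Q = Q} : ℕ) : ℂ) := by exact_mod_cast h2.symm
  rw [h3]
  ring

end Cfsg.Agent.Lib.Helper91.SS
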