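import Mathlib
import Cfsg.Agent.Lib.Helper91.SSFive
import Cfsg.Agent.Lib.Helper91.SSDihedral
import Cfsg.Agent.Lib.Helper78.SecondMain

set_option autoImplicit false

/-!
# More tools for Sylow subgroups of prime order

* `involution_value`: the value of a principal-block-type character at an involution of `C(P)`;
* `sum_conj_nonneg_of_block`: positivity of class-algebra sums for the signed block sum;
* `block_m2_five'`, `case_m2_five'`: the principal `5`-block for `[N(P) : C(P)] = 2` when the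
  degree equation also admits the solution `(6, 7)`.
-/

namespace Cfsg.Agent.Lib.Helper91.SS

open Cfsg Cfsg.Agent.Lib.Helper17

variable {G : Type*} [Group G] [Finite G]

/-- The value at an involution `c` of `C(P)` of a nonlinear irreducible character which is
constant, equal to `a`, on the elements with `p`-part in `P \ {1}`. -/
theorem involution_value [IsSimpleGroup G] (hGn : ¬ (Nat.card G).Prime) (p : ℕ) [Fact p.Prime]
    (hp2 : p ≠ 2) (P : Subgroup G) (hP : Nat.card P = p) (χ : IrrCharacter G)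
    (hχ1 : (χ : G → ℂ) 1 ≠ 1) (a : ℤ)
    (hval : ∀ z y : G, IsPPart p z y → y ∈ P → y ≠ 1 → (χ : G → ℂ) z = (a : ℂ))
    (c : G) (hc : c ∈ Subgroup.centralizer (P : Set G)) (hc2 : orderOf c = 2) :
    ∃ n k : ℕ, (p : ℤ) * (n : ℤ) + 2 * (k : ℤ) =
        (Cfsg.charDegree (χ : G → ℂ) : ℤ) + ((p : ℤ) - 1) * a ∧ 1 ≤ k ∧
      2 * k ≤ Cfsg.charDegree (χ : G → ℂ) ∧
      (χ : G → ℂ) c = (((Cfsg.charDegree (χ : G → ℂ) : ℤ) - 4 * (k : ℤ) : ℤ) : ℂ) := by
  have hpp : p.Prime := Fact.out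
  have hirr := χ.2
  have hchar := Cfsg.Agent.Lib.Helper80.isCharacter_of_isIrrCharacter hirr
  obtain ⟨hxd, -, -⟩ := Cfsg.Agent.Lib.Helper79.irr_charDegree hirr
  obtain ⟨f, hf⟩ : ∃ f, f = Cfsg.charDegree (χ : G → ℂ) := ⟨_, rfl⟩
  rw [← hf] at hxd ⊢
  have hcc : c * c = 1 := by rw [← pow_two, ← hc2]; exact pow_orderOf_eq_one c
  have hc1 : c ≠ 1 := by
    intro h
    rw [h, orderOf_one] at hc2
    omega
  have hcp : c ^ p = c := by
    have hodd : p % 2 = 1 := by
      rcases hpp.eq_two_or_odd with h | h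
      · exact absurd h hp2
      · exact h
    rw [← pow_mod_orderOf, hc2, hodd, pow_one]
  obtain ⟨n, hn⟩ := sum_pow_centralizer hirr p P hP (a : ℂ) hval c hc 2 Nat.prime_two
    (Ne.symm hp2) hc2
  rw [Finset.sum_range_succ, Finset.sum_range_one, pow_zero, pow_one, hcp, hxd] at hn
  obtain ⟨k4, hk4⟩ := mod_four hGn hchar c hcc
  rw [hxd] at hk4
  have hχc : (χ : G → ℂ) c = (f : ℂ) - 4 * (k4 : ℂ) := by linear_combination hk4
  refine ⟨n, k4, ?_, ?_, ?_, ?_⟩
  · rw [hχc] at hn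
    have h1 : (((p : ℤ) * (n : ℤ) + 2 * (k4 : ℤ) : ℤ) : ℂ) =
        (((f : ℤ) + ((p : ℤ) - 1) * a : ℤ) : ℂ) := by
      push_cast
      push_cast at hn
      linear_combination (-1 / 2 : ℂ) * hn
    exact_mod_cast h1
  · rcases Nat.eq_zero_or_pos k4 with h0 | h0
    · exfalso
      apply hc1
      apply eq_one_of_char_eq χ hχ1 c
      rw [hχc, hxd, h0]
      push_cast
      ring
    · exact h0
  · have hb := Cfsg.Agent.Lib.Helper80.norm_char_le_charDegree hchar c
    rw [hχc, ← hf] at hb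
    have h1 : (f : ℂ) - 4 * (k4 : ℂ) = (((f : ℤ) - 4 * (k4 : ℤ) : ℤ) : ℂ) := by
      push_cast
      ring
    rw [h1, Complex.norm_intCast] at hb
    have h2 : |((f : ℤ) - 4 * (k4 : ℤ) : ℤ)| ≤ (f : ℤ) := by exact_mod_cast hb
    have h3 := abs_le.mp h2
    omega
  · rw [hχc]
    push_cast
    ring

/-- **Positivity.** For a family of irreducible characters with integer values `a i` on the
`p`-singular elements whose signed sum `1 + ∑ a i * χ i` vanishes on the `p`-regular elements,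
the class-algebra sum `|G| * (1 + ∑ a i * χ i x * χ i y / χ i 1)` is a nonnegative real. -/
theorem sum_conj_nonneg_of_block (p : ℕ) [Fact p.Prime] (P : Sylow p G)
    (k : ℕ) (χ : Fin k → IrrCharacter G) (a : Fin k → ℤ)
    (hval : ∀ i, ∀ z y : G, IsPPart p z y → y ∈ (P : Subgroup G) → y ≠ 1 →
      (χ i : G → ℂ) z = (a i : ℂ))
    (hrel : ∀ g : G, ¬ p ∣ orderOf g → 1 + ∑ i, (a i : ℂ) * (χ i : G → ℂ) g = 0)
    (x y : G) :
    ∃ r : ℝ, 0 ≤ r ∧ (Nat.card G : ℂ) * (1 + ∑ i, (a i : ℂ) *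
      ((χ i : G → ℂ) x * (χ i : G → ℂ) y / (χ i : G → ℂ) 1)) = (r : ℂ) := by
  classical
  have hpp : p.Prime := Fact.out
  have : Fintype G := Fintype.ofFinite G
  obtain ⟨Φ, hΦdef⟩ : ∃ Φ : G → ℂ, Φ = fun g => 1 + ∑ i, (a i : ℂ) * (χ i : G → ℂ) g :=
    ⟨_, rfl⟩
  obtain ⟨A, hA⟩ : ∃ A : ℤ, A = 1 + ∑ i, a i ^ 2 := ⟨_, rfl⟩
  have hA0 : 0 ≤ A := by
    rw [hA]
    have := Finset.sum_nonneg (fun i (_ : i ∈ Finset.univ) => sq_nonneg (a i))
    linarith
  have hΦval : ∀ g : G, Φ g = (((if p ∣ orderOf g then (A : ℝ) else 0) : ℝ) : ℂ) := by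
    intro g
    by_cases hg : p ∣ orderOf g
    · rw [if_pos hg]
      obtain ⟨y₀, hy₀⟩ := Cfsg.Agent.Lib.Helper78.exists_isPPart hpp g
      have hy₀1 := Cfsg.Agent.Lib.Helper78.isPPart_ne_one_of_singular hg hy₀
      have hy₀' := hy₀
      obtain ⟨-, -, -, ⟨j, hj⟩, -⟩ := hy₀'
      have hpg : IsPGroup p (Subgroup.zpowers y₀) :=
        IsPGroup.of_card (n := j) (by rw [Nat.card_zpowers, hj])
      obtain ⟨Q, hQ⟩ := hpg.exists_le_sylow
      obtain ⟨c, hcQ⟩ := MulAction.exists_smul_eq G P Q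
      have hyQ : y₀ ∈ ((c • P : Sylow p G) : Subgroup G) := by
        rw [hcQ]
        exact hQ (Subgroup.mem_zpowers y₀)
      rw [mem_smul_sylow] at hyQ
      have hpart := Cfsg.Agent.Lib.Helper78.isPPart_conj hy₀ c⁻¹
      rw [inv_inv] at hpart
      have hne : c⁻¹ * y₀ * c ≠ 1 := by
        intro h
        apply hy₀1
        have : y₀ = c * (c⁻¹ * y₀ * c) * c⁻¹ := by group
        rw [this, h]
        group
      rw [hΦdef]
      simp only
      have hterm : ∀ i, (a i : ℂ) * (χ i : G → ℂ) g = (a i : ℂ) * (a i : ℂ) := by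
        intro i
        have hchar := Cfsg.Agent.Lib.Helper80.isCharacter_of_isIrrCharacter (χ i).2
        have h1 := Cfsg.Agent.Lib.Helper80.char_conj_eq hchar g c⁻¹
        rw [inv_inv] at h1
        rw [← h1, hval i _ _ hpart hyQ hne]
      rw [Finset.sum_congr rfl (fun i _ => hterm i), hA]
      push_cast
      congr 1
      exact Finset.sum_congr rfl (fun i _ => by ring)
    · rw [if_neg hg, hΦdef]
      simp only
      rw [hrel g hg]
      norm_num
  have hsum : ∑ g : G, Φ (g * x * g⁻¹ * y) = (Nat.card G : ℂ) * (1 + ∑ i, (a i : ℂ) *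
      ((χ i : G → ℂ) x * (χ i : G → ℂ) y / (χ i : G → ℂ) 1)) := by
    rw [hΦdef]
    simp only
    rw [Finset.sum_add_distrib, Finset.sum_comm]
    have h1 : ∀ i, ∑ g : G, (a i : ℂ) * (χ i : G → ℂ) (g * x * g⁻¹ * y) =
        (Nat.card G : ℂ) * ((a i : ℂ) *
          ((χ i : G → ℂ) x * (χ i : G → ℂ) y / (χ i : G → ℂ) 1)) := by
      intro i
      rw [← Finset.mul_sum, Cfsg.Agent.Lib.Helper79.irr_sum_conj_mul (χ i).2 x y]
      ring
    rw [Finset.sum_congr rfl (fun i _ => h1 i), ← Finset.mul_sum]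
    simp only [Finset.sum_const, Finset.card_univ, nsmul_eq_mul, mul_one]
    rw [← Nat.card_eq_fintype_card]
    ring
  refine ⟨∑ g : G, (if p ∣ orderOf (g * x * g⁻¹ * y) then (A : ℝ) else 0), ?_, ?_⟩
  · apply Finset.sum_nonneg
    intro g _
    split_ifs
    · exact_mod_cast hA0
    · exact le_refl 0
  · rw [← hsum, Complex.ofReal_sum]
    exact Finset.sum_congr rfl (fun g _ => hΦval _)

/-- A real character of degree `6` with value `1` on the `5`-singular elements is incompatible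
with an involution centralizing `P`. -/
theorem kill_involution_six [IsSimpleGroup G] (hGn : ¬ (Nat.card G).Prime) (P : Sylow 5 G)
    (hP : Nat.card (P : Subgroup G) = 5) (χ : IrrCharacter G) (hχ1 : (χ : G → ℂ) 1 ≠ 1)
    (hval : ∀ z y : G, IsPPart 5 z y → y ∈ (P : Subgroup G) → y ≠ 1 →
      (χ : G → ℂ) z = ((1 : ℤ) : ℂ))
    (hdeg : Cfsg.charDegree (χ : G → ℂ) = 6)
    (c : G) (hc : c ∈ Subgroup.centralizer ((P : Subgroup G) : Set G)) (hc2 : orderOf c = 2) :
    False := by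
  have : Fact (Nat.Prime 5) := ⟨by norm_num⟩
  obtain ⟨n, k, h1, h2, h3, -⟩ := involution_value hGn 5 (by norm_num) (P : Subgroup G) hP χ hχ1 1
    hval c hc hc2
  rw [hdeg] at h1 h3
  push_cast at h1
  omega

/-- A real character of degree `6` with value `1` on the `5`-singular elements is incompatible
with an element of order `3` centralizing `P`. -/
theorem kill_order_three_six [IsSimpleGroup G] (P : Sylow 5 G)
    (hP : Nat.card (P : Subgroup G) = 5) (χ : IrrCharacter G) (hχ1 : (χ : G → ℂ) 1 ≠ 1)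
    (hval : ∀ z y : G, IsPPart 5 z y → y ∈ (P : Subgroup G) → y ≠ 1 →
      (χ : G → ℂ) z = ((1 : ℤ) : ℂ))
    (hdeg : Cfsg.charDegree (χ : G → ℂ) = 6)
    (hreal : ∀ g : G, (χ : G → ℂ) g⁻¹ = (χ : G → ℂ) g)
    (c : G) (hc : c ∈ Subgroup.centralizer ((P : Subgroup G) : Set G)) (hc3 : orderOf c = 3) :
    False := by
  have : Fact (Nat.Prime 5) := ⟨by norm_num⟩
  have hirr := χ.2
  have hchar := Cfsg.Agent.Lib.Helper80.isCharacter_of_isIrrCharacter hirr
  obtain ⟨hxd, -, -⟩ := Cfsg.Agent.Lib.Helper79.irr_charDegree hirr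
  rw [hdeg] at hxd
  obtain ⟨t, ht1, ht3, htC, n, hn⟩ := sum_order_three_centralizer hirr 5 (by norm_num)
    (P : Subgroup G) hP ((1 : ℤ) : ℂ) hval c hc hc3
  rw [hxd, hreal t] at hn
  push_cast at hn
  have hb := Cfsg.Agent.Lib.Helper80.norm_char_le_charDegree hchar t
  rw [hdeg] at hb
  have hint := Cfsg.Agent.Lib.Helper79.irr_isIntegral hirr t
  -- `2 * χ t = 15 * n - 18`
  have hvalt : 2 * (χ : G → ℂ) t + 18 = ((15 * n : ℕ) : ℂ) := by
    push_cast
    linear_combination hn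
  have hn2 : n ≤ 2 := by
    have h1 : ‖2 * (χ : G → ℂ) t + 18‖ ≤ 30 := by
      have h2 : ‖2 * (χ : G → ℂ) t‖ ≤ 12 := by
        rw [norm_mul]
        have : ‖(2 : ℂ)‖ = 2 := by norm_num
        rw [this]
        push_cast at hb
        linarith
      have h3 : ‖(18 : ℂ)‖ = 18 := by norm_num
      have := norm_add_le (2 * (χ : G → ℂ) t) 18
      rw [h3] at this
      linarith
    rw [hvalt, Complex.norm_natCast] at h1
    have : (15 * n : ℕ) ≤ 30 := by exact_mod_cast h1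
    omega
  interval_cases n
  · -- `χ t = -9`
    have h9 : (χ : G → ℂ) t = -9 := by
      push_cast at hvalt
      linear_combination hvalt / 2
    rw [h9] at hb
    norm_num at hb
  · -- `2 * χ t = -3`
    have h3 : ((3 : ℕ) : ℂ) = ((2 : ℕ) : ℂ) * (-(χ : G → ℂ) t) := by
      push_cast at hvalt ⊢
      linear_combination hvalt
    have := Cfsg.Agent.Lib.Helper79.nat_dvd_of_eq_mul_isIntegral 3 2 (by norm_num) _
      hint.neg h3
    omega
  · apply ht1
    apply eq_one_of_char_eq χ hχ1 t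
    rw [hxd]
    push_cast at hvalt ⊢
    linear_combination hvalt / 2

/-- The principal `5`-block when `[N(P) : C(P)] = 2`, given that the only solutions of the
degree equation are `(4, 3)`, `(9, 8)` and `(6, 7)`. -/
theorem block_m2_five' [IsSimpleGroup G] (hGn : ¬ (Nat.card G).Prime)
    (harith : ∀ x y : ℕ, x ∣ Nat.card G → y ∣ Nat.card G → x ≠ 1 →
      (x % 5 = 1 ∧ y = x + 1 → x = 6) ∧ (x % 5 = 4 ∧ x = y + 1 → x = 4 ∨ x = 9))
    (P : Sylow 5 G) (hP : Nat.card (P : Subgroup G) = 5)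
    (hm : (Subgroup.centralizer ((P : Subgroup G) : Set G)).relIndex
      (Subgroup.normalizer ((P : Subgroup G) : Set G)) = 2) :
    ∃ (χ : IrrCharacter G) (a : ℤ), (χ : G → ℂ) 1 ≠ 1 ∧
      ((a = -1 ∧ (Cfsg.charDegree (χ : G → ℂ) = 4 ∨ Cfsg.charDegree (χ : G → ℂ) = 9)) ∨
        (a = 1 ∧ Cfsg.charDegree (χ : G → ℂ) = 6)) ∧
      (∀ z y : G, IsPPart 5 z y → y ∈ (P : Subgroup G) → y ≠ 1 →
        (χ : G → ℂ) z = (a : ℂ)) ∧
      (∀ g : G, (χ : G → ℂ) g⁻¹ = (χ : G → ℂ) g) := by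
  have : Fact (Nat.Prime 5) := ⟨by norm_num⟩
  obtain ⟨k, χ, a, η, d, δ, hk, hδ, hχ, hη1, hηP, hnorm, hrel, hj, hreal⟩ :=
    brauer_chars hGn 5 P hP 2 (by norm_num) hm
  have h2 : ((5 - 1) / 2 : ℕ) = 2 := by norm_num
  rw [h2] at hnorm hrel
  push_cast at hnorm hrel
  have hk' : k = 0 ∨ k = 1 := by omega
  rcases hk' with rfl | rfl
  · exfalso
    simp only [Finset.univ_eq_empty, Finset.sum_empty, add_zero] at hnorm
    rcases hδ with rfl | rfl
    · have : 2 * (d * d - d) = 1 := by nlinarith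
      omega
    · have : 2 * (d * d + d) = 1 := by nlinarith
      omega
  · simp only [Fin.sum_univ_succ, Fin.sum_univ_zero, add_zero] at hnorm hrel
    obtain ⟨ha0, hx1, hxa⟩ := hχ 0
    have hirr := (χ 0).2
    have hirrη := η.2
    obtain ⟨hxd, hxpos, hxdvd⟩ := Cfsg.Agent.Lib.Helper79.irr_charDegree hirr
    obtain ⟨hyd, hypos, hydvd⟩ := Cfsg.Agent.Lib.Helper79.irr_charDegree hirrη
    have hmod : (Cfsg.charDegree ((χ 0 : IrrCharacter G) : G → ℂ) : ℤ) ≡ a 0 [ZMOD 5] := by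
      have := Cfsg.Agent.Lib.Helper90.BrauerDeg.degree_modEq hirr 5 (P : Subgroup G) hP (a 0)
        (fun y hy hy1 => hxa y y (isPPart_self (by norm_num) _ hP y hy hy1) hy hy1)
      exact_mod_cast this
    obtain ⟨x, hxdef⟩ : ∃ x, x = Cfsg.charDegree ((χ 0 : IrrCharacter G) : G → ℂ) := ⟨_, rfl⟩
    obtain ⟨y, hydef⟩ : ∃ y, y = Cfsg.charDegree ((η : IrrCharacter G) : G → ℂ) := ⟨_, rfl⟩
    rw [← hxdef] at hxd hxpos hxdvd hmod
    rw [← hydef] at hyd hypos hydvd
    have hx1' : x ≠ 1 := by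
      intro h
      apply hx1
      rw [hxd, h]
      norm_num
    have hrel1 := hrel 1 (by rw [orderOf_one]; norm_num)
    rw [hxd, hyd] at hrel1
    have hrel1' : (2 * d - δ) * (y : ℤ) + 1 + a 0 * (x : ℤ) = 0 := by
      have h : (((2 * d - δ) * (y : ℤ) + 1 + a 0 * (x : ℤ) : ℤ) : ℂ) = 0 := by
        push_cast
        exact hrel1
      exact_mod_cast h
    have hd : -1 ≤ d ∧ d ≤ 1 := by
      constructor <;> rcases hδ with rfl | rfl <;>
        nlinarith [sq_nonneg (a 0), sq_nonneg (d - 1), sq_nonneg (d + 1)]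
    have ha2 : a 0 ^ 2 = 1 ∧ (2 * d - δ = 1 ∨ 2 * d - δ = -1) := by
      obtain ⟨hd1, hd2⟩ := hd
      have hapos : 0 < a 0 ^ 2 := by positivity
      obtain ⟨A, hA⟩ : ∃ A, A = a 0 ^ 2 := ⟨_, rfl⟩
      rw [← hA] at hnorm hapos ⊢
      interval_cases d <;> rcases hδ with rfl | rfl <;> norm_num at hnorm ⊢ <;> omega
    obtain ⟨ha2, hε⟩ := ha2
    have ha : a 0 = 1 ∨ a 0 = -1 := by
      have h1 : (a 0 - 1) * (a 0 + 1) = 0 := by nlinarith
      rcases mul_eq_zero.mp h1 with h | h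
      · left; omega
      · right; omega
    have harith' := harith x y hxdvd hydvd hx1'
    unfold Int.ModEq at hmod
    have hxy : x ≠ y ∧ ((a 0 = -1 ∧ (x = 4 ∨ x = 9)) ∨ (a 0 = 1 ∧ x = 6)) := by
      rcases hε with h | h <;> rcases ha with h' | h' <;> rw [h, h'] at hrel1' <;> rw [h'] at hmod
      · omega
      · exact ⟨by omega, Or.inl ⟨h', harith'.2 ⟨by omega, by omega⟩⟩⟩
      · exact ⟨by omega, Or.inr ⟨h', harith'.1 ⟨by omega, by omega⟩⟩⟩
      · omega
    obtain ⟨hxney, hcases⟩ := hxy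
    refine ⟨χ 0, a 0, hx1, ?_, hxa, ?_⟩
    · rw [← hxdef]
      exact hcases
    · apply hreal 0
      · rw [hxd, hyd]
        intro h
        have : x = y := by exact_mod_cast h
        exact hxney this
      · intro i' hi'
        exact absurd (Subsingleton.elim i' 0) hi'

/-- The case `[N(P) : C(P)] = 2` with an element of order `2` or `3` in `C(P)`, when the degree
equation admits the solutions `(4, 3)`, `(9, 8)` and `(6, 7)` only. -/
theorem case_m2_five' [IsSimpleGroup G] (hGn : ¬ (Nat.card G).Prime)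
    (harith : ∀ x y : ℕ, x ∣ Nat.card G → y ∣ Nat.card G → x ≠ 1 →
      (x % 5 = 1 ∧ y = x + 1 → x = 6) ∧ (x % 5 = 4 ∧ x = y + 1 → x = 4 ∨ x = 9))
    (P : Sylow 5 G) (hP : Nat.card (P : Subgroup G) = 5)
    (hm : (Subgroup.centralizer ((P : Subgroup G) : Set G)).relIndex
      (Subgroup.normalizer ((P : Subgroup G) : Set G)) = 2)
    (c : G) (hc : c ∈ Subgroup.centralizer ((P : Subgroup G) : Set G))
    (hcq : orderOf c = 2 ∨ orderOf c = 3) : False := by
  obtain ⟨χ, a, hχ1, hcases, hval, hreal⟩ := block_m2_five' hGn harith P hP hm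
  rcases hcases with ⟨rfl, hdeg⟩ | ⟨rfl, hdeg⟩
  · rcases hcq with hc2 | hc3
    · exact kill_involution_five hGn P hP χ hχ1 hval hdeg c hc hc2
    · refine kill_order_three_five P hP χ hχ1 hval ?_ c hc hc3
      rcases hdeg with h | h
      · exact Or.inl h
      · exact Or.inr ⟨h, hreal⟩
  · rcases hcq with hc2 | hc3
    · exact kill_involution_six hGn P hP χ hχ1 hval hdeg c hc hc2
    · exact kill_order_three_six P hP χ hχ1 hval hdeg hreal c hc hc3

end Cfsg.Agent.Lib.Helper91.SS
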