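import Mathlib
import Cfsg.Agent.Lib.Helper91.SSFive2
import Cfsg.Agent.Lib.Helper91.SSExtra
import Cfsg.Agent.Lib.Helper91.M11Arith

set_option autoImplicit false

/-!
# Sylow `11`-subgroups of a simple group of order `7920`

A Sylow `11`-subgroup `P` of a simple group of order `7920` is self-centralizing with
`|N(P)| = 55`.
-/

namespace Cfsg.Agent.Lib.Helper91.M11

open Cfsg Cfsg.Agent.Lib.Helper17 Cfsg.Agent.Lib.Helper91.SS

variable {G : Type*} [Group G] [Finite G]

omit [Finite G] in
/-- for a nontrivial element `y` of a subgroup `P` of prime order, `C(y) = C(P)` -/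
theorem centralizer_singleton_eq {p : ℕ} (hp : p.Prime) (P : Subgroup G) (hP : Nat.card P = p)
    (y : G) (hy : y ∈ P) (hy1 : y ≠ 1) :
    Subgroup.centralizer ({y} : Set G) = Subgroup.centralizer (P : Set G) := by
  apply le_antisymm
  · intro c hc
    rw [Subgroup.mem_centralizer_iff] at hc
    exact mem_centralizer_of_commute hp P hP y hy hy1 c (hc y rfl).symm
  · intro c hc
    rw [Subgroup.mem_centralizer_iff] at hc ⊢
    intro w hw
    rw [Set.mem_singleton_iff] at hw
    subst hw
    exact hc w hy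

set_option maxHeartbeats 1600000 in
/-- `n_11 = 45` is impossible: the principal `11`-block for `[N(P) : C(P)] = 2` is incompatible
with an involution in `C(P)`. -/
theorem kill45 [IsSimpleGroup G] (hG : Nat.card G = 7920)
    (P : Sylow 11 G) (hP : Nat.card (P : Subgroup G) = 11)
    (hm : (Subgroup.centralizer ((P : Subgroup G) : Set G)).relIndex
      (Subgroup.normalizer ((P : Subgroup G) : Set G)) = 2)
    (c : G) (hc : c ∈ Subgroup.centralizer ((P : Subgroup G) : Set G)) (hc2 : orderOf c = 2) :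
    False := by
  have : Fact (Nat.Prime 11) := ⟨by norm_num⟩
  have hGn : ¬ (Nat.card G).Prime := by rw [hG]; norm_num
  obtain ⟨k, χ, a, η, d, δ, hk, hδ, hχ, hη1, hηP, hnorm, hrel, hj, hreal⟩ :=
    brauer_chars hGn 11 P hP 2 (by norm_num) hm
  have h2 : ((11 - 1) / 2 : ℕ) = 5 := by norm_num
  rw [h2] at hnorm hrel
  push_cast at hnorm hrel
  have hirrη := η.2
  obtain ⟨hyd, hypos, hydvd⟩ := Cfsg.Agent.Lib.Helper79.irr_charDegree hirrη
  obtain ⟨y, hydef⟩ : ∃ y, y = Cfsg.charDegree ((η : IrrCharacter G) : G → ℂ) := ⟨_, rfl⟩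
  rw [← hydef] at hyd hypos hydvd
  have hd : -1 ≤ d ∧ d ≤ 1 := by
    have hs : 0 ≤ ∑ i, a i ^ 2 := Finset.sum_nonneg (fun i _ => sq_nonneg (a i))
    constructor <;> rcases hδ with rfl | rfl <;>
      nlinarith [sq_nonneg (d - 1), sq_nonneg (d + 1)]
  have hk' : k = 0 ∨ k = 1 := by omega
  rcases hk' with rfl | rfl
  · simp only [Finset.univ_eq_empty, Finset.sum_empty, add_zero] at hnorm
    obtain ⟨hd1, hd2⟩ := hd
    rcases hδ with rfl | rfl <;> interval_cases d <;> norm_num at hnorm
  · simp only [Fin.sum_univ_succ, Fin.sum_univ_zero, add_zero] at hnorm hrel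
    obtain ⟨ha0, hx1, hxa⟩ := hχ 0
    have hirr := (χ 0).2
    obtain ⟨hxd, hxpos, hxdvd⟩ := Cfsg.Agent.Lib.Helper79.irr_charDegree hirr
    have hmod : (Cfsg.charDegree ((χ 0 : IrrCharacter G) : G → ℂ) : ℤ) ≡ a 0 [ZMOD 11] := by
      have := Cfsg.Agent.Lib.Helper90.BrauerDeg.degree_modEq hirr 11 (P : Subgroup G) hP (a 0)
        (fun y hy hy1 => hxa y y (isPPart_self (by norm_num) _ hP y hy hy1) hy hy1)
      exact_mod_cast this
    obtain ⟨n, kk, hv1, hv2, hv3, hv4⟩ := involution_value hGn 11 (by norm_num) (P : Subgroup G) hP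
      (χ 0) hx1 (a 0) hxa c hc hc2
    obtain ⟨x, hxdef⟩ : ∃ x, x = Cfsg.charDegree ((χ 0 : IrrCharacter G) : G → ℂ) := ⟨_, rfl⟩
    rw [← hxdef] at hxd hxpos hxdvd hmod hv1 hv3 hv4
    push_cast at hv1
    have hx1' : x ≠ 1 := by
      intro h
      apply hx1
      rw [hxd, h]
      norm_num
    have hrel1 := hrel 1 (by rw [orderOf_one]; norm_num)
    rw [hxd, hyd] at hrel1
    have hrel1' : (5 * d - δ) * (y : ℤ) + 1 + a 0 * (x : ℤ) = 0 := by
      have h : (((5 * d - δ) * (y : ℤ) + 1 + a 0 * (x : ℤ) : ℤ) : ℂ) = 0 := by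
        push_cast
        exact hrel1
      exact_mod_cast h
    have ha2 : a 0 ^ 2 = 1 ∧ d = 0 := by
      obtain ⟨hd1, hd2⟩ := hd
      have hapos : 0 < a 0 ^ 2 := by positivity
      obtain ⟨A, hA⟩ : ∃ A, A = a 0 ^ 2 := ⟨_, rfl⟩
      rw [← hA] at hnorm hapos ⊢
      interval_cases d <;> rcases hδ with rfl | rfl <;> norm_num at hnorm ⊢ <;> omega
    obtain ⟨ha2, hd0⟩ := ha2
    subst hd0
    have ha : a 0 = 1 ∨ a 0 = -1 := by
      have h1 : (a 0 - 1) * (a 0 + 1) = 0 := by nlinarith
      rcases mul_eq_zero.mp h1 with h | h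
      · left; omega
      · right; omega
    rw [hG] at hxdvd hydvd
    have harith := arith_m2 x y hxdvd hydvd hx1'
    unfold Int.ModEq at hmod
    rcases hδ with h | h <;> rcases ha with h' | h' <;> rw [h, h'] at hrel1' <;>
      rw [h'] at hmod hv1
    · exact harith.1 ⟨by omega, by omega⟩
    · omega
    · omega
    · have hx := harith.2 ⟨by omega, by omega⟩
      omega

set_option maxHeartbeats 1600000 in
/-- The Sylow `11`-subgroups of a simple group of order `7920`. -/
theorem sylow11 [IsSimpleGroup G] (hG : Nat.card G = 7920) (P : Sylow 11 G) :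
    Nat.card (P : Subgroup G) = 11 ∧
    Nat.card (Subgroup.normalizer ((P : Subgroup G) : Set G)) = 55 ∧
    Subgroup.centralizer ((P : Subgroup G) : Set G) = (P : Subgroup G) ∧
    (Subgroup.centralizer ((P : Subgroup G) : Set G)).relIndex
      (Subgroup.normalizer ((P : Subgroup G) : Set G)) = 5 := by
  classical
  have : Fact (Nat.Prime 11) := ⟨by norm_num⟩
  have : Fact (Nat.Prime 2) := ⟨by norm_num⟩
  have hGn : ¬ (Nat.card G).Prime := by rw [hG]; norm_num
  have hP : Nat.card (P : Subgroup G) = 11 := by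
    simpa using card_sylow_eq_of_card_eq 11 1 720 (by rw [hG]; norm_num) (by norm_num) P
  have hc := card_sylow_mem_cands (G := G) 11 1 720 (by rw [hG]; norm_num) (by norm_num)
  have hcl : sylowCands 11 720 = [1, 12, 45, 144] := by decide +kernel
  rw [hcl] at hc
  have h1 : Nat.card (Sylow 11 G) ≠ 1 :=
    card_sylow_ne_one 11 (by rw [hG]; norm_num) 2 (by norm_num) (by norm_num)
      (by rw [hG]; norm_num)
  obtain ⟨hr1, hr2, hr3, hPC⟩ := relIndex_centralizer_sylow_prime hGn 11 P hP
  obtain ⟨r, hr⟩ : ∃ r, r = (Subgroup.centralizer ((P : Subgroup G) : Set G)).relIndex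
      (Subgroup.normalizer ((P : Subgroup G) : Set G)) := ⟨_, rfl⟩
  rw [← hr] at hr1 hr2 hr3
  have h10 : r ∣ 10 := by simpa using hr2
  have hr10 : r ≤ 10 := Nat.le_of_dvd (by norm_num) h10
  have hr0 : r ≠ 0 := by
    rintro rfl
    simp at h10
  have h4 := card_sylow_mul_card_normalizer 11 P
  rw [hG] at h4
  simp only [List.mem_cons, List.not_mem_nil, or_false] at hc
  rcases hc with h | h | h | h
  · exact absurd h h1
  · exfalso
    have hd := card_normalizer_dvd_of_card_sylow_succ 11 h (by rw [hG]; norm_num) P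
    rw [h] at h4
    have hN : Nat.card (Subgroup.normalizer ((P : Subgroup G) : Set G)) = 660 := by omega
    rw [hN] at hd
    revert hd
    decide
  · exfalso
    rw [h] at h4
    have hN : Nat.card (Subgroup.normalizer ((P : Subgroup G) : Set G)) = 176 := by omega
    rw [hN] at hr3
    have hr2' : r = 2 := by interval_cases r <;> omega
    have hC88 : Nat.card (Subgroup.centralizer ((P : Subgroup G) : Set G)) = 88 := by
      rw [hr2'] at hr3
      omega
    obtain ⟨c', hc'⟩ := exists_prime_orderOf_dvd_card'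
      (G := Subgroup.centralizer ((P : Subgroup G) : Set G)) 2 (by rw [hC88]; norm_num)
    exact kill45 hG P hP (by rw [← hr, hr2']) (c' : G) c'.2
      (by rw [Subgroup.orderOf_coe]; exact hc')
  · rw [h] at h4
    have hN : Nat.card (Subgroup.normalizer ((P : Subgroup G) : Set G)) = 55 := by omega
    rw [hN] at hr3
    have hr5 : r = 5 := by interval_cases r <;> omega
    have hC11 : Nat.card (Subgroup.centralizer ((P : Subgroup G) : Set G)) = 11 := by
      rw [hr5] at hr3
      omega
    refine ⟨hP, hN, ?_, by rw [← hr, hr5]⟩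
    exact (Subgroup.eq_of_le_of_card_ge hPC (by rw [hC11, hP])).symm

end Cfsg.Agent.Lib.Helper91.M11
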