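import Mathlib
import Cfsg.Prelude.Def_Transfer
import Cfsg.Agent.S0033
import Cfsg.Agent.S0108
import Cfsg.Agent.Lib.Helper91.ThompsonFpf2
import Cfsg.Agent.Lib.Helper54.Frobenius
import Cfsg.Agent.Lib.Helper11.ThompsonSylow

/-!
# A finite group with a nilpotent maximal subgroup of odd order is solvable (Thompson)
-/

set_option autoImplicit false

namespace Cfsg.Agent.Lib.Helper91

universe u

section

variable {G : Type u} [Group G] [Finite G]

omit [Finite G] in
theorem normalizer_le_normalizer_inf_centralizer (T : Subgroup G) :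
    Subgroup.normalizer (T : Set G) ≤
      Subgroup.normalizer ((T ⊓ Subgroup.centralizer (T : Set G) : Subgroup G) : Set G) := by
  intro m hm
  have key : ∀ g ∈ Subgroup.normalizer (T : Set G),
      ∀ h ∈ T ⊓ Subgroup.centralizer (T : Set G),
        g * h * g⁻¹ ∈ T ⊓ Subgroup.centralizer (T : Set G) := by
    intro g hg h hh
    rw [Subgroup.mem_inf] at hh ⊢
    refine ⟨(Subgroup.mem_normalizer_iff.mp hg h).mp hh.1, ?_⟩
    rw [Subgroup.mem_centralizer_iff]
    intro y hy
    have hy' : g⁻¹ * y * g ∈ T := by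
      have h1 := (Subgroup.mem_normalizer_iff.mp (Subgroup.inv_mem _ hg) y).mp hy
      simpa using h1
    have hc := Subgroup.mem_centralizer_iff.mp hh.2 _ hy'
    calc y * (g * h * g⁻¹) = g * ((g⁻¹ * y * g) * h) * g⁻¹ := by group
      _ = g * (h * (g⁻¹ * y * g)) * g⁻¹ := by rw [hc]
      _ = g * h * g⁻¹ * y := by group
  rw [Subgroup.mem_normalizer_iff]
  intro h
  constructor
  · exact key m hm h
  · intro hh
    have h1 := key m⁻¹ (Subgroup.inv_mem _ hm) _ hh
    have h2 : m⁻¹ * (m * h * m⁻¹) * m⁻¹⁻¹ = h := by group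
    rwa [h2] at h1

omit [Finite G] in
theorem isNilpotent_of_le {M C : Subgroup G} (hnil : Group.IsNilpotent M) (h : C ≤ M) :
    Group.IsNilpotent C := by
  have h1 : Group.IsNilpotent (C.subgroupOf M) := inferInstance
  exact Group.nilpotent_of_mulEquiv (Subgroup.subgroupOfEquivOfLe h)

omit [Finite G] in
theorem normalizer_eq_of_coatom {M : Subgroup G} (hmax : IsCoatom M)
    (hcore : ∀ K : Subgroup G, K.Normal → K ≤ M → K = ⊥) {X : Subgroup G} (hXM : X ≤ M)
    (hX : X ≠ ⊥) (hMX : M ≤ Subgroup.normalizer (X : Set G)) :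
    Subgroup.normalizer (X : Set G) = M := by
  rcases eq_or_lt_of_le hMX with h | h
  · exact h.symm
  · exfalso
    have htop := hmax.2 _ h
    exact hX (hcore X (Subgroup.normalizer_eq_top_iff.mp htop) hXM)

theorem sylow_of_coatom {M : Subgroup G} (hmax : IsCoatom M) (hnil : Group.IsNilpotent M)
    (hcore : ∀ K : Subgroup G, K.Normal → K ≤ M → K = ⊥) {p : ℕ} [Fact p.Prime]
    (hp : p ∣ Nat.card M) :
    ∃ P : Sylow p G, (P : Subgroup G) ≤ M ∧ (P : Subgroup G) ≠ ⊥ ∧
      M ≤ Subgroup.normalizer ((P : Subgroup G) : Set G) := by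
  obtain ⟨PM⟩ : Nonempty (Sylow p M) := inferInstance
  have hPMn : (PM : Subgroup M).Normal := inferInstance
  have hPle : (PM : Subgroup M).map M.subtype ≤ M := Subgroup.map_subtype_le _
  have hPp : IsPGroup p ((PM : Subgroup M).map M.subtype) := PM.2.map M.subtype
  have hPbot : (PM : Subgroup M).map M.subtype ≠ ⊥ := by
    intro h
    have h1 : (PM : Subgroup M) = ⊥ := by
      rw [← Subgroup.map_eq_bot_iff_of_injective _ M.subtype_injective]
      exact h
    exact PM.ne_bot_of_dvd_card hp h1
  have hMN : M ≤ Subgroup.normalizer (((PM : Subgroup M).map M.subtype : Subgroup G) : Set G) := by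
    have h1 := Subgroup.le_normalizer_map (H := (PM : Subgroup M)) M.subtype
    rw [Subgroup.normalizer_eq_top_iff.mpr hPMn, ← MonoidHom.range_eq_map,
      Subgroup.range_subtype] at h1
    exact h1
  have hNM := normalizer_eq_of_coatom hmax hcore hPle hPbot hMN
  have hall : ∀ R : Subgroup G, IsPGroup p R → R ≤ M → R ≤ (PM : Subgroup M).map M.subtype := by
    intro R hR hRM
    have hR' : IsPGroup p (R.subgroupOf M) := hR.comap_subtype
    obtain ⟨Q', hQ'⟩ := hR'.exists_le_sylow
    obtain ⟨m, rfl⟩ := MulAction.exists_smul_eq M PM Q'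
    rw [Sylow.smul_eq_of_normal] at hQ'
    rw [← Subgroup.map_subgroupOf_eq_of_le hRM]
    exact Subgroup.map_mono hQ'
  obtain ⟨Ps, hPs⟩ := hPp.exists_le_sylow
  have hEq : (PM : Subgroup M).map M.subtype = (Ps : Subgroup G) := by
    by_contra hne
    have hlt : (PM : Subgroup M).map M.subtype < (Ps : Subgroup G) := lt_of_le_of_ne hPs hne
    obtain ⟨y, hyPs, hyN, hyP⟩ := Helper54.exists_mem_normalizer_not_mem Ps.2 hlt
    rw [hNM] at hyN
    apply hyP
    have hz : IsPGroup p (Subgroup.zpowers y) := Ps.2.to_le ((Subgroup.zpowers_le).mpr hyPs)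
    exact hall _ hz ((Subgroup.zpowers_le).mpr hyN) (Subgroup.mem_zpowers y)
  refine ⟨Ps, ?_, ?_, ?_⟩
  · rw [← hEq]; exact hPle
  · rw [← hEq]; exact hPbot
  · rw [← hEq]; exact hMN

theorem exists_normalPComplement_of_coatom {M : Subgroup G} (hmax : IsCoatom M)
    (hnil : Group.IsNilpotent M) (hcore : ∀ K : Subgroup G, K.Normal → K ≤ M → K = ⊥)
    {p : ℕ} [Fact p.Prime] (hp : p ∣ Nat.card M) (hp2 : p ≠ 2) :
    ∃ K : Subgroup G, Helper54.IsNormalPComplement p K ∧
      ∃ P : Sylow p G, (P : Subgroup G) ≤ M := by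
  obtain ⟨P, hPle, hPbot, hMN⟩ := sylow_of_coatom hmax hnil hcore hp
  have hJbot := thompsonSubgroupOf_ne_bot (P : Subgroup G) P.2 hPbot
  have hJle : Cfsg.thompsonSubgroupOf p (P : Subgroup G) ≤ P := Helper11.thompsonSubgroupOf_le p _
  have hNJ := normalizer_eq_of_coatom hmax hcore (hJle.trans hPle) hJbot
    (hMN.trans (Helper11.normalizer_le_normalizer_thompsonSubgroupOf p _))
  have hZbot := inf_centralizer_ne_bot (P : Subgroup G) P.2 hPbot
  have hNZ := normalizer_eq_of_coatom hmax hcore (inf_le_left.trans hPle) hZbot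
    (hMN.trans (normalizer_le_normalizer_inf_centralizer _))
  have hCZ : Subgroup.centralizer
      (((P : Subgroup G) ⊓ Subgroup.centralizer (P : Set G) : Subgroup G) : Set G) ≤ M := by
    rw [← hNZ]
    exact Subgroup.centralizer_le_normalizer _
  have h1 : Cfsg.HasNormalPComplement p
      ↥(Subgroup.normalizer (Cfsg.thompsonSubgroupOf p (P : Subgroup G) : Set G)) := by
    rw [hNJ]
    exact hasNormalPComplement_of_nilpotent p hnil
  have h2 : Cfsg.HasNormalPComplement p ↥(Subgroup.centralizer
      (((P : Subgroup G) ⊓ Subgroup.centralizer (P : Set G) : Subgroup G) : Set G)) :=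
    hasNormalPComplement_of_nilpotent p (isNilpotent_of_le hnil hCZ)
  have h3 := (Cfsg.Agent.S0108.result hp2 P).mpr ⟨h1, h2⟩
  obtain ⟨K, hK⟩ := Helper54.hasNormalPComplement_iff.mp h3
  exact ⟨K, hK, P, hPle⟩

theorem solvable_of_coatom_corefree (M : Subgroup G) (hmax : IsCoatom M)
    (hnil : Group.IsNilpotent M) (hodd : Odd (Nat.card M))
    (hcore : ∀ K : Subgroup G, K.Normal → K ≤ M → K = ⊥) : Group.IsSolvable G := by
  classical
  by_cases hMbot : M = ⊥
  · apply Group.isSolvable_of_comm
    intro a b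
    by_cases ha : a = 1
    · subst ha; simp
    · have h1 : M < Subgroup.zpowers a := by
        rw [hMbot, bot_lt_iff_ne_bot]
        intro h
        exact ha (Subgroup.zpowers_eq_bot.mp h)
      have h2 := hmax.2 _ h1
      have hb : b ∈ Subgroup.zpowers a := by rw [h2]; exact Subgroup.mem_top b
      obtain ⟨k, rfl⟩ := Subgroup.mem_zpowers_iff.mp hb
      exact (Commute.zpow_right (Commute.refl a) k).eq
  have hodd2 : ∀ p, p.Prime → p ∣ Nat.card M → p ≠ 2 := by
    intro p _ hpd h2
    subst h2
    exact (Nat.not_even_iff_odd.mpr hodd) (even_iff_two_dvd.mpr hpd)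
  have hex : ∀ p, p.Prime → p ∣ Nat.card M → ∃ K : Subgroup G,
      Helper54.IsNormalPComplement p K ∧ ∃ P : Sylow p G, (P : Subgroup G) ≤ M := by
    intro p hp hpd
    have : Fact p.Prime := ⟨hp⟩
    exact exists_normalPComplement_of_coatom hmax hnil hcore hpd (hodd2 p hp hpd)
  have hKn : (sInf {L : Subgroup G | ∃ p, p.Prime ∧ p ∣ Nat.card M ∧
      Helper54.IsNormalPComplement p L}).Normal := by
    refine ⟨fun n hn g => ?_⟩
    rw [Subgroup.mem_sInf] at hn ⊢
    intro L hL
    obtain ⟨p, hp, hpd, hLc⟩ := hL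
    exact hLc.1.conj_mem n (hn L ⟨p, hp, hpd, hLc⟩) g
  have hK1 : ∀ g ∈ sInf {L : Subgroup G | ∃ p, p.Prime ∧ p ∣ Nat.card M ∧
      Helper54.IsNormalPComplement p L}, ∀ p, p.Prime → p ∣ Nat.card M →
      (orderOf g).Coprime p := by
    intro g hg p hp hpd
    have : Fact p.Prime := ⟨hp⟩
    obtain ⟨L, hL, -⟩ := hex p hp hpd
    exact hL.coprime_of_mem ((Subgroup.mem_sInf.mp hg) L ⟨p, hp, hpd, hL⟩)
  have hK2 : ∀ g : G, (∀ p, p.Prime → p ∣ Nat.card M → (orderOf g).Coprime p) →
      g ∈ sInf {L : Subgroup G | ∃ p, p.Prime ∧ p ∣ Nat.card M ∧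
        Helper54.IsNormalPComplement p L} := by
    intro g hg
    rw [Subgroup.mem_sInf]
    rintro L ⟨p, hp, hpd, hLc⟩
    have : Fact p.Prime := ⟨hp⟩
    exact hLc.mem_of_coprime (hg p hp hpd)
  generalize sInf {L : Subgroup G | ∃ p, p.Prime ∧ p ∣ Nat.card M ∧
      Helper54.IsNormalPComplement p L} = K at hKn hK1 hK2
  have hKM : K ⊓ M = ⊥ := by
    rw [eq_bot_iff]
    intro x hx
    rw [Subgroup.mem_bot]
    by_contra hx1
    have hxK := (Subgroup.mem_inf.mp hx).1
    have hxM := (Subgroup.mem_inf.mp hx).2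
    have hord : orderOf x ≠ 1 := fun h => hx1 (orderOf_eq_one_iff.mp h)
    obtain ⟨p, hp, hpd⟩ := Nat.exists_prime_and_dvd hord
    have hpM : p ∣ Nat.card M := hpd.trans (Subgroup.orderOf_dvd_natCard M hxM)
    have h1 := hK1 x hxK p hp hpM
    exact hp.one_lt.ne' (Nat.Coprime.eq_one_of_dvd h1.symm hpd)
  have hKMtop : K ⊔ M = ⊤ := by
    rcases eq_or_lt_of_le (le_sup_right : M ≤ K ⊔ M) with h | h
    · exfalso
      have hKle : K ≤ M := by rw [h]; exact le_sup_left
      have hKbot : K = ⊥ := by rw [← hKM]; exact (inf_eq_left.mpr hKle).symm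
      have hM0 : Nat.card M ≠ 0 := Nat.card_pos.ne'
      have hG0 : Nat.card G ≠ 0 := Nat.card_pos.ne'
      have hcard : Nat.card M = Nat.card G := by
        apply Nat.eq_of_factorization_eq hM0 hG0
        intro p
        by_cases hp : p.Prime
        · have : Fact p.Prime := ⟨hp⟩
          by_cases hpd : p ∣ Nat.card M
          · obtain ⟨L, hL, P, hPM⟩ := hex p hp hpd
            apply le_antisymm
            · exact (Nat.factorization_le_iff_dvd hM0 hG0).mpr (Subgroup.card_subgroup_dvd_card M) p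
            · have h1 : Nat.card (P : Subgroup G) ∣ Nat.card M := Subgroup.card_dvd_of_le hPM
              rw [P.card_eq_multiplicity] at h1
              exact (Nat.Prime.pow_dvd_iff_le_factorization hp hM0).mp h1
          · have hpG : ¬ p ∣ Nat.card G := by
              intro hpG
              obtain ⟨Q⟩ : Nonempty (Sylow p G) := inferInstance
              have hQbot := Q.ne_bot_of_dvd_card hpG
              apply hQbot
              rw [eq_bot_iff, ← hKbot]
              intro y hy
              apply hK2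
              intro q hq hqd
              obtain ⟨k, hk⟩ := (IsPGroup.iff_orderOf.mp Q.2) ⟨y, hy⟩
              rw [Subgroup.orderOf_mk] at hk
              rw [hk]
              have hne : p ≠ q := fun h => hpd (h ▸ hqd)
              exact Nat.Coprime.pow_left k ((Nat.coprime_primes hp hq).mpr hne)
            rw [Nat.factorization_eq_zero_of_not_dvd hpd, Nat.factorization_eq_zero_of_not_dvd hpG]
        · rw [Nat.factorization_eq_zero_of_not_prime _ hp,
            Nat.factorization_eq_zero_of_not_prime _ hp]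
      exact hmax.1 (Subgroup.eq_top_of_card_eq M hcard)
    · exact hmax.2 _ h
  -- a central element of prime order of `M`
  have hMnt : Nontrivial M := (Subgroup.nontrivial_iff_ne_bot M).mpr hMbot
  have hcen : Subgroup.center M ≠ ⊥ := Group.IsNilpotent.center_ne_bot M
  obtain ⟨z, hz1⟩ := (Subgroup.ne_bot_iff_exists_ne_one).mp hcen
  have hzord : orderOf (z : M) ≠ 1 := by
    intro h
    apply hz1
    exact Subtype.ext (orderOf_eq_one_iff.mp h)
  obtain ⟨p, hp, hpd⟩ := Nat.exists_prime_and_dvd hzord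
  have hxord : orderOf ((z : M) ^ (orderOf (z : M) / p)) = p :=
    orderOf_pow_orderOf_div (orderOf_pos (z : M)).ne' hpd
  have hxcen : (z : M) ^ (orderOf (z : M) / p) ∈ Subgroup.center M :=
    Subgroup.pow_mem _ z.2 _
  generalize (z : M) ^ (orderOf (z : M) / p) = x at hxord hxcen
  have hxG : orderOf (x : G) = p := by rw [Subgroup.orderOf_coe]; exact hxord
  have hφ : MonoidHom.FixedPointFree (MulAut.conjNormal (H := K) (x : G)).toMonoidHom := by
    intro k hk
    by_contra hk1
    have hkG : ((x : G) * k * (x : G)⁻¹ : G) = k := congrArg Subtype.val hk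
    have hMC : M ≤ Subgroup.centralizer {(x : G)} := by
      intro m hm
      rw [Subgroup.mem_centralizer_singleton_iff]
      have h1 := Subgroup.mem_center_iff.mp hxcen ⟨m, hm⟩
      exact congrArg Subtype.val h1
    have hkC : (k : G) ∈ Subgroup.centralizer {(x : G)} := by
      rw [Subgroup.mem_centralizer_singleton_iff]
      calc (k : G) * x = ((x : G) * k * (x : G)⁻¹) * x := by rw [hkG]
        _ = x * k := by group
    have hkM : (k : G) ∉ M := by
      intro hkM
      have h1 : (k : G) ∈ K ⊓ M := Subgroup.mem_inf.mpr ⟨k.2, hkM⟩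
      rw [hKM, Subgroup.mem_bot] at h1
      exact hk1 (Subtype.ext h1)
    have hlt : M < Subgroup.centralizer {(x : G)} :=
      lt_of_le_of_ne hMC (fun h => hkM (h ▸ hkC))
    have htop := hmax.2 _ hlt
    have hzn : (Subgroup.zpowers (x : G)).Normal := by
      refine ⟨fun n hn g => ?_⟩
      have hg : g ∈ Subgroup.centralizer {(x : G)} := htop ▸ Subgroup.mem_top g
      rw [Subgroup.mem_centralizer_singleton_iff] at hg
      obtain ⟨j, rfl⟩ := Subgroup.mem_zpowers_iff.mp hn
      have hcomm : Commute g ((x : G) ^ j) := Commute.zpow_right hg j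
      have h1 : g * (x : G) ^ j * g⁻¹ = (x : G) ^ j := by rw [hcomm.eq]; group
      rw [h1]
      exact hn
    have h2 := hcore _ hzn ((Subgroup.zpowers_le).mpr x.2)
    rw [Subgroup.zpowers_eq_bot] at h2
    rw [h2, orderOf_one] at hxG
    exact hp.one_lt.ne hxG
  have hφp : (⇑(MulAut.conjNormal (H := K) (x : G)).toMonoidHom)^[p] = _root_.id := by
    funext n
    have h1 : (MulAut.conjNormal (H := K) (x : G)) ^ p = 1 := by
      rw [← map_pow, ← hxG, pow_orderOf_eq_one, map_one]
    have h2 := Cfsg.Agent.S0033.mulEquiv_pow_apply (MulAut.conjNormal (H := K) (x : G)) p n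
    rw [h1] at h2
    exact h2.symm
  have hKnil : Group.IsNilpotent K := Cfsg.Agent.S0033.fpf_nilpotent_of_iterate _ hφ hp hφp
  have hsurj : Function.Surjective ((QuotientGroup.mk' K).comp M.subtype) := by
    intro q
    obtain ⟨g, rfl⟩ := QuotientGroup.mk_surjective q
    have hg : g ∈ K ⊔ M := hKMtop ▸ Subgroup.mem_top g
    rw [← SetLike.mem_coe, Subgroup.normal_mul K M] at hg
    obtain ⟨k, hk, m, hm, rfl⟩ := Set.mem_mul.mp hg
    refine ⟨⟨m, hm⟩, ?_⟩
    change ((m : G) : G ⧸ K) = ((k * m : G) : G ⧸ K)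
    rw [QuotientGroup.eq]
    have h1 : m⁻¹ * (k * m) = m⁻¹ * k * m⁻¹⁻¹ := by group
    rw [h1]
    exact hKn.conj_mem k hk m⁻¹
  have hGK : Group.IsSolvable (G ⧸ K) := Group.isSolvable_of_surjective hsurj
  exact Group.isSolvable_of_ker_le_range K.subtype (QuotientGroup.mk' K)
    (by rw [QuotientGroup.ker_mk', Subgroup.range_subtype])

theorem solvable_of_coatom_nilpotent_odd_aux (M N : Subgroup G) [hNn : N.Normal] (hNle : N ≤ M)
    (hNcore : ∀ L : Subgroup G, L.Normal → L ≤ M → L ≤ N) (hmax : IsCoatom M)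
    (hnil : Group.IsNilpotent M) (hodd : Odd (Nat.card M)) : Group.IsSolvable G := by
  have hf : Function.Surjective (QuotientGroup.mk' N) := QuotientGroup.mk'_surjective _
  have hcomap : (M.map (QuotientGroup.mk' N)).comap (QuotientGroup.mk' N) = M := by
    rw [Subgroup.comap_map_eq, QuotientGroup.ker_mk', sup_eq_left.mpr hNle]
  have hmax' : IsCoatom (M.map (QuotientGroup.mk' N)) := by
    constructor
    · intro h
      apply hmax.1
      rw [← hcomap, h, Subgroup.comap_top]
    · intro L hL
      have h1 : M ≤ L.comap (QuotientGroup.mk' N) := by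
        rw [← hcomap]
        exact Subgroup.comap_mono hL.le
      rcases eq_or_lt_of_le h1 with h2 | h2
      · exfalso
        have h3 : L = M.map (QuotientGroup.mk' N) := by
          rw [h2, Subgroup.map_comap_eq_self_of_surjective hf]
        exact hL.ne h3.symm
      · have h3 := hmax.2 _ h2
        rw [← Subgroup.map_comap_eq_self_of_surjective hf L, h3, ← MonoidHom.range_eq_map,
          MonoidHom.range_eq_top.mpr hf]
  have hnil' : Group.IsNilpotent (M.map (QuotientGroup.mk' N)) :=
    Group.nilpotent_of_surjective ((QuotientGroup.mk' N).subgroupMap M)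
      ((QuotientGroup.mk' N).subgroupMap_surjective M)
  have hodd' : Odd (Nat.card (M.map (QuotientGroup.mk' N))) :=
    Odd.of_dvd_nat hodd (Subgroup.card_map_dvd M _)
  have hcore' : ∀ L : Subgroup (G ⧸ N), L.Normal →
      L ≤ M.map (QuotientGroup.mk' N) → L = ⊥ := by
    intro L hL hLM
    have h1 : L.comap (QuotientGroup.mk' N) ≤ M := by
      rw [← hcomap]
      exact Subgroup.comap_mono hLM
    have hn : (L.comap (QuotientGroup.mk' N)).Normal := hL.comap _
    have h2 : L.comap (QuotientGroup.mk' N) ≤ N := hNcore _ hn h1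
    rw [← Subgroup.map_comap_eq_self_of_surjective hf L, eq_bot_iff]
    calc (L.comap (QuotientGroup.mk' N)).map (QuotientGroup.mk' N)
        ≤ N.map (QuotientGroup.mk' N) := Subgroup.map_mono h2
      _ = ⊥ := QuotientGroup.map_mk'_self _
  have hsolvQ : Group.IsSolvable (G ⧸ N) :=
    solvable_of_coatom_corefree _ hmax' hnil' hodd' hcore'
  have hNnil : Group.IsNilpotent N := isNilpotent_of_le hnil hNle
  exact Group.isSolvable_of_ker_le_range N.subtype (QuotientGroup.mk' N)
    (by rw [QuotientGroup.ker_mk', Subgroup.range_subtype])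

/-- **Thompson**: a finite group with a nilpotent maximal subgroup of odd order is solvable. -/
theorem solvable_of_coatom_nilpotent_odd (M : Subgroup G) (hmax : IsCoatom M)
    (hnil : Group.IsNilpotent M) (hodd : Odd (Nat.card M)) : Group.IsSolvable G :=
  solvable_of_coatom_nilpotent_odd_aux M M.normalCore (Subgroup.normalCore_le M)
    (fun _ hL hLM => (Subgroup.normal_le_normalCore (hN := hL)).mpr hLM) hmax hnil hodd

end

end Cfsg.Agent.Lib.Helper91
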