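import Mathlib
import Cfsg.Agent.Lib.Helper91.NilpMax
import Cfsg.Agent.Lib.Helper97.SchmidtStruct

/-!
# Wielandt's theorem on nilpotent Hall subgroups
-/

set_option autoImplicit false

namespace Cfsg.Agent.Lib.Helper91

open scoped Pointwise

universe u

section

variable {G : Type u} [Group G] [Finite G]

theorem wielandt_core (H K M : Subgroup G) (hH : Group.IsNilpotent H)
    (hHall : (Nat.card H).Coprime H.index) (p : ℕ) [Fact p.Prime] (hpH : p ∣ Nat.card H)
    (hMK : M ≤ K) (hMn : K ≤ Subgroup.normalizer (M : Set G)) (hMH : M ≤ H)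
    (hidx : ∃ j, M.relIndex K = p ^ j) : ∃ x : G, K ≤ MulAut.conj x • H := by
  have hp : p.Prime := Fact.out
  have hMnil : Group.IsNilpotent M := isNilpotent_of_le hH hMH
  -- the normal `p`-complement of `M`
  obtain ⟨K₀, hK₀n, hK₀c, k, hk⟩ := exists_normal_complement_of_nilpotent_aux p _ M rfl hMnil
  have hK₀ : Helper54.IsNormalPComplement p K₀ := ⟨hK₀n, hK₀c, k, hk⟩
  have hM₂le : K₀.map M.subtype ≤ M := Subgroup.map_subtype_le _
  have hM₂mem : ∀ x ∈ M, (orderOf x).Coprime p → x ∈ K₀.map M.subtype := by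
    intro x hx hc
    refine ⟨⟨x, hx⟩, hK₀.mem_of_coprime ?_, rfl⟩
    rw [Subgroup.orderOf_mk]
    exact hc
  have hM₂cop : ∀ x ∈ K₀.map M.subtype, (orderOf x).Coprime p := by
    rintro _ ⟨y, hy, rfl⟩
    have h1 := hK₀.coprime_of_mem hy
    rwa [← Subgroup.orderOf_coe] at h1
  have hM₂card : (Nat.card (K₀.map M.subtype)).Coprime p := by
    rw [Subgroup.card_map_of_injective M.subtype_injective]
    exact hK₀c
  have hM₂idx : (K₀.map M.subtype).relIndex M = p ^ k := by
    rw [Subgroup.relIndex, Subgroup.subgroupOf, Subgroup.comap_map_eq_self_of_injective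
      M.subtype_injective]
    exact hk
  -- `K` normalizes the `p`-complement
  have hKN : K ≤ Subgroup.normalizer ((K₀.map M.subtype : Subgroup G) : Set G) := by
    rw [Subgroup.le_normalizer_iff]
    intro g hg x hx
    apply hM₂mem
    · exact (Subgroup.mem_normalizer_iff.mp (hMn hg) x).mp (hM₂le hx)
    · have h1 : orderOf (g * x * g⁻¹) = orderOf x :=
        orderOf_injective (MulAut.conj g).toMonoidHom (MulAut.conj g).injective x
      rw [h1]
      exact hM₂cop x hx
  -- the Sylow `p`-subgroup of `H` is a Sylow `p`-subgroup of `G`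
  obtain ⟨PH⟩ : Nonempty (Sylow p H) := inferInstance
  have hPHn : (PH : Subgroup H).Normal := inferInstance
  have hH₁p : IsPGroup p ((PH : Subgroup H).map H.subtype) := PH.2.map _
  have hH₁idx : ¬ p ∣ ((PH : Subgroup H).map H.subtype).index := by
    rw [Subgroup.index_map_subtype]
    intro h
    rcases (Nat.Prime.dvd_mul hp).mp h with h1 | h1
    · exact PH.not_dvd_index h1
    · exact Nat.Prime.one_lt hp |>.ne' (Nat.eq_one_of_dvd_coprimes hHall hpH h1)
  have hH₁le : (PH : Subgroup H).map H.subtype ≤ H := Subgroup.map_subtype_le _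
  -- it centralizes the `p`-complement of `M`
  obtain ⟨KH, hKHn, hKHc, kH, hkH⟩ := exists_normal_complement_of_nilpotent_aux p _ H rfl hH
  have hKH : Helper54.IsNormalPComplement p KH := ⟨hKHn, hKHc, kH, hkH⟩
  have hdisj : Disjoint (PH : Subgroup H) KH := by
    apply Subgroup.disjoint_of_coprime_natCard
    obtain ⟨n, hn⟩ := IsPGroup.iff_card.mp PH.2
    rw [hn]
    exact Nat.Coprime.pow_left n hKHc.symm
  have hcomm : ∀ x ∈ (PH : Subgroup H).map H.subtype, ∀ y ∈ K₀.map M.subtype, y * x = x * y := by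
    rintro _ ⟨x, hx, rfl⟩ y hy
    have hyH : y ∈ H := hMH (hM₂le hy)
    have hyK : (⟨y, hyH⟩ : H) ∈ KH := by
      apply hKH.mem_of_coprime
      rw [Subgroup.orderOf_mk]
      exact hM₂cop y hy
    have h1 := Subgroup.commute_of_normal_of_disjoint _ _ hPHn hKHn hdisj x ⟨y, hyH⟩ hx hyK
    have h2 := congrArg Subtype.val h1.eq
    exact h2.symm
  have hH₁N : (PH : Subgroup H).map H.subtype ≤
      Subgroup.normalizer ((K₀.map M.subtype : Subgroup G) : Set G) := by
    refine le_trans ?_ (Subgroup.centralizer_le_normalizer _)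
    intro x hx
    rw [Subgroup.mem_centralizer_iff]
    intro y hy
    exact hcomm x hx y hy
  -- Sylow's theorem in the normalizer of the `p`-complement
  obtain ⟨PK⟩ : Nonempty (Sylow p K) := inferInstance
  have hP'le : (PK : Subgroup K).map K.subtype ≤ K := Subgroup.map_subtype_le _
  have hP'p : IsPGroup p ((PK : Subgroup K).map K.subtype) := PK.2.map _
  have hP''p : IsPGroup p (((PK : Subgroup K).map K.subtype).subgroupOf
      (Subgroup.normalizer ((K₀.map M.subtype : Subgroup G) : Set G))) := hP'p.comap_subtype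
  obtain ⟨Q, hQ⟩ := hP''p.exists_le_sylow
  have hS₁le : ((hH₁p.toSylow hH₁idx : Sylow p G) : Subgroup G) ≤
      Subgroup.normalizer ((K₀.map M.subtype : Subgroup G) : Set G) := by
    rw [IsPGroup.toSylow_coe]
    exact hH₁N
  obtain ⟨l, hl⟩ := MulAction.exists_smul_eq
    (Subgroup.normalizer ((K₀.map M.subtype : Subgroup G) : Set G))
    ((hH₁p.toSylow hH₁idx).subtype hS₁le) Q
  rw [Sylow.smul_subtype] at hl
  refine ⟨(l : G), ?_⟩
  -- `K` is generated by its Sylow `p`-subgroup and the `p`-complement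
  have hsup : (K₀.map M.subtype).subgroupOf K ⊔ (PK : Subgroup K) = ⊤ := by
    rw [← Subgroup.index_eq_one]
    by_contra hne
    obtain ⟨r, hr, hrd⟩ := Nat.exists_prime_and_dvd hne
    have h1 : r ∣ ((K₀.map M.subtype).subgroupOf K).index :=
      hrd.trans (Subgroup.index_dvd_of_le le_sup_left)
    have h2 : r ∣ (PK : Subgroup K).index := hrd.trans (Subgroup.index_dvd_of_le le_sup_right)
    obtain ⟨j, hj⟩ := hidx
    have h3 : ((K₀.map M.subtype).subgroupOf K).index = p ^ (k + j) := by
      have h4 := Subgroup.relIndex_mul_relIndex (K₀.map M.subtype) M K hM₂le hMK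
      rw [hM₂idx, hj] at h4
      rw [pow_add, h4]
      rfl
    rw [h3] at h1
    have h5 : r = p := (Nat.prime_dvd_prime_iff_eq hr hp).mp (hr.dvd_of_dvd_pow h1)
    rw [h5] at h2
    exact PK.not_dvd_index h2
  have hKsup : K ≤ K₀.map M.subtype ⊔ (PK : Subgroup K).map K.subtype := by
    have h1 : ((K₀.map M.subtype).subgroupOf K ⊔ (PK : Subgroup K)).map K.subtype = K := by
      rw [hsup, ← MonoidHom.range_eq_map, Subgroup.range_subtype]
    rw [Subgroup.map_sup, Subgroup.map_subgroupOf_eq_of_le (hM₂le.trans hMK)] at h1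
    rw [h1]
  refine hKsup.trans (sup_le ?_ ?_)
  · intro y hy
    rw [Subgroup.mem_pointwise_smul_iff_inv_smul_mem]
    have h1 : ((l : G))⁻¹ * y * ((l : G))⁻¹⁻¹ ∈ K₀.map M.subtype :=
      (Subgroup.mem_normalizer_iff.mp (Subgroup.inv_mem _ l.2) y).mp hy
    have h2 : (MulAut.conj (l : G))⁻¹ • y = ((l : G))⁻¹ * y * ((l : G))⁻¹⁻¹ := by
      simp [MulAut.smul_def]
    rw [h2]
    exact hMH (hM₂le h1)
  · intro y hy
    have hyN : y ∈ Subgroup.normalizer ((K₀.map M.subtype : Subgroup G) : Set G) :=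
      hKN (hP'le hy)
    have h1 : (⟨y, hyN⟩ : Subgroup.normalizer ((K₀.map M.subtype : Subgroup G) : Set G)) ∈
        (Q : Subgroup _) := hQ (Subgroup.mem_subgroupOf.mpr hy)
    rw [← hl] at h1
    have h2 : y ∈ (((l : G) • (hH₁p.toSylow hH₁idx) : Sylow p G) : Subgroup G) := h1
    rw [Sylow.coe_subgroup_smul, IsPGroup.toSylow_coe] at h2
    exact Subgroup.pointwise_smul_le_pointwise_smul_iff.mpr hH₁le h2

theorem wielandt_aux (H : Subgroup G) (hH : Group.IsNilpotent H)
    (hHall : (Nat.card H).Coprime H.index) :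
    ∀ (n : ℕ) (K : Subgroup G), Nat.card K = n →
      (∀ p : ℕ, p.Prime → p ∣ Nat.card K → p ∣ Nat.card H) →
      ∃ x : G, K ≤ MulAut.conj x • H := by
  intro n
  induction n using Nat.strong_induction_on with
  | _ n ih =>
  intro K hn hK
  by_cases hKbot : K = ⊥
  · exact ⟨1, by rw [hKbot]; exact bot_le⟩
  have hprop : ∀ L : Subgroup G, L ≤ K → L ≠ K → ∃ x : G, L ≤ MulAut.conj x • H := by
    intro L hLK hne
    have hlt : Nat.card L < n := by
      rw [← hn]
      exact Helper54.card_lt_card_of_lt (lt_of_le_of_ne hLK hne)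
    exact ih _ hlt L rfl (fun p hp hpd => hK p hp (hpd.trans (Subgroup.card_dvd_of_le hLK)))
  have hconjnil : ∀ x : G, Group.IsNilpotent (MulAut.conj x • H : Subgroup G) := fun x =>
    Group.nilpotent_of_mulEquiv (Subgroup.equivSMul (MulAut.conj x) H)
  have hmapne : ∀ M₀ : Subgroup K, M₀ ≠ ⊤ → M₀.map K.subtype ≠ K := by
    intro M₀ hM₀ h
    apply hM₀
    rw [eq_top_iff]
    intro y _
    have h1 : (y : G) ∈ M₀.map K.subtype := by rw [h]; exact y.2
    obtain ⟨z, hz, hzy⟩ := h1
    have h2 : z = y := Subtype.ext hzy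
    rwa [← h2]
  have hKsolv : Group.IsSolvable K := by
    apply Helper97.schmidt_solvable
    intro M₀ hM₀
    obtain ⟨x, hx⟩ := hprop _ (Subgroup.map_subtype_le M₀) (hmapne M₀ hM₀.1)
    have h1 : Group.IsNilpotent (M₀.map K.subtype) := isNilpotent_of_le (hconjnil x) hx
    exact Group.nilpotent_of_mulEquiv (M₀.equivMapOfInjective K.subtype K.subtype_injective).symm
  have hKnt : Nontrivial K := (Subgroup.nontrivial_iff_ne_bot K).mpr hKbot
  obtain ⟨M₀, hM₀n, hM₀p⟩ := Helper97.exists_normal_prime_index (G := K)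
  have : Fact (M₀.index).Prime := ⟨hM₀p⟩
  have hM₀top : M₀ ≠ ⊤ := by
    intro h
    rw [h, Subgroup.index_top] at hM₀p
    exact Nat.not_prime_one hM₀p
  have hMle : M₀.map K.subtype ≤ K := Subgroup.map_subtype_le _
  obtain ⟨g, hg⟩ := hprop _ hMle (hmapne M₀ hM₀top)
  have hcard' : Nat.card (MulAut.conj g • H : Subgroup G) = Nat.card H :=
    (Nat.card_congr (Subgroup.equivSMul (MulAut.conj g) H).toEquiv).symm
  have hidx' : (MulAut.conj g • H : Subgroup G).index = H.index := by
    have h1 := (MulAut.conj g • H : Subgroup G).card_mul_index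
    have h2 := H.card_mul_index
    rw [hcard'] at h1
    exact Nat.eq_of_mul_eq_mul_left Nat.card_pos (h1.trans h2.symm)
  have hpH : M₀.index ∣ Nat.card (MulAut.conj g • H : Subgroup G) := by
    rw [hcard']
    exact hK _ hM₀p (Subgroup.index_dvd_card M₀)
  have hnorm : K ≤ Subgroup.normalizer ((M₀.map K.subtype : Subgroup G) : Set G) := by
    have h1 := Subgroup.le_normalizer_map (H := M₀) K.subtype
    rw [Subgroup.normalizer_eq_top_iff.mpr hM₀n, ← MonoidHom.range_eq_map,
      Subgroup.range_subtype] at h1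
    exact h1
  have hrel : (M₀.map K.subtype).relIndex K = M₀.index ^ 1 := by
    rw [pow_one, Subgroup.relIndex, Subgroup.subgroupOf,
      Subgroup.comap_map_eq_self_of_injective K.subtype_injective]
  obtain ⟨x, hx⟩ := wielandt_core (MulAut.conj g • H) K (M₀.map K.subtype) (hconjnil g)
    (by rw [hcard', hidx']; exact hHall) M₀.index hpH hMle hnorm hg ⟨1, hrel⟩
  refine ⟨x * g, ?_⟩
  rw [map_mul, mul_smul]
  exact hx

/-- **Wielandt**: if `H` is a nilpotent Hall subgroup of the finite group `G` and every prime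
divisor of `|K|` divides `|H|`, then `K` lies in a conjugate of `H`. -/
theorem wielandt (H K : Subgroup G) (hH : Group.IsNilpotent H)
    (hHall : (Nat.card H).Coprime H.index)
    (hK : ∀ p : ℕ, p.Prime → p ∣ Nat.card K → p ∣ Nat.card H) :
    ∃ x : G, K ≤ MulAut.conj x • H :=
  wielandt_aux H hH hHall _ K rfl hK

end

end Cfsg.Agent.Lib.Helper91
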