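import Mathlib
import Cfsg.Agent.Lib.Helper91.SSBrauer

set_option autoImplicit false
set_option maxHeartbeats 800000

/-!
# The principal block of a simple group with a Sylow subgroup of prime order: full description

`brauer_full` is the version of `brauer_chars` which keeps the modular ideal, the whole set `Y`
of exceptional characters, the injectivity of the family of non-exceptional characters and the
description of the members of the principal block.
-/

namespace Cfsg.Agent.Lib.Helper91.SS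

open Cfsg

variable {G : Type*} [Group G] [Finite G]

theorem brauer_full [IsSimpleGroup G] (hG : ¬ (Nat.card G).Prime) (p : ℕ) [Fact p.Prime]
    (P : Sylow p G) (hP : Nat.card (P : Subgroup G) = p) (m : ℕ) (hm2 : m + 1 < p)
    (hCN : (Subgroup.centralizer ((P : Subgroup G) : Set G)).relIndex
      (Subgroup.normalizer ((P : Subgroup G) : Set G)) = m) :
    ∃ (M : Ideal Cfsg.AlgInt) (k : ℕ) (χ : Fin k → IrrCharacter G) (a : Fin k → ℤ)
      (Y : Set (IrrCharacter G)) (d δ : ℤ),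
      Cfsg.IsPModular p M ∧
      k + 1 ≤ m ∧ (δ = 1 ∨ δ = -1) ∧ Function.Injective χ ∧
      (∀ i, a i ≠ 0 ∧ (χ i : G → ℂ) 1 ≠ 1 ∧ χ i ∉ Y ∧
         ∀ z y : G, IsPPart p z y → y ∈ (P : Subgroup G) → y ≠ 1 →
           (χ i : G → ℂ) z = (a i : ℂ)) ∧
      Nat.card Y = (p - 1) / m ∧
      (∀ η ∈ Y, (η : G → ℂ) 1 ≠ 1) ∧
      (∀ η ∈ Y, ∀ η' ∈ Y, ∀ g : G, ¬ p ∣ orderOf g → (η : G → ℂ) g = (η' : G → ℂ) g) ∧
      ((d - δ) ^ 2 + ((((p - 1) / m : ℕ) : ℤ) - 1) * d ^ 2 + 1 + ∑ i, a i ^ 2 = (m : ℤ) + 1) ∧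
      (∀ η ∈ Y, ∀ g : G, ¬ p ∣ orderOf g →
          ((((p - 1) / m : ℕ) : ℂ) * d - δ) * (η : G → ℂ) g + 1 +
            ∑ i, (a i : ℂ) * (χ i : G → ℂ) g = 0) ∧
      (∀ ψ : IrrCharacter G, ψ ∈ Cfsg.principalBlock M G →
          (ψ : G → ℂ) 1 = 1 ∨ (∃ i, ψ = χ i) ∨ ψ ∈ Y) := by
  classical
  have hpp : p.Prime := Fact.out
  obtain ⟨M, hMmax, hMp⟩ :=
    Cfsg.Agent.Lib.Helper79.exists_maximal_ideal_natCast_mem p hpp.one_lt
  have hM : Cfsg.IsPModular p M := ⟨hpp, hMmax, hMp⟩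
  have hcyc : IsCyclic (P : Subgroup G) := isCyclic_of_prime_card hP
  have hab : IsMulCommutative P :=
    ⟨⟨fun a b => (IsCyclic.commGroup (α := (P : Subgroup G))).mul_comm a b⟩⟩
  have hcardP : Nat.card P = p := hP
  have hP1 : Nat.card P ≠ 1 := by
    rw [hcardP]; exact hpp.one_lt.ne'
  have hm2' : m + 1 < Nat.card P := by
    rw [hcardP]; exact hm2
  have hperf := Cfsg.Agent.Lib.Helper90.BrauerDeg.commutator_eq_top_of_simple hG
  obtain ⟨hr1, -, hr3, -⟩ := Cfsg.Agent.Lib.Helper17.relIndex_centralizer_sylow_prime hG p P hP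
  rw [hCN] at hr1 hr3
  have hm0 : m ≠ 0 := by
    rintro rfl
    rw [zero_mul] at hr3
    exact Nat.card_pos.ne' hr3.symm
  have hm1 : 1 < m := by omega
  have hgen := Cfsg.Agent.Lib.Helper90.BrauerDeg.exists_gen_normalizer p (P : Subgroup G) hP
  have hcentP : ∀ y : G, y ∈ (P : Subgroup G) → y ≠ 1 → ∀ c : G, Commute c y →
      c ∈ Subgroup.centralizer ((P : Subgroup G) : Set G) := by
    intro y hy hy1 c hc
    have hz := Cfsg.Agent.Lib.Helper17.zpowers_eq_of_mem_of_card_prime hpp (P : Subgroup G) hP y hy hy1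
    rw [Subgroup.mem_centralizer_iff]
    intro w hw
    have hw' : w ∈ Subgroup.zpowers y := by rw [hz]; exact hw
    obtain ⟨j, rfl⟩ := Subgroup.mem_zpowers_iff.mp hw'
    exact ((hc.zpow_right j).eq).symm
  have hfrob : ∀ y : G, y ∈ (P : Subgroup G) → y ≠ 1 →
      Subgroup.centralizer ({y} : Set G) ⊓ Subgroup.normalizer ((P : Subgroup G) : Set G) =
        Subgroup.centralizer ((P : Subgroup G) : Set G) := by
    intro y hy hy1
    apply le_antisymm
    · intro c hc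
      rw [Subgroup.mem_inf] at hc
      refine hcentP y hy hy1 c ?_
      have := Subgroup.mem_centralizer_iff.mp hc.1 y rfl
      exact this.symm
    · intro c hc
      rw [Subgroup.mem_inf]
      refine ⟨?_, Subgroup.centralizer_le_normalizer _ hc⟩
      rw [Subgroup.mem_centralizer_iff]
      intro w hw
      rw [Set.mem_singleton_iff] at hw
      subst hw
      exact Subgroup.mem_centralizer_iff.mp hc w hy
  obtain ⟨s, X, Y, hs, hB, hdisj, hXcard, hYcard, ⟨χ₁, hχ₁X, hχ₁⟩, a, d, δ, ζ, hδ, hX, hζY, hYζ,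
    -, hζval, hrel, hYreg, hfinal⟩ :=
    Cfsg.Agent.S4709.result p M hM P hab hP1 m hm1 hm2' hCN hgen hfrob
  -- a nonidentity element of P
  obtain ⟨y₀, hy₀P, hy₀1⟩ : ∃ y₀ : G, y₀ ∈ (P : Subgroup G) ∧ y₀ ≠ 1 := by
    have hne : (P : Subgroup G) ≠ ⊥ := by
      intro h
      have h1 : Nat.card (P : Subgroup G) = 1 := by rw [h]; exact Subgroup.card_bot
      rw [hP] at h1
      exact hpp.one_lt.ne' h1
    obtain ⟨w, hw⟩ := Subgroup.ne_bot_iff_exists_ne_one.mp hne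
    exact ⟨(w : G), w.2, fun h => hw (Subtype.ext h)⟩
  have hpart : ∀ y : G, y ∈ (P : Subgroup G) → y ≠ 1 → Cfsg.IsPPart p y y := by
    intro y hy hy1
    refine ⟨1, mul_one y, Commute.one_right y, ⟨1, ?_⟩, ?_⟩
    · rw [pow_one]
      exact Cfsg.Agent.Lib.Helper17.orderOf_eq_of_mem_of_card_prime hpp (P : Subgroup G) hP y hy hy1
    · rw [orderOf_one]
      exact hpp.one_lt.ne' ∘ Nat.dvd_one.mp
  have hval : ∀ χ ∈ X, ∀ y : G, y ∈ (P : Subgroup G) → y ≠ 1 →
      (χ : G → ℂ) y = (a χ : ℂ) := fun χ hχ y hy hy1 => (hX χ hχ).2 y y (hpart y hy hy1) hy hy1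
  have ha1 : a χ₁ = 1 := by
    have h := hval χ₁ hχ₁X y₀ hy₀P hy₀1
    rw [hχ₁] at h
    have h' : (1 : ℂ) = (a χ₁ : ℂ) := h
    exact_mod_cast h'.symm
  have hχ₁1 : ∀ g, (χ₁ : G → ℂ) g = 1 := by intro g; rw [hχ₁]
  -- index the nontrivial members of X by Fin k
  have hXfin : X.Finite := Set.toFinite X
  have hSfin : (X \ {χ₁}).Finite := hXfin.subset Set.sdiff_subset
  have : Finite ↥(X \ {χ₁}) := hSfin.to_subtype
  let _ : Fintype ↥(X \ {χ₁}) := Fintype.ofFinite _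
  obtain ⟨k, hk⟩ : ∃ k, k = Nat.card ↥(X \ {χ₁}) := ⟨_, rfl⟩
  have e : ↥(X \ {χ₁}) ≃ Fin k := hk ▸ Finite.equivFin _
  have hk1 : k + 1 ≤ m := by
    have h1 : Nat.card X = X.ncard := Nat.card_coe_set_eq X
    have h2 : Nat.card ↥(X \ {χ₁}) = (X \ {χ₁}).ncard := Nat.card_coe_set_eq _
    have h3 := Set.ncard_sdiff_singleton_add_one hχ₁X hXfin
    omega
  have hsplit : ∀ f : Cfsg.IrrCharacter G → ℤ,
      ∑ᶠ χ ∈ X, f χ = f χ₁ + ∑ i : Fin k, f (e.symm i : Cfsg.IrrCharacter G) := by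
    intro f
    have hins : X = insert χ₁ (X \ {χ₁}) := by
      rw [Set.insert_sdiff_singleton, Set.insert_eq_of_mem hχ₁X]
    conv_lhs => rw [hins]
    rw [finsum_mem_insert f (by simp) hSfin]
    congr 1
    rw [← finsum_set_coe_eq_finsum_mem, finsum_eq_sum_of_fintype]
    exact (Equiv.sum_comp e.symm (fun j : ↥(X \ {χ₁}) => f (j : Cfsg.IrrCharacter G))).symm
  have hsplitC : ∀ f : Cfsg.IrrCharacter G → ℂ,
      ∑ᶠ χ ∈ X, f χ = f χ₁ + ∑ i : Fin k, f (e.symm i : Cfsg.IrrCharacter G) := by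
    intro f
    have hins : X = insert χ₁ (X \ {χ₁}) := by
      rw [Set.insert_sdiff_singleton, Set.insert_eq_of_mem hχ₁X]
    conv_lhs => rw [hins]
    rw [finsum_mem_insert f (by simp) hSfin]
    congr 1
    rw [← finsum_set_coe_eq_finsum_mem, finsum_eq_sum_of_fintype]
    exact (Equiv.sum_comp e.symm (fun j : ↥(X \ {χ₁}) => f (j : Cfsg.IrrCharacter G))).symm
  have hmem : ∀ i : Fin k, (e.symm i : Cfsg.IrrCharacter G) ∈ X ∧
      (e.symm i : Cfsg.IrrCharacter G) ≠ χ₁ := by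
    intro i
    have := (e.symm i).2
    exact ⟨this.1, fun h => this.2 (by simpa using h)⟩
  -- a linear irreducible character is trivial
  have hlin : ∀ θ : Cfsg.IrrCharacter G, (θ : G → ℂ) 1 = 1 → θ = χ₁ := by
    intro θ h11
    apply Subtype.ext
    rw [hχ₁]
    funext g
    exact Cfsg.Agent.Lib.Helper79.linear_irr_commutator θ.2 h11
      (by rw [hperf]; exact Subgroup.mem_top g)
  have hdeg1 : ∀ i : Fin k, ((e.symm i : Cfsg.IrrCharacter G) : G → ℂ) 1 ≠ 1 := by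
    intro i h11
    exact (hmem i).2 (hlin _ h11)
  refine ⟨M, k, fun i => (e.symm i : Cfsg.IrrCharacter G),
    fun i => a (e.symm i : Cfsg.IrrCharacter G), Y, d, δ, hM, hk1, hδ, ?_, ?_, ?_, ?_, hYreg,
    ?_, ?_, ?_⟩
  · intro i j hij
    exact e.symm.injective (Subtype.ext hij)
  · intro i
    exact ⟨(hX _ (hmem i).1).1, hdeg1 i, fun hY => Set.disjoint_left.mp hdisj (hmem i).1 hY,
      (hX _ (hmem i).1).2⟩
  · rw [hYcard, hcardP]
  · intro η hη h11
    have := hlin η h11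
    rw [this] at hη
    exact (Set.disjoint_left.mp hdisj hχ₁X) hη
  · have h := hrel
    rw [hsplit (fun χ => a χ ^ 2), ha1] at h
    rw [hcardP] at h
    have hdiv : ((p : ℤ) - 1) / (m : ℤ) = (((p - 1) / m : ℕ) : ℤ) := by
      rw [Int.natCast_div, Nat.cast_sub hpp.one_lt.le, Nat.cast_one]
    rw [hdiv] at h
    linarith
  · intro η hη g hg
    have h := hfinal η hη g hg
    rw [hsplitC (fun χ => (a χ : ℂ) * (χ : G → ℂ) g), ha1, hχ₁1 g] at h
    rw [hcardP] at h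
    push_cast at h ⊢
    linear_combination h
  · intro ψ hψ
    rw [hB] at hψ
    rcases hψ with hψX | hψY
    · by_cases h1 : ψ = χ₁
      · left
        rw [h1, hχ₁1]
      · right; left
        have hψmem : ψ ∈ X \ {χ₁} := ⟨hψX, by simpa using h1⟩
        refine ⟨e ⟨ψ, hψmem⟩, ?_⟩
        show ψ = ((e.symm (e ⟨ψ, hψmem⟩) : ↥(X \ {χ₁})) : Cfsg.IrrCharacter G)
        rw [Equiv.symm_apply_apply]
    · right; right
      exact hψY

end Cfsg.Agent.Lib.Helper91.SS
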