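import Mathlib
import Cfsg.Agent.Lib.Helper91.SSFive2

set_option autoImplicit false

/-!
# A class-algebra relation for involutions normalizing no Sylow `p`-subgroup

If the Sylow `p`-subgroups have order `p`, are self-centralizing and have normalizers of odd
order, then no product of two conjugate involutions is `p`-singular.  Hence a combination of
irreducible characters vanishing on the `p`-regular elements gives a relation between the values
at an involution.
-/

namespace Cfsg.Agent.Lib.Helper91.SS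

open Cfsg

variable {G : Type*} [Group G] [Finite G]

theorem block_rel_involution (p : ℕ) [Fact p.Prime] (hp2 : p ≠ 2)
    (hQ : ∀ Q : Sylow p G, Nat.card (Q : Subgroup G) = p)
    (hC : ∀ Q : Sylow p G, Subgroup.centralizer ((Q : Subgroup G) : Set G) = (Q : Subgroup G))
    (hNodd : ∀ Q : Sylow p G,
      ¬ 2 ∣ Nat.card (Subgroup.normalizer ((Q : Subgroup G) : Set G)))
    (k : ℕ) (χ : Fin k → IrrCharacter G) (a : Fin k → ℤ) (η : IrrCharacter G) (c : ℂ)
    (hrel : ∀ g : G, ¬ p ∣ orderOf g →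
      c * (η : G → ℂ) g + 1 + ∑ i, (a i : ℂ) * (χ i : G → ℂ) g = 0)
    (s : G) (hs : orderOf s = 2) :
    c * ((η : G → ℂ) s * (η : G → ℂ) s / (η : G → ℂ) 1) + 1 +
      ∑ i, (a i : ℂ) * ((χ i : G → ℂ) s * (χ i : G → ℂ) s / (χ i : G → ℂ) 1) = 0 := by
  classical
  have : Fintype G := Fintype.ofFinite G
  obtain ⟨P⟩ := (Sylow.nonempty : Nonempty (Sylow p G))
  have hs2 : s * s = 1 := by rw [← pow_two, ← hs]; exact pow_orderOf_eq_one s
  have hs1 : s ≠ 1 := by
    intro h
    rw [h, orderOf_one] at hs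
    omega
  obtain ⟨Φ, hΦdef⟩ : ∃ Φ : G → ℂ,
      Φ = fun g => c * (η : G → ℂ) g + 1 + ∑ i, (a i : ℂ) * (χ i : G → ℂ) g := ⟨_, rfl⟩
  have hΦ : ∀ g x : G, Φ (g * x * g⁻¹) = Φ x := by
    intro g x
    rw [hΦdef]
    simp only
    rw [Cfsg.Agent.Lib.Helper80.char_conj_eq
      (Cfsg.Agent.Lib.Helper80.isCharacter_of_isIrrCharacter η.2) x g]
    congr 1
    exact Finset.sum_congr rfl (fun i _ => by
      rw [Cfsg.Agent.Lib.Helper80.char_conj_eq
        (Cfsg.Agent.Lib.Helper80.isCharacter_of_isIrrCharacter (χ i).2) x g])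
  have hΦ0 : ∀ g : G, ¬ p ∣ orderOf g → Φ g = 0 := by
    intro g hg
    rw [hΦdef]
    exact hrel g hg
  have h1 := sum_conj_involution_fixed p hp2 hQ hC P s hs1 hs2 Φ hΦ hΦ0
  have hempty : {Q : Sylow p G | s • Q = Q} = ∅ := by
    apply Set.eq_empty_of_forall_notMem
    intro Q hsQ'
    have hsQ : s • Q = Q := hsQ'
    have hsN : s ∈ Subgroup.normalizer ((Q : Subgroup G) : Set G) :=
      Sylow.smul_eq_iff_mem_normalizer.mp hsQ
    apply hNodd Q
    have := orderOf_dvd_natCard (⟨s, hsN⟩ : Subgroup.normalizer ((Q : Subgroup G) : Set G))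
    rw [Subgroup.orderOf_mk, hs] at this
    exact this
  rw [hempty, Set.ncard_empty] at h1
  simp only [Nat.cast_zero, mul_zero, zero_mul] at h1
  have hsum : ∑ g : G, Φ (g * s * g⁻¹ * s) = (Nat.card G : ℂ) *
      (c * ((η : G → ℂ) s * (η : G → ℂ) s / (η : G → ℂ) 1) + 1 +
        ∑ i, (a i : ℂ) * ((χ i : G → ℂ) s * (χ i : G → ℂ) s / (χ i : G → ℂ) 1)) := by
    rw [hΦdef]
    simp only
    rw [Finset.sum_add_distrib, Finset.sum_add_distrib, Finset.sum_comm]
    have h1 : ∀ i, ∑ g : G, (a i : ℂ) * (χ i : G → ℂ) (g * s * g⁻¹ * s) =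
        (Nat.card G : ℂ) * ((a i : ℂ) *
          ((χ i : G → ℂ) s * (χ i : G → ℂ) s / (χ i : G → ℂ) 1)) := by
      intro i
      rw [← Finset.mul_sum, Cfsg.Agent.Lib.Helper79.irr_sum_conj_mul (χ i).2 s s]
      ring
    rw [Finset.sum_congr rfl (fun i _ => h1 i), ← Finset.mul_sum, ← Finset.mul_sum,
      Cfsg.Agent.Lib.Helper79.irr_sum_conj_mul η.2 s s]
    simp only [Finset.sum_const, Finset.card_univ, nsmul_eq_mul, mul_one]
    rw [← Nat.card_eq_fintype_card]
    ring
  rw [hsum] at h1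
  have hG0 : (Nat.card G : ℂ) ≠ 0 := by exact_mod_cast Nat.card_pos.ne'
  exact (mul_eq_zero.mp h1).resolve_left hG0

end Cfsg.Agent.Lib.Helper91.SS
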