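import Mathlib
import Cfsg.Agent.Lib.Helper78.SectionNorm
import Cfsg.Agent.Lib.Helper78.SecondMainChar
import Cfsg.Agent.Lib.Helper78.HeightZero
import Cfsg.Agent.Lib.Helper80.PrimTwo
import Cfsg.Agent.Lib.Helper91.SSFive

set_option autoImplicit false

/-!
# Vanishing of irreducible characters outside the principal block

* `vanish_off_principal`: if the centralizer of `x` has prime order `p`, every irreducible
  character outside the principal `p`-block vanishes at `x`;
* `dvd_charDegree_of_vanish`: a character vanishing on the nontrivial elements of a subgroup of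
  order `p` has degree divisible by `p`;
* `eq_zero_of_sum_sq_eq`: if distinct nonlinear irreducible characters with integer values at
  `s` exhaust the column sum `|C(s)|`, every other irreducible character vanishes at `s`.
-/

namespace Cfsg.Agent.Lib.Helper91.SS

open Cfsg Cfsg.Agent.Lib.Helper16 Cfsg.Agent.Lib.Helper77 Cfsg.Agent.Lib.Helper78

/-- every irreducible character of a commutative `p`-group lies in the principal block -/
theorem mem_principalBlock_of_comm {H : Type*} [Group H] [Finite H] (p : ℕ) [Fact p.Prime]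
    (M : Ideal Cfsg.AlgInt) (hM : Cfsg.IsPModular p M)
    (hcomm : ∀ a b : H, a * b = b * a) (hp : ∀ g : H, ∃ k : ℕ, orderOf g = p ^ k)
    (ξ : IrrCharacter H) : ξ ∈ Cfsg.principalBlock M H := by
  classical
  let _ : Fintype H := Fintype.ofFinite H
  have h1 := Cfsg.Agent.Lib.Helper80.irr_one_eq_one_of_comm hcomm ξ
  intro g
  have hcen : Subgroup.centralizer ({g} : Set H) = ⊤ := by
    rw [eq_top_iff]
    intro c _
    rw [Subgroup.mem_centralizer_iff]
    intro w hw
    rw [Set.mem_singleton_iff] at hw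
    subst hw
    exact hcomm _ _
  obtain ⟨n, ρ, -, hρ⟩ := ξ.2
  obtain ⟨k, hk⟩ := hp g
  have h2 := character_mul_sub_mem hM ρ g 1 (Commute.one_right g) k hk
    (by rw [orderOf_one]; exact (Fact.out : p.Prime).one_lt.ne' ∘ Nat.dvd_one.mp)
  have h3 : Cfsg.centralChar (fun _ : H => (1 : ℂ)) g - Cfsg.centralChar (ξ : H → ℂ) g =
      -((ξ : H → ℂ) (g * 1) - (ξ : H → ℂ) 1) := by
    unfold Cfsg.centralChar
    rw [hcen, Subgroup.index_top, h1, mul_one]
    simp
  rw [h3]
  apply memLocalIdeal_neg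
  rw [← hρ]
  exact h2

variable {G : Type*} [Group G] [Finite G]

/-- If the centralizer of `x` has prime order `p`, every irreducible character outside the
principal `p`-block vanishes at `x`. -/
theorem vanish_off_principal (p : ℕ) [Fact p.Prime] (M : Ideal Cfsg.AlgInt)
    (hM : Cfsg.IsPModular p M) (x : G) (hx : orderOf x = p)
    (hC : Nat.card (Subgroup.centralizer ({x} : Set G)) = p)
    (ζ : IrrCharacter G) (hζ : ζ ∉ Cfsg.principalBlock M G) : (ζ : G → ℂ) x = 0 := by
  classical
  have hpp : p.Prime := Fact.out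
  have hPr := isPrime_of_isPModular hM
  have hcyc : IsCyclic (Subgroup.centralizer ({x} : Set G)) := isCyclic_of_prime_card hC
  have hcomm : ∀ a b : Subgroup.centralizer ({x} : Set G), a * b = b * a := fun a b =>
    (IsCyclic.commGroup (α := Subgroup.centralizer ({x} : Set G))).mul_comm a b
  have hpg : ∀ g : Subgroup.centralizer ({x} : Set G), ∃ k : ℕ, orderOf g = p ^ k := by
    intro g
    have h1 : orderOf g ∣ p := by rw [← hC]; exact orderOf_dvd_natCard g
    rcases (Nat.dvd_prime hpp).mp h1 with h | h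
    · exact ⟨0, by rw [h, pow_zero]⟩
    · exact ⟨1, by rw [h, pow_one]⟩
  have hxz : ∃ k : ℕ, orderOf x = p ^ k := ⟨1, by rw [hx, pow_one]⟩
  obtain ⟨φ, hφ⟩ : ∃ φ : Subgroup.centralizer ({x} : Set G) → ℂ,
      φ = fun c : Subgroup.centralizer ({x} : Set G) => (ζ : G → ℂ) (x * (c : G)) := ⟨_, rfl⟩
  have hφcl : Cfsg.IsClassFunction (Subgroup.centralizer ({x} : Set G)) φ := by
    intro g h
    rw [hφ]
    show (ζ : G → ℂ) (x * ((h * g * h⁻¹ : Subgroup.centralizer ({x} : Set G)) : G)) =
      (ζ : G → ℂ) (x * (g : G))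
    have hh : x * (h : G) = (h : G) * x := by
      have := h.2
      rw [Subgroup.mem_centralizer_iff] at this
      exact this x rfl
    have e : x * ((h * g * h⁻¹ : Subgroup.centralizer ({x} : Set G)) : G) =
        (h : G) * (x * (g : G)) * (h : G)⁻¹ := by
      push_cast
      calc x * ((h : G) * (g : G) * (h : G)⁻¹) = (x * (h : G)) * (g : G) * (h : G)⁻¹ := by group
        _ = ((h : G) * x) * (g : G) * (h : G)⁻¹ := by rw [hh]
        _ = (h : G) * (x * (g : G)) * (h : G)⁻¹ := by group
    rw [e]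
    exact irrCharacter_conj_eq ζ _ _
  have h0 := eq_zero_of_blockPart_eq_zero hPr φ hφcl 1 (by
    intro b hb
    obtain ⟨ξ, rfl⟩ := hb
    have hξ := mem_principalBlock_of_comm p M hM hcomm hpg ξ
    have hb' : Cfsg.blockOf M (ξ : Subgroup.centralizer ({x} : Set G) → ℂ) =
        Cfsg.principalBlock M (Subgroup.centralizer ({x} : Set G)) :=
      (IsPBlock.eq_blockOf hPr (isPBlock_principalBlock M) hξ).symm
    rw [hb', hφ]
    exact blockPart_principal_eq_zero p M hM x hxz ζ hζ 1
      (by rw [orderOf_one]; exact hpp.one_lt.ne' ∘ Nat.dvd_one.mp))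
  rw [hφ] at h0
  simpa using h0

/-- A character vanishing on the nontrivial elements of a subgroup of order `p` has degree
divisible by `p`. -/
theorem dvd_charDegree_of_vanish (p : ℕ) (P : Subgroup G) (hP : Nat.card P = p)
    (ψ : IrrCharacter G) (h : ∀ y ∈ P, y ≠ 1 → (ψ : G → ℂ) y = 0) :
    p ∣ Cfsg.charDegree (ψ : G → ℂ) := by
  classical
  let _ : Fintype P := Fintype.ofFinite _
  obtain ⟨nP, hnP⟩ := Cfsg.Agent.Lib.Helper79.irr_sum_subgroup ψ.2 P
  rw [hP] at hnP
  have h1 := (Cfsg.Agent.Lib.Helper79.irr_charDegree ψ.2).1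
  have hsum : ∑ w : P, (ψ : G → ℂ) (w : G) = (ψ : G → ℂ) 1 := by
    rw [← Finset.add_sum_erase Finset.univ _ (Finset.mem_univ (1 : P))]
    have : ∑ w ∈ (Finset.univ : Finset P).erase 1, (ψ : G → ℂ) (w : G) = 0 := by
      apply Finset.sum_eq_zero
      intro w hw
      exact h (w : G) w.2 (fun hw1 => (Finset.ne_of_mem_erase hw) (Subtype.ext hw1))
    rw [this, add_zero]
    rfl
  rw [hsum, h1] at hnP
  have h2 : Cfsg.charDegree (ψ : G → ℂ) = p * nP := by exact_mod_cast hnP
  exact Dvd.intro _ h2.symm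

/-- **Column orthogonality, equality case**: if distinct nonlinear irreducible characters
`χ i` with integer values `c i` at `s` satisfy `1 + ∑ c i ^ 2 = |C(s)|`, every other nonlinear
irreducible character vanishes at `s`. -/
theorem eq_zero_of_sum_sq_eq (k : ℕ) (χ : Fin k → IrrCharacter G)
    (hinj : Function.Injective χ) (hdeg : ∀ i, (χ i : G → ℂ) 1 ≠ 1) (s : G) (c : Fin k → ℤ)
    (hc : ∀ i, (χ i : G → ℂ) s = (c i : ℂ))
    (hsum : 1 + ∑ i, c i ^ 2 = (Nat.card (Subgroup.centralizer ({s} : Set G)) : ℤ))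
    (ψ : IrrCharacter G) (hψ1 : (ψ : G → ℂ) 1 ≠ 1) (hψ : ∀ i, ψ ≠ χ i) :
    (ψ : G → ℂ) s = 0 := by
  classical
  by_contra hne
  have hpos : 0 < Complex.normSq ((ψ : G → ℂ) s) := Complex.normSq_pos.mpr hne
  have : Fintype G := Fintype.ofFinite G
  have : Finite (IrrCharacter G) := Cfsg.Agent.Lib.Helper81.irr_finite G
  have : Fintype (IrrCharacter G) := Fintype.ofFinite _
  have hcol := Cfsg.Agent.Lib.Helper81.irr_col_orth s s
  have hcard : Nat.card {y : G // y * s * y⁻¹ = s} =
      Nat.card (Subgroup.centralizer ({s} : Set G)) := by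
    apply Nat.card_congr
    refine Equiv.subtypeEquivRight (fun y => ?_)
    rw [Subgroup.mem_centralizer_iff]
    simp only [Set.mem_singleton_iff, forall_eq]
    constructor
    · intro h
      calc s * y = (y * s * y⁻¹) * y := by rw [h]
        _ = y * s := by group
    · intro h
      calc y * s * y⁻¹ = (s * y) * y⁻¹ := by rw [h]
        _ = s := by group
  rw [hcard] at hcol
  have hre : ∀ θ : IrrCharacter G, θ.1 s * starRingEnd ℂ (θ.1 s) =
      ((Complex.normSq (θ.1 s) : ℝ) : ℂ) := fun θ => Complex.mul_conj _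
  rw [Finset.sum_congr rfl (fun θ _ => hre θ), ← Complex.ofReal_sum] at hcol
  have hcolR : ∑ θ : IrrCharacter G, Complex.normSq (θ.1 s) =
      (Nat.card (Subgroup.centralizer ({s} : Set G)) : ℝ) := by exact_mod_cast hcol
  obtain ⟨χ₁, hχ₁⟩ : ∃ χ₁ : IrrCharacter G, χ₁ = Cfsg.Agent.Lib.Helper77.trivIrr G := ⟨_, rfl⟩
  have hχ₁1 : ∀ g, (χ₁ : G → ℂ) g = 1 := by
    intro g
    rw [hχ₁]
    rfl
  set T : Finset (IrrCharacter G) := insert χ₁ (Finset.univ.image χ) with hT
  have hnot : χ₁ ∉ Finset.univ.image χ := by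
    intro h
    obtain ⟨i, -, hi⟩ := Finset.mem_image.mp h
    apply hdeg i
    rw [hi, hχ₁1]
  have hψT : ψ ∉ T := by
    rw [hT, Finset.mem_insert]
    rintro (h | h)
    · apply hψ1
      rw [h, hχ₁1]
    · obtain ⟨i, -, hi⟩ := Finset.mem_image.mp h
      exact hψ i hi.symm
  have hle : ∑ θ ∈ insert ψ T, Complex.normSq (θ.1 s) ≤
      ∑ θ : IrrCharacter G, Complex.normSq (θ.1 s) :=
    Finset.sum_le_sum_of_subset_of_nonneg (Finset.subset_univ _)
      (fun θ _ _ => Complex.normSq_nonneg _)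
  rw [Finset.sum_insert hψT, hT, Finset.sum_insert hnot,
    Finset.sum_image (fun i _ j _ h => hinj h), hcolR] at hle
  have h1 : Complex.normSq ((χ₁ : G → ℂ) s) = 1 := by
    rw [hχ₁1]
    simp
  have h2 : ∀ i, Complex.normSq ((χ i : G → ℂ) s) = ((c i ^ 2 : ℤ) : ℝ) := by
    intro i
    rw [hc i, Complex.normSq_intCast]
    push_cast
    ring
  have hχ₁s : Complex.normSq (χ₁.1 s) = 1 := h1
  rw [hχ₁s, Finset.sum_congr rfl (fun i _ => h2 i), ← Int.cast_sum] at hle
  have hsumR : (1 : ℝ) + ((∑ i, c i ^ 2 : ℤ) : ℝ) =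
      (Nat.card (Subgroup.centralizer ({s} : Set G)) : ℝ) := by exact_mod_cast hsum
  have hψs : Complex.normSq (ψ.1 s) = Complex.normSq ((ψ : G → ℂ) s) := rfl
  rw [hψs] at hle
  linarith

end Cfsg.Agent.Lib.Helper91.SS
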