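import Mathlib
import Cfsg.Agent.Lib.Helper91.M11Sylow
import Cfsg.Agent.Lib.Helper91.SSFull
import Cfsg.Agent.Lib.Helper91.SSVanish
import Cfsg.Agent.Lib.Helper91.SSRel

set_option autoImplicit false

/-!
# The principal `11`-block of a simple group of order `7920`

The principal `11`-block consists of the trivial character, four non-exceptional characters and
two exceptional characters; the degrees are `1, 45, 10, 10, 10, 16, 16` or
`1, 10, 10, 12, 12, 5, 5`, and every other irreducible character has degree divisible by `11`.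
-/

namespace Cfsg.Agent.Lib.Helper91.M11

open Cfsg Cfsg.Agent.Lib.Helper17 Cfsg.Agent.Lib.Helper91.SS

variable {G : Type*} [Group G] [Finite G]

/-- the value of an irreducible character at an involution -/
theorem involution_int [IsSimpleGroup G] (hGn : ¬ (Nat.card G).Prime) (ψ : IrrCharacter G)
    (t : G) (ht : orderOf t = 2) :
    ∃ k : ℕ, 2 * k ≤ Cfsg.charDegree (ψ : G → ℂ) ∧
      (ψ : G → ℂ) t = (((Cfsg.charDegree (ψ : G → ℂ) : ℤ) - 4 * (k : ℤ) : ℤ) : ℂ) := by
  have hirr := ψ.2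
  have hchar := Cfsg.Agent.Lib.Helper80.isCharacter_of_isIrrCharacter hirr
  obtain ⟨hxd, -, -⟩ := Cfsg.Agent.Lib.Helper79.irr_charDegree hirr
  have htt : t * t = 1 := by rw [← pow_two, ← ht]; exact pow_orderOf_eq_one t
  obtain ⟨k4, hk4⟩ := mod_four hGn hchar t htt
  rw [hxd] at hk4
  obtain ⟨f, hf⟩ : ∃ f, f = Cfsg.charDegree (ψ : G → ℂ) := ⟨_, rfl⟩
  rw [← hf] at hk4 ⊢
  have hχc : (ψ : G → ℂ) t = (f : ℂ) - 4 * (k4 : ℂ) := by linear_combination hk4
  have hb := Cfsg.Agent.Lib.Helper80.norm_char_le_charDegree hchar t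
  rw [hχc, ← hf] at hb
  have h1 : (f : ℂ) - 4 * (k4 : ℂ) = (((f : ℤ) - 4 * (k4 : ℤ) : ℤ) : ℂ) := by
    push_cast
    ring
  rw [h1, Complex.norm_intCast] at hb
  have h2 : |((f : ℤ) - 4 * (k4 : ℤ) : ℤ)| ≤ (f : ℤ) := by exact_mod_cast hb
  have h3 := abs_le.mp h2
  refine ⟨k4, by omega, ?_⟩
  rw [hχc, h1]

/-- a nonzero integer has square `1` or at least `4` -/
theorem sq_one_or_ge (b : ℤ) (hb : b ≠ 0) : b ^ 2 = 1 ∨ 4 ≤ b ^ 2 := by
  rcases lt_trichotomy b 0 with h | h | h
  · by_cases h1 : b = -1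
    · left; rw [h1]; norm_num
    · right
      have h2 : b ≤ -2 := by omega
      nlinarith
  · exact absurd h hb
  · by_cases h1 : b = 1
    · left; rw [h1]; norm_num
    · right
      have h2 : 2 ≤ b := by omega
      nlinarith

set_option maxHeartbeats 3200000 in
/-- The principal `11`-block of a simple group of order `7920`. -/
theorem block11 [IsSimpleGroup G] (hG : Nat.card G = 7920) :
    ∃ (χ : Fin 4 → IrrCharacter G) (a : Fin 4 → ℤ) (Y : Set (IrrCharacter G)) (y : ℕ),
      Function.Injective χ ∧ Nat.card Y = 2 ∧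
      (∀ i, (χ i : G → ℂ) 1 ≠ 1 ∧ χ i ∉ Y ∧
        a i = sgnEleven (Cfsg.charDegree (χ i : G → ℂ))) ∧
      (∀ η ∈ Y, (η : G → ℂ) 1 ≠ 1 ∧ Cfsg.charDegree (η : G → ℂ) = y) ∧
      (∀ η ∈ Y, ∀ g : G, ¬ 11 ∣ orderOf g →
          (-1 : ℂ) * (η : G → ℂ) g + 1 + ∑ i, (a i : ℂ) * (χ i : G → ℂ) g = 0) ∧
      (∀ ψ : IrrCharacter G, (ψ : G → ℂ) 1 = 1 ∨ (∃ i, ψ = χ i) ∨ ψ ∈ Y ∨
          11 ∣ Cfsg.charDegree (ψ : G → ℂ)) ∧
      ((y = 16 ∧ Cfsg.charDegree (χ 0 : G → ℂ) = 45 ∧
          ∀ j, j ≠ 0 → Cfsg.charDegree (χ j : G → ℂ) = 10) ∨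
        (y = 5 ∧ ∀ i, Cfsg.charDegree (χ i : G → ℂ) = 10 ∨
          Cfsg.charDegree (χ i : G → ℂ) = 12)) := by
  classical
  have : Fact (Nat.Prime 11) := ⟨by norm_num⟩
  have hpp : Nat.Prime 11 := by norm_num
  have hGn : ¬ (Nat.card G).Prime := by rw [hG]; norm_num
  obtain ⟨P⟩ := (Sylow.nonempty : Nonempty (Sylow 11 G))
  obtain ⟨hP, hN, hCP, hm⟩ := sylow11 hG P
  obtain ⟨M, k, χ, a, Y, d, δ, hM, hk, hδ, hinj, hχ, hYcard, hY1, hYreg, hnorm, hrel, hblock⟩ :=
    brauer_full hGn 11 P hP 5 (by norm_num) hm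
  have h2 : ((11 - 1) / 5 : ℕ) = 2 := by norm_num
  rw [h2] at hYcard hnorm hrel
  push_cast at hnorm hrel
  have hreg1 : ¬ 11 ∣ orderOf (1 : G) := by rw [orderOf_one]; norm_num
  -- an element of Y
  have hYne : Nat.card Y ≠ 0 := by rw [hYcard]; norm_num
  obtain ⟨⟨η₀, hη₀⟩⟩ := (Nat.card_ne_zero.mp hYne).1
  obtain ⟨hyd, hypos, hydvd⟩ := Cfsg.Agent.Lib.Helper79.irr_charDegree η₀.2
  obtain ⟨y, hydef⟩ : ∃ y, y = Cfsg.charDegree (η₀ : G → ℂ) := ⟨_, rfl⟩
  rw [← hydef] at hyd hypos hydvd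
  rw [hG] at hydvd
  have hYdeg : ∀ η ∈ Y, Cfsg.charDegree (η : G → ℂ) = y := by
    intro η hη
    have h1 := hYreg η hη η₀ hη₀ 1 hreg1
    rw [hydef]
    unfold Cfsg.charDegree
    rw [h1]
  -- a nonidentity element of P
  obtain ⟨y₀, hy₀P, hy₀1⟩ : ∃ y₀ : G, y₀ ∈ (P : Subgroup G) ∧ y₀ ≠ 1 := by
    have hne : (P : Subgroup G) ≠ ⊥ := by
      intro h
      have h1 : Nat.card (P : Subgroup G) = 1 := by rw [h]; exact Subgroup.card_bot
      rw [hP] at h1
      omega
    obtain ⟨w, hw⟩ := Subgroup.ne_bot_iff_exists_ne_one.mp hne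
    exact ⟨(w : G), w.2, fun h => hw (Subtype.ext h)⟩
  -- the degrees of the χ i
  obtain ⟨x, hxdef⟩ : ∃ x : Fin k → ℕ, x = fun i => Cfsg.charDegree (χ i : G → ℂ) := ⟨_, rfl⟩
  have hxi : ∀ i, Cfsg.charDegree (χ i : G → ℂ) = x i := fun i => by rw [hxdef]
  have hdeg : ∀ i, (χ i : G → ℂ) 1 = (x i : ℂ) ∧ x i ∣ 7920 ∧ x i ≠ 1 ∧ x i ^ 2 ≤ 7920 ∧
      (x i : ℤ) % 11 = a i % 11 := by
    intro i
    obtain ⟨ha, hx1, -, hxa⟩ := hχ i
    have hirr := (χ i).2
    obtain ⟨hxd, hxpos, hxdvd⟩ := Cfsg.Agent.Lib.Helper79.irr_charDegree hirr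
    have hmod := Cfsg.Agent.Lib.Helper90.BrauerDeg.degree_modEq hirr 11 (P : Subgroup G) hP (a i)
        (fun y hy hy1 => hxa y y (isPPart_self (by norm_num) _ hP y hy hy1) hy hy1)
    have hmod' : ((Cfsg.charDegree (χ i : G → ℂ) : ℕ) : ℤ) % 11 = a i % 11 := by
      have := hmod
      unfold Int.ModEq at this
      exact_mod_cast this
    rw [hxi i] at hxd hxdvd hmod'
    rw [hG] at hxdvd
    refine ⟨hxd, hxdvd, ?_, ?_, hmod'⟩
    · intro h
      apply hx1
      rw [hxd, h]
      norm_num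
    · have := Cfsg.Agent.Lib.Helper80.charDegree_sq_le_card hirr
      rw [hG, hxi i] at this
      exact this
  -- the relation at 1
  have hrel1 : (2 * d - δ) * (y : ℤ) + 1 + ∑ i, a i * (x i : ℤ) = 0 := by
    have h0 := hrel η₀ hη₀ 1 hreg1
    have h : (((2 * d - δ) * (y : ℤ) + 1 + ∑ i, a i * (x i : ℤ) : ℤ) : ℂ) = 0 := by
      push_cast
      rw [← h0, hyd]
      congr 1
      exact Finset.sum_congr rfl (fun i _ => by rw [(hdeg i).1])
    exact_mod_cast h
  have hsq4 : ∀ i, a i ^ 2 = 1 ∨ 4 ≤ a i ^ 2 := fun i => sq_one_or_ge (a i) (hχ i).1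
  have hkA : (k : ℤ) ≤ ∑ i, a i ^ 2 := by
    have h1 : ∑ _i : Fin k, (1 : ℤ) ≤ ∑ i, a i ^ 2 :=
      Finset.sum_le_sum (fun i _ => by rcases hsq4 i with h | h <;> omega)
    rw [Finset.sum_const, Finset.card_univ, Fintype.card_fin, nsmul_eq_mul, mul_one] at h1
    exact h1
  obtain ⟨A, hA⟩ : ∃ A, A = ∑ i, a i ^ 2 := ⟨_, rfl⟩
  rw [← hA] at hnorm hkA
  have hd : -2 ≤ d ∧ d ≤ 2 := by
    have hA0 : 0 ≤ A := le_trans (Int.natCast_nonneg k) hkA
    constructor <;> rcases hδ with rfl | rfl <;>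
      nlinarith [sq_nonneg (d - 1), sq_nonneg (d + 1)]
  have hcases : (A = 0 ∧ (2 * d - δ = 3 ∨ 2 * d - δ = -3)) ∨
      (A = 4 ∧ (2 * d - δ = 1 ∨ 2 * d - δ = -1)) := by
    obtain ⟨hd1, hd2⟩ := hd
    have hA0 : 0 ≤ A := le_trans (Int.natCast_nonneg k) hkA
    rcases hδ with rfl | rfl <;> interval_cases d <;> norm_num at hnorm ⊢ <;> omega
  rcases hcases with ⟨hA0, hc⟩ | ⟨hA4, hc⟩
  · exfalso
    have hk0 : k = 0 := by omega
    subst hk0
    simp only [Finset.univ_eq_empty, Finset.sum_empty, add_zero] at hrel1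
    rcases hc with h | h <;> rw [h] at hrel1 <;> omega
  · rw [hA] at hA4
    have hk' : k = 0 ∨ k = 1 ∨ k = 2 ∨ k = 3 ∨ k = 4 := by omega
    rcases hk' with rfl | rfl | rfl | rfl | rfl
    · exfalso
      simp at hA4
    · -- one character with value ±2
      exfalso
      simp only [Fin.sum_univ_succ, Fin.sum_univ_zero, add_zero] at hA4 hrel1
      obtain ⟨hx1c, hxdvd, hx1, -, hmod⟩ := hdeg 0
      have ha : a 0 = 2 ∨ a 0 = -2 := by
        have h1 : (a 0 - 2) * (a 0 + 2) = 0 := by nlinarith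
        rcases mul_eq_zero.mp h1 with h | h
        · left; omega
        · right; omega
      have harith := arith_a2 (x 0) y hxdvd hydvd hx1
      rcases hc with h | h <;> rcases ha with h' | h' <;> rw [h, h'] at hrel1 <;>
        rw [h'] at hmod
      · omega
      · exact harith.2 ⟨by omega, by omega⟩
      · have hx2 := harith.1 ⟨by omega, by omega⟩
        have hval := (hχ 0).2.2.2 y₀ y₀ (isPPart_self hpp _ hP y₀ hy₀P hy₀1) hy₀P hy₀1
        apply hy₀1
        apply eq_one_of_char_eq (χ 0) (hχ 0).2.1 y₀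
        rw [hval, hx1c, h', hx2]
        norm_num
      · omega
    · exfalso
      simp only [Fin.sum_univ_two] at hA4
      have h0 := hsq4 0
      have h1 := hsq4 1
      omega
    · exfalso
      simp only [Fin.sum_univ_three] at hA4
      have h0 := hsq4 0
      have h1 := hsq4 1
      have h2 := hsq4 2
      omega
    · -- four characters with values ±1
      simp only [Fin.sum_univ_four] at hA4 hrel1
      have ha : ∀ i, a i = 1 ∨ a i = -1 := by
        intro i
        have h0 := hsq4 0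
        have h1 := hsq4 1
        have h2 := hsq4 2
        have h3 := hsq4 3
        have hi : a i ^ 2 = 1 := by
          fin_cases i <;> simp only [Fin.zero_eta, Fin.mk_one, Fin.reduceFinMk] <;> omega
        have h1 : (a i - 1) * (a i + 1) = 0 := by nlinarith
        rcases mul_eq_zero.mp h1 with h | h
        · left; omega
        · right; omega
      have hxL : ∀ i, x i ∈ [10, 12, 45] := by
        intro i
        obtain ⟨-, hxdvd, hx1, hxsq, hmod⟩ := hdeg i
        apply list11 (x i) hxdvd hx1 hxsq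
        rcases ha i with h | h <;> rw [h] at hmod <;> omega
      have hsg : ∀ i, a i = sgnEleven (x i) := by
        intro i
        have h1 := hxL i
        have h2 := (hdeg i).2.2.2.2
        unfold sgnEleven
        simp only [List.mem_cons, List.not_mem_nil, or_false] at h1
        rcases ha i with h | h <;> rw [h] at h2 ⊢ <;> split_ifs with h3 <;> omega
      rw [hsg 0, hsg 1, hsg 2, hsg 3] at hrel1
      have hS : sumEleven (x 0) (x 1) (x 2) (x 3) = -((2 * d - δ) * (y : ℤ)) := by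
        unfold sumEleven
        linarith
      have hnat : (sumEleven (x 0) (x 1) (x 2) (x 3)).natAbs = y := by
        rw [hS]
        rcases hc with h | h <;> rw [h] <;> simp
      -- the sum of the squares of the degrees
      have hsqsum : 1 + (x 0 ^ 2 + x 1 ^ 2 + x 2 ^ 2 + x 3 ^ 2) + 2 * y ^ 2 ≤ 7920 := by
        obtain ⟨η₁, η₂, hne, hYeq⟩ := Set.ncard_eq_two.mp
          (by rw [← Nat.card_coe_set_eq]; exact hYcard)
        have hη₁ : η₁ ∈ Y := by rw [hYeq]; simp
        have hη₂ : η₂ ∈ Y := by rw [hYeq]; simp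
        have : Fintype G := Fintype.ofFinite G
        have : Finite (IrrCharacter G) := Cfsg.Agent.Lib.Helper81.irr_finite G
        have : Fintype (IrrCharacter G) := Fintype.ofFinite _
        have hsum := Cfsg.Agent.Lib.Helper80.sum_charDegree_sq (G := G)
        rw [hG] at hsum
        obtain ⟨χ₁, hχ₁⟩ : ∃ χ₁ : IrrCharacter G, χ₁ = Cfsg.Agent.Lib.Helper77.trivIrr G :=
          ⟨_, rfl⟩
        have hχ₁1 : (χ₁ : G → ℂ) 1 = 1 := by rw [hχ₁]; rfl
        have hχ₁d : Cfsg.charDegree (χ₁ : G → ℂ) = 1 := by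
          unfold Cfsg.charDegree
          rw [hχ₁1]
          simp
        have hn3 : η₂ ∉ Finset.univ.image χ := by
          intro h
          obtain ⟨i, -, hi⟩ := Finset.mem_image.mp h
          exact (hχ i).2.2.1 (hi ▸ hη₂)
        have hn2 : η₁ ∉ insert η₂ (Finset.univ.image χ) := by
          intro h
          rcases Finset.mem_insert.mp h with h | h
          · exact hne h
          · obtain ⟨i, -, hi⟩ := Finset.mem_image.mp h
            exact (hχ i).2.2.1 (hi ▸ hη₁)
        have hn1 : χ₁ ∉ insert η₁ (insert η₂ (Finset.univ.image χ)) := by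
          intro h
          rcases Finset.mem_insert.mp h with h | h
          · exact hY1 η₁ hη₁ (h ▸ hχ₁1)
          · rcases Finset.mem_insert.mp h with h | h
            · exact hY1 η₂ hη₂ (h ▸ hχ₁1)
            · obtain ⟨i, -, hi⟩ := Finset.mem_image.mp h
              exact (hχ i).2.1 (hi ▸ hχ₁1)
        have hle : ∑ θ ∈ insert χ₁ (insert η₁ (insert η₂ (Finset.univ.image χ))),
            Cfsg.charDegree (θ : G → ℂ) ^ 2 ≤
            ∑ θ : IrrCharacter G, Cfsg.charDegree (θ : G → ℂ) ^ 2 :=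
          Finset.sum_le_sum_of_subset (Finset.subset_univ _)
        rw [Finset.sum_insert hn1, Finset.sum_insert hn2, Finset.sum_insert hn3,
          Finset.sum_image (fun i _ j _ h => hinj h), hsum, hχ₁d, hYdeg η₁ hη₁, hYdeg η₂ hη₂,
          Fin.sum_univ_four, hxi 0, hxi 1, hxi 2, hxi 3] at hle
        omega
      have hkey := key_eleven (x 0) (hxL 0) (x 1) (hxL 1) (x 2) (hxL 2) (x 3) (hxL 3)
      unfold chkEleven at hkey
      rw [hnat] at hkey
      have hconc := hkey hydvd hsqsum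
      unfold concEleven at hconc
      -- the coefficient is -1
      have hcy : 2 * d - δ = -1 ∧ ((y : ℤ) = sumEleven (x 0) (x 1) (x 2) (x 3)) := by
        rcases hconc with ⟨h16, -⟩ | ⟨h16, -⟩ <;> rw [hS] at h16 <;> rcases hc with h | h <;>
          rw [h] at h16 hS ⊢ <;> constructor <;> omega
      obtain ⟨hcm, hyS⟩ := hcy
      have hcC : (2 * (d : ℂ) - (δ : ℂ)) = -1 := by exact_mod_cast hcm
      -- every irreducible character outside the block has degree divisible by 11
      have hall : ∀ ψ : IrrCharacter G, (ψ : G → ℂ) 1 = 1 ∨ (∃ i, ψ = χ i) ∨ ψ ∈ Y ∨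
          11 ∣ Cfsg.charDegree (ψ : G → ℂ) := by
        intro ψ
        by_cases hψ : ψ ∈ Cfsg.principalBlock M G
        · rcases hblock ψ hψ with h | h | h
          · exact Or.inl h
          · exact Or.inr (Or.inl h)
          · exact Or.inr (Or.inr (Or.inl h))
        · right; right; right
          apply dvd_charDegree_of_vanish 11 (P : Subgroup G) hP ψ
          intro w hw hw1
          apply vanish_off_principal 11 M hM w
            (orderOf_eq_of_mem_of_card_prime hpp (P : Subgroup G) hP w hw hw1) _ ψ hψ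
          rw [centralizer_singleton_eq hpp (P : Subgroup G) hP w hw hw1, hCP, hP]
      -- reindexing
      obtain ⟨σ, hσ⟩ : ∃ σ : Equiv.Perm (Fin 4),
          (y = 16 ∧ x (σ 0) = 45 ∧ ∀ j, j ≠ 0 → x (σ j) = 10) ∨
          (y = 5 ∧ ∀ i, x (σ i) = 10 ∨ x (σ i) = 12) := by
        rcases hconc with ⟨h16, harr⟩ | ⟨h5, h0, h1, h2, h3⟩
        · have hy16 : y = 16 := by omega
          have hi : ∃ i₀ : Fin 4, x i₀ = 45 ∧ ∀ j, j ≠ i₀ → x j = 10 := by
            rcases harr with ⟨e0, e1, e2, e3⟩ | ⟨e0, e1, e2, e3⟩ | ⟨e0, e1, e2, e3⟩ |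
              ⟨e0, e1, e2, e3⟩
            · exact ⟨0, e0, fun j hj => by fin_cases j <;> first | exact absurd rfl hj | assumption⟩
            · exact ⟨1, e1, fun j hj => by fin_cases j <;> first | exact absurd rfl hj | assumption⟩
            · exact ⟨2, e2, fun j hj => by fin_cases j <;> first | exact absurd rfl hj | assumption⟩
            · exact ⟨3, e3, fun j hj => by fin_cases j <;> first | exact absurd rfl hj | assumption⟩
          obtain ⟨i₀, hi₀, hrest⟩ := hi
          refine ⟨Equiv.swap 0 i₀, Or.inl ⟨hy16, ?_, ?_⟩⟩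
          · rw [Equiv.swap_apply_left]
            exact hi₀
          · intro j hj
            apply hrest
            intro h
            apply hj
            have h' : Equiv.swap 0 i₀ j = Equiv.swap 0 i₀ 0 := by
              rw [h, Equiv.swap_apply_left]
            exact (Equiv.swap 0 i₀).injective h'
        · have hy5 : y = 5 := by omega
          refine ⟨Equiv.refl _, Or.inr ⟨hy5, ?_⟩⟩
          intro i
          fin_cases i <;> assumption
      refine ⟨fun i => χ (σ i), fun i => a (σ i), Y, y, hinj.comp σ.injective, hYcard, ?_, ?_,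
        ?_, ?_, ?_⟩
      · intro i
        refine ⟨(hχ (σ i)).2.1, (hχ (σ i)).2.2.1, ?_⟩
        show a (σ i) = sgnEleven (Cfsg.charDegree (χ (σ i) : G → ℂ))
        rw [hxi, hsg]
      · intro η hη
        exact ⟨hY1 η hη, hYdeg η hη⟩
      · intro η hη g hg
        have h := hrel η hη g hg
        rw [hcC] at h
        rw [Equiv.sum_comp σ (fun i => (a i : ℂ) * (χ i : G → ℂ) g)]
        exact h
      · intro ψ
        rcases hall ψ with h | ⟨i, hi⟩ | h | h
        · exact Or.inl h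
        · refine Or.inr (Or.inl ⟨σ.symm i, ?_⟩)
          show ψ = χ (σ (σ.symm i))
          rw [Equiv.apply_symm_apply]
          exact hi
        · exact Or.inr (Or.inr (Or.inl h))
        · exact Or.inr (Or.inr (Or.inr h))
      · rcases hσ with ⟨h16, h45, h10⟩ | ⟨h5, h1012⟩
        · left
          exact ⟨h16, by rw [hxi]; exact h45, fun j hj => by rw [hxi]; exact h10 j hj⟩
        · right
          exact ⟨h5, fun i => by rw [hxi]; exact h1012 i⟩

end Cfsg.Agent.Lib.Helper91.M11
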