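import Mathlib
import Cfsg.Agent.Lib.Helper91.M11Block

set_option autoImplicit false

/-!
# Simple groups of order `7920`: involutions centralizing a Sylow `5`-subgroup

The class-algebra relation of `SSRel` for the principal `11`-block excludes the two
configurations in which an involution has prescribed values on the principal `11`-block.
-/

namespace Cfsg.Agent.Lib.Helper91.M11

open Cfsg Cfsg.Agent.Lib.Helper17 Cfsg.Agent.Lib.Helper91.SS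

variable {G : Type*} [Group G] [Finite G]

set_option maxHeartbeats 1600000 in
/-- First configuration (degrees `45, 10, 10, 10, 16`): no involution takes the value `-4` on
an exceptional character. -/
theorem relA [IsSimpleGroup G] (hG : Nat.card G = 7920) (χ : Fin 4 → IrrCharacter G)
    (a : Fin 4 → ℤ) (η : IrrCharacter G)
    (ha : ∀ i, a i = sgnEleven (Cfsg.charDegree (χ i : G → ℂ)))
    (h45 : Cfsg.charDegree (χ 0 : G → ℂ) = 45)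
    (h10 : ∀ j, j ≠ 0 → Cfsg.charDegree (χ j : G → ℂ) = 10)
    (hη : Cfsg.charDegree (η : G → ℂ) = 16)
    (hrel : ∀ g : G, ¬ 11 ∣ orderOf g →
      (-1 : ℂ) * (η : G → ℂ) g + 1 + ∑ i, (a i : ℂ) * (χ i : G → ℂ) g = 0)
    (t : G) (ht : orderOf t = 2) (hηt : (η : G → ℂ) t = ((-4 : ℤ) : ℂ)) : False := by
  have : Fact (Nat.Prime 11) := ⟨by norm_num⟩
  have hGn : ¬ (Nat.card G).Prime := by rw [hG]; norm_num
  have hS : ∀ Q : Sylow 11 G, _ := fun Q => sylow11 hG Q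
  have hEq2 := block_rel_involution 11 (by norm_num) (fun Q => (hS Q).1)
    (fun Q => (hS Q).2.2.1) (fun Q => by rw [(hS Q).2.1]; norm_num) 4 χ a η (-1) hrel t ht
  have hEq1 := hrel t (by rw [ht]; norm_num)
  obtain ⟨k0, hk0, hv0⟩ := involution_int hGn (χ 0) t ht
  obtain ⟨k1, hk1, hv1⟩ := involution_int hGn (χ 1) t ht
  obtain ⟨k2, hk2, hv2⟩ := involution_int hGn (χ 2) t ht
  obtain ⟨k3, hk3, hv3⟩ := involution_int hGn (χ 3) t ht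
  have hd0 := (Cfsg.Agent.Lib.Helper79.irr_charDegree (χ 0).2).1
  have hd1 := (Cfsg.Agent.Lib.Helper79.irr_charDegree (χ 1).2).1
  have hd2 := (Cfsg.Agent.Lib.Helper79.irr_charDegree (χ 2).2).1
  have hd3 := (Cfsg.Agent.Lib.Helper79.irr_charDegree (χ 3).2).1
  have hdη := (Cfsg.Agent.Lib.Helper79.irr_charDegree η.2).1
  have e1' : Cfsg.charDegree (χ 1 : G → ℂ) = 10 := h10 1 (by decide)
  have e2' : Cfsg.charDegree (χ 2 : G → ℂ) = 10 := h10 2 (by decide)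
  have e3' : Cfsg.charDegree (χ 3 : G → ℂ) = 10 := h10 3 (by decide)
  have ha0 : a 0 = 1 := by rw [ha 0, h45]; decide
  have ha1 : a 1 = -1 := by rw [ha 1, e1']; decide
  have ha2 : a 2 = -1 := by rw [ha 2, e2']; decide
  have ha3 : a 3 = -1 := by rw [ha 3, e3']; decide
  rw [h45] at hk0 hv0 hd0
  rw [e1'] at hk1 hv1 hd1
  rw [e2'] at hk2 hv2 hd2
  rw [e3'] at hk3 hv3 hd3
  rw [hη] at hdη
  push_cast at hv0 hv1 hv2 hv3 hd0 hd1 hd2 hd3 hdη hηt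
  simp only [Fin.sum_univ_four] at hEq1 hEq2
  rw [hv0, hv1, hv2, hv3, hηt, ha0, ha1, ha2, ha3] at hEq1
  rw [hv0, hv1, hv2, hv3, hηt, ha0, ha1, ha2, ha3, hd0, hd1, hd2, hd3, hdη] at hEq2
  push_cast at hEq1 hEq2
  have e1 : 5 + ((45 : ℤ) - 4 * (k0 : ℤ)) - ((10 : ℤ) - 4 * (k1 : ℤ)) -
      ((10 : ℤ) - 4 * (k2 : ℤ)) - ((10 : ℤ) - 4 * (k3 : ℤ)) = 0 := by
    have h : ((5 + ((45 : ℤ) - 4 * (k0 : ℤ)) - ((10 : ℤ) - 4 * (k1 : ℤ)) -
        ((10 : ℤ) - 4 * (k2 : ℤ)) - ((10 : ℤ) - 4 * (k3 : ℤ)) : ℤ) : ℂ) = 0 := by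
      push_cast
      linear_combination hEq1
    exact_mod_cast h
  have e2 : 2 * ((45 : ℤ) - 4 * (k0 : ℤ)) ^ 2 - 9 * (((10 : ℤ) - 4 * (k1 : ℤ)) ^ 2 +
      ((10 : ℤ) - 4 * (k2 : ℤ)) ^ 2 + ((10 : ℤ) - 4 * (k3 : ℤ)) ^ 2) = 0 := by
    have h : ((2 * ((45 : ℤ) - 4 * (k0 : ℤ)) ^ 2 - 9 * (((10 : ℤ) - 4 * (k1 : ℤ)) ^ 2 +
        ((10 : ℤ) - 4 * (k2 : ℤ)) ^ 2 + ((10 : ℤ) - 4 * (k3 : ℤ)) ^ 2) : ℤ) : ℂ) = 0 := by
      push_cast
      linear_combination (90 : ℂ) * hEq2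
    exact_mod_cast h
  exact key_A k0 (List.mem_range.mpr (by omega)) k1 (List.mem_range.mpr (by omega))
    k2 (List.mem_range.mpr (by omega)) k3 (List.mem_range.mpr (by omega)) e1 e2

set_option maxHeartbeats 1600000 in
/-- Second configuration (degrees `10, 10, 12, 12, 5`): no involution takes the value `-8` on
a character of degree `12`. -/
theorem relB [IsSimpleGroup G] (hG : Nat.card G = 7920) (χ : Fin 4 → IrrCharacter G)
    (a : Fin 4 → ℤ) (η : IrrCharacter G)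
    (ha : ∀ i, a i = sgnEleven (Cfsg.charDegree (χ i : G → ℂ)))
    (hx : ∀ i, Cfsg.charDegree (χ i : G → ℂ) = 10 ∨ Cfsg.charDegree (χ i : G → ℂ) = 12)
    (hη : Cfsg.charDegree (η : G → ℂ) = 5)
    (hrel : ∀ g : G, ¬ 11 ∣ orderOf g →
      (-1 : ℂ) * (η : G → ℂ) g + 1 + ∑ i, (a i : ℂ) * (χ i : G → ℂ) g = 0)
    (t : G) (ht : orderOf t = 2) (i₀ : Fin 4)
    (h12 : Cfsg.charDegree (χ i₀ : G → ℂ) = 12)
    (hval : (χ i₀ : G → ℂ) t = ((-8 : ℤ) : ℂ)) : False := by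
  have : Fact (Nat.Prime 11) := ⟨by norm_num⟩
  have hGn : ¬ (Nat.card G).Prime := by rw [hG]; norm_num
  have hS : ∀ Q : Sylow 11 G, _ := fun Q => sylow11 hG Q
  have hEq2 := block_rel_involution 11 (by norm_num) (fun Q => (hS Q).1)
    (fun Q => (hS Q).2.2.1) (fun Q => by rw [(hS Q).2.1]; norm_num) 4 χ a η (-1) hrel t ht
  have hEq1 := hrel t (by rw [ht]; norm_num)
  have hEq0 := hrel 1 (by rw [orderOf_one]; norm_num)
  choose k hk hv using fun i => involution_int hGn (χ i) t ht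
  obtain ⟨ke, hke, hve⟩ := involution_int hGn η t ht
  have hdη := (Cfsg.Agent.Lib.Helper79.irr_charDegree η.2).1
  rw [hη] at hke hve hdη
  obtain ⟨x, hxdef⟩ : ∃ x : Fin 4 → ℕ, x = fun i => Cfsg.charDegree (χ i : G → ℂ) := ⟨_, rfl⟩
  have hxi : ∀ i, Cfsg.charDegree (χ i : G → ℂ) = x i := fun i => by rw [hxdef]
  have hxL : ∀ i, x i ∈ ([10, 12] : List ℕ) := by
    intro i
    rw [← hxi i]
    rcases hx i with h | h <;> rw [h] <;> simp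
  have hd : ∀ i, (χ i : G → ℂ) 1 = (x i : ℂ) := fun i => by
    rw [← hxi i]
    exact (Cfsg.Agent.Lib.Helper79.irr_charDegree (χ i).2).1
  have hvC : ∀ i, (χ i : G → ℂ) t = (x i : ℂ) - 4 * (k i : ℂ) := by
    intro i
    have := hv i
    rw [hxi i] at this
    push_cast at this
    exact this
  have haC : ∀ i, a i = sgnEleven (x i) := fun i => by rw [ha i, hxi i]
  push_cast at hve hdη
  simp only [Fin.sum_univ_four] at hEq0 hEq1 hEq2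
  rw [hdη, hd 0, hd 1, hd 2, hd 3, haC 0, haC 1, haC 2, haC 3] at hEq0
  rw [hve, hvC 0, hvC 1, hvC 2, hvC 3, haC 0, haC 1, haC 2, haC 3] at hEq1
  rw [hve, hdη] at hEq2
  have hS5 : sumEleven (x 0) (x 1) (x 2) (x 3) = 5 := by
    unfold sumEleven
    have h : ((1 + (sgnEleven (x 0) * (x 0 : ℤ) + sgnEleven (x 1) * (x 1 : ℤ) +
        sgnEleven (x 2) * (x 2 : ℤ) + sgnEleven (x 3) * (x 3 : ℤ)) : ℤ) : ℂ) = ((5 : ℤ) : ℂ) := by
      push_cast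
      linear_combination hEq0
    exact_mod_cast h
  have e1 : -((5 : ℤ) - 4 * (ke : ℤ)) + 1 + (sgnEleven (x 0) * ((x 0 : ℤ) - 4 * (k 0 : ℤ)) +
      sgnEleven (x 1) * ((x 1 : ℤ) - 4 * (k 1 : ℤ)) +
      sgnEleven (x 2) * ((x 2 : ℤ) - 4 * (k 2 : ℤ)) +
      sgnEleven (x 3) * ((x 3 : ℤ) - 4 * (k 3 : ℤ))) = 0 := by
    have h : ((-((5 : ℤ) - 4 * (ke : ℤ)) + 1 + (sgnEleven (x 0) * ((x 0 : ℤ) - 4 * (k 0 : ℤ)) +
        sgnEleven (x 1) * ((x 1 : ℤ) - 4 * (k 1 : ℤ)) +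
        sgnEleven (x 2) * ((x 2 : ℤ) - 4 * (k 2 : ℤ)) +
        sgnEleven (x 3) * ((x 3 : ℤ) - 4 * (k 3 : ℤ))) : ℤ) : ℂ) = 0 := by
      push_cast
      linear_combination hEq1
    exact_mod_cast h
  obtain ⟨q, hq⟩ : ∃ q : Fin 4 → ℕ, q = fun i => 60 / x i := ⟨_, rfl⟩
  have hw : ∀ i, (x i : ℂ) * (q i : ℂ) = 60 ∧ (x i : ℂ) ≠ 0 := by
    intro i
    have h := hxL i
    have hqi : q i = 60 / x i := by rw [hq]
    simp only [List.mem_cons, List.not_mem_nil, or_false] at h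
    rcases h with h | h <;> rw [hqi, h] <;> norm_num
  have hterm : ∀ i, (60 : ℂ) * ((a i : ℂ) *
      ((χ i : G → ℂ) t * (χ i : G → ℂ) t / (χ i : G → ℂ) 1)) =
      (sgnEleven (x i) : ℂ) * ((x i : ℂ) - 4 * (k i : ℂ)) ^ 2 * (q i : ℂ) := by
    intro i
    obtain ⟨h1, h2⟩ := hw i
    rw [hvC i, hd i, haC i, ← h1]
    field_simp
  have e2 : -12 * ((5 : ℤ) - 4 * (ke : ℤ)) ^ 2 + 60 +
      (sgnEleven (x 0) * ((x 0 : ℤ) - 4 * (k 0 : ℤ)) ^ 2 * (q 0 : ℤ) +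
      sgnEleven (x 1) * ((x 1 : ℤ) - 4 * (k 1 : ℤ)) ^ 2 * (q 1 : ℤ) +
      sgnEleven (x 2) * ((x 2 : ℤ) - 4 * (k 2 : ℤ)) ^ 2 * (q 2 : ℤ) +
      sgnEleven (x 3) * ((x 3 : ℤ) - 4 * (k 3 : ℤ)) ^ 2 * (q 3 : ℤ)) = 0 := by
    have h : ((-12 * ((5 : ℤ) - 4 * (ke : ℤ)) ^ 2 + 60 +
        (sgnEleven (x 0) * ((x 0 : ℤ) - 4 * (k 0 : ℤ)) ^ 2 * (q 0 : ℤ) +
        sgnEleven (x 1) * ((x 1 : ℤ) - 4 * (k 1 : ℤ)) ^ 2 * (q 1 : ℤ) +
        sgnEleven (x 2) * ((x 2 : ℤ) - 4 * (k 2 : ℤ)) ^ 2 * (q 2 : ℤ) +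
        sgnEleven (x 3) * ((x 3 : ℤ) - 4 * (k 3 : ℤ)) ^ 2 * (q 3 : ℤ)) : ℤ) : ℂ) = 0 := by
      have t0 := hterm 0
      have t1 := hterm 1
      have t2 := hterm 2
      have t3 := hterm 3
      push_cast
      linear_combination (60 : ℂ) * hEq2 - t0 - t1 - t2 - t3
    exact_mod_cast h
  have hk₀ : k i₀ = 5 := by
    have h := hv i₀
    rw [hval, h12] at h
    have h' : (-8 : ℤ) = ((12 : ℕ) : ℤ) - 4 * (k i₀ : ℤ) := by exact_mod_cast h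
    push_cast at h'
    omega
  have h12' : x i₀ = 12 := by rw [← hxi]; exact h12
  have hdis : (x 0 = 12 ∧ k 0 = 5) ∨ (x 1 = 12 ∧ k 1 = 5) ∨ (x 2 = 12 ∧ k 2 = 5) ∨
      (x 3 = 12 ∧ k 3 = 5) := by
    fin_cases i₀
    · exact Or.inl ⟨h12', hk₀⟩
    · exact Or.inr (Or.inl ⟨h12', hk₀⟩)
    · exact Or.inr (Or.inr (Or.inl ⟨h12', hk₀⟩))
    · exact Or.inr (Or.inr (Or.inr ⟨h12', hk₀⟩))
  have hkM : ∀ i, k i ∈ ksM (x i) := by
    intro i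
    have := hk i
    rw [hxi i] at this
    unfold ksM
    rw [List.mem_range]
    omega
  have hfin := key_B (x 0) (hxL 0) (x 1) (hxL 1) (x 2) (hxL 2) (x 3) (hxL 3) hS5
    (k 0) (hkM 0) (k 1) (hkM 1) (k 2) (hkM 2) (k 3) (hkM 3) ke (List.mem_range.mpr (by omega))
  unfold chkB at hfin
  rw [hq] at e2
  exact hfin hdis e1 e2

end Cfsg.Agent.Lib.Helper91.M11
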