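import Mathlib
import Cfsg.Agent.Lib.Helper91.M11Rel

set_option autoImplicit false

/-!
# The character degrees of a simple group of order `7920`

A simple group of order `7920` has exactly ten irreducible characters, of degrees
`1, 45, 10, 10, 10, 16, 16, 11, 44, 55`.
-/

namespace Cfsg.Agent.Lib.Helper91.M11

open Cfsg Cfsg.Agent.Lib.Helper17 Cfsg.Agent.Lib.Helper91.SS

variable {G : Type*} [Group G] [Finite G]

/-- an injective family of irreducible characters whose squared degrees sum to the group order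
is a complete list of the irreducible characters -/
theorem bijective_of_sum_sq (n : ℕ) (c : Fin n → IrrCharacter G) (hinj : Function.Injective c)
    (hsum : ∑ j, Cfsg.charDegree (c j : G → ℂ) ^ 2 = Nat.card G) : Function.Bijective c := by
  classical
  have : Fintype G := Fintype.ofFinite G
  have : Finite (IrrCharacter G) := Cfsg.Agent.Lib.Helper81.irr_finite G
  have : Fintype (IrrCharacter G) := Fintype.ofFinite _
  refine ⟨hinj, ?_⟩
  intro ψ
  by_contra hψ
  have hψT : ψ ∉ Finset.univ.image c := by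
    intro h
    obtain ⟨j, -, hj⟩ := Finset.mem_image.mp h
    exact hψ ⟨j, hj⟩
  have htot := Cfsg.Agent.Lib.Helper80.sum_charDegree_sq (G := G)
  have hle : ∑ θ ∈ insert ψ (Finset.univ.image c), Cfsg.charDegree (θ : G → ℂ) ^ 2 ≤
      ∑ θ : IrrCharacter G, Cfsg.charDegree (θ : G → ℂ) ^ 2 :=
    Finset.sum_le_sum_of_subset (Finset.subset_univ _)
  rw [Finset.sum_insert hψT, Finset.sum_image (fun i _ j _ h => hinj h), hsum, htot] at hle
  have hpos := (Cfsg.Agent.Lib.Helper79.irr_charDegree ψ.2).2.1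
  have : 0 < Cfsg.charDegree (ψ : G → ℂ) ^ 2 := by positivity
  omega

omit [Finite G] in
/-- a nonidentity element of a subgroup of prime order -/
theorem exists_ne_one_of_card {p : ℕ} (hp : p.Prime) (P : Subgroup G) (hP : Nat.card P = p) :
    ∃ w : G, w ∈ P ∧ w ≠ 1 := by
  have hne : P ≠ ⊥ := by
    intro h
    have h1 : Nat.card P = 1 := by rw [h]; exact Subgroup.card_bot
    rw [hP] at h1
    exact hp.one_lt.ne' h1
  obtain ⟨w, hw⟩ := Subgroup.ne_bot_iff_exists_ne_one.mp hne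
  exact ⟨(w : G), w.2, fun h => hw (Subtype.ext h)⟩

set_option maxHeartbeats 1600000 in
/-- The Sylow `5`-subgroups of a simple group of order `7920`. -/
theorem sylow5 [IsSimpleGroup G] (hG : Nat.card G = 7920) (P : Sylow 5 G) :
    Nat.card (P : Subgroup G) = 5 ∧
    ((Subgroup.centralizer ((P : Subgroup G) : Set G)).relIndex
      (Subgroup.normalizer ((P : Subgroup G) : Set G)) = 2 ∨
     (Subgroup.centralizer ((P : Subgroup G) : Set G)).relIndex
      (Subgroup.normalizer ((P : Subgroup G) : Set G)) = 4) ∧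
    (2 ∣ Nat.card (Subgroup.centralizer ((P : Subgroup G) : Set G)) ∨
     ((Subgroup.centralizer ((P : Subgroup G) : Set G)).relIndex
      (Subgroup.normalizer ((P : Subgroup G) : Set G)) = 4 ∧
      Nat.card (Subgroup.centralizer ((P : Subgroup G) : Set G)) = 5)) := by
  classical
  have : Fact (Nat.Prime 5) := ⟨by norm_num⟩
  have : Fact (Nat.Prime 11) := ⟨by norm_num⟩
  have hGn : ¬ (Nat.card G).Prime := by rw [hG]; norm_num
  have hP : Nat.card (P : Subgroup G) = 5 := by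
    simpa using card_sylow_eq_of_card_eq 5 1 1584 (by rw [hG]; norm_num) (by norm_num) P
  obtain ⟨hr1, hr2, hr3, hPC⟩ := relIndex_centralizer_sylow_prime hGn 5 P hP
  obtain ⟨r, hr⟩ : ∃ r, r = (Subgroup.centralizer ((P : Subgroup G) : Set G)).relIndex
      (Subgroup.normalizer ((P : Subgroup G) : Set G)) := ⟨_, rfl⟩
  rw [← hr] at hr1 hr2 hr3 ⊢
  have h4' : r ∣ 4 := by simpa using hr2
  have hr4 : r ≤ 4 := Nat.le_of_dvd (by norm_num) h4'
  have hr0 : r ≠ 0 := by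
    rintro rfl
    simp at h4'
  have hr24 : r = 2 ∨ r = 4 := by
    interval_cases r
    · exact absurd rfl hr0
    · exact absurd rfl hr1
    · exact Or.inl rfl
    · exact absurd h4' (by norm_num)
    · exact Or.inr rfl
  have h11 : ¬ 11 ∣ Nat.card (Subgroup.centralizer ((P : Subgroup G) : Set G)) := by
    intro h
    obtain ⟨z', hz'⟩ := exists_prime_orderOf_dvd_card'
      (G := Subgroup.centralizer ((P : Subgroup G) : Set G)) 11 h
    obtain ⟨z, hzdef⟩ : ∃ z : G, z = (z' : G) := ⟨_, rfl⟩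
    have hzC : z ∈ Subgroup.centralizer ((P : Subgroup G) : Set G) := by rw [hzdef]; exact z'.2
    have hz11 : orderOf z = 11 := by rw [hzdef, Subgroup.orderOf_coe]; exact hz'
    have hpz : IsPGroup 11 (Subgroup.zpowers z) :=
      IsPGroup.of_card (n := 1) (by rw [Nat.card_zpowers, hz11, pow_one])
    obtain ⟨Q, hQ⟩ := hpz.exists_le_sylow
    obtain ⟨hQ11, -, hCQ, -⟩ := sylow11 hG Q
    have hzQ : z ∈ (Q : Subgroup G) := hQ (Subgroup.mem_zpowers z)
    have hz1 : z ≠ 1 := by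
      intro h1
      rw [h1, orderOf_one] at hz11
      omega
    obtain ⟨w, hwP, hw1⟩ := exists_ne_one_of_card (by norm_num : Nat.Prime 5) (P : Subgroup G) hP
    have hcomm : Commute w z := (Subgroup.mem_centralizer_iff.mp hzC w hwP)
    have hwQ : w ∈ Subgroup.centralizer ((Q : Subgroup G) : Set G) :=
      mem_centralizer_of_commute (by norm_num) (Q : Subgroup G) hQ11 z hzQ hz1 w hcomm
    rw [hCQ] at hwQ
    have h5 := orderOf_eq_of_mem_of_card_prime (by norm_num : Nat.Prime 5) (P : Subgroup G) hP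
      w hwP hw1
    have h11' := orderOf_eq_of_mem_of_card_prime (by norm_num : Nat.Prime 11) (Q : Subgroup G)
      hQ11 w hwQ hw1
    omega
  have h4 := card_sylow_mul_card_normalizer 5 P
  rw [hG, ← hr3] at h4
  have hfin := arith_sylow5 _ _ _ h4 (card_sylow_mod 5) h11 hr24
  refine ⟨hP, hr24, ?_⟩
  rcases hfin with h | h
  · exact Or.inl h
  · exact Or.inr h

set_option maxHeartbeats 1600000 in
/-- The principal `5`-block when `[N(P) : C(P)] = 2`: one non-exceptional character `χ` and one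
exceptional character `η`, with `η(1) = χ(1) + 1`, `χ(1) ≡ 1 (mod 5)` or `χ(1) = η(1) + 1`,
`χ(1) ≡ -1 (mod 5)`. -/
theorem block_m2_gen [IsSimpleGroup G] (hGn : ¬ (Nat.card G).Prime)
    (P : Sylow 5 G) (hP : Nat.card (P : Subgroup G) = 5)
    (hm : (Subgroup.centralizer ((P : Subgroup G) : Set G)).relIndex
      (Subgroup.normalizer ((P : Subgroup G) : Set G)) = 2) :
    ∃ (χ η : IrrCharacter G) (a c : ℤ), (χ : G → ℂ) 1 ≠ 1 ∧ (η : G → ℂ) 1 ≠ 1 ∧
      ((a = 1 ∧ c = -1 ∧ Cfsg.charDegree (χ : G → ℂ) % 5 = 1 ∧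
          Cfsg.charDegree (η : G → ℂ) = Cfsg.charDegree (χ : G → ℂ) + 1) ∨
       (a = -1 ∧ c = 1 ∧ Cfsg.charDegree (χ : G → ℂ) % 5 = 4 ∧
          Cfsg.charDegree (χ : G → ℂ) = Cfsg.charDegree (η : G → ℂ) + 1)) ∧
      (∀ z y : G, IsPPart 5 z y → y ∈ (P : Subgroup G) → y ≠ 1 →
        (χ : G → ℂ) z = (a : ℂ)) ∧
      (∀ g : G, ¬ 5 ∣ orderOf g →
        (c : ℂ) * (η : G → ℂ) g + 1 + (a : ℂ) * (χ : G → ℂ) g = 0) := by
  have : Fact (Nat.Prime 5) := ⟨by norm_num⟩
  obtain ⟨k, χ, a, η, d, δ, hk, hδ, hχ, hη1, hηP, hnorm, hrel, hj, hreal⟩ :=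
    brauer_chars hGn 5 P hP 2 (by norm_num) hm
  have h2 : ((5 - 1) / 2 : ℕ) = 2 := by norm_num
  rw [h2] at hnorm hrel
  push_cast at hnorm hrel
  have hk' : k = 0 ∨ k = 1 := by omega
  rcases hk' with rfl | rfl
  · exfalso
    simp only [Finset.univ_eq_empty, Finset.sum_empty, add_zero] at hnorm
    rcases hδ with rfl | rfl
    · have : 2 * (d * d - d) = 1 := by nlinarith
      omega
    · have : 2 * (d * d + d) = 1 := by nlinarith
      omega
  · simp only [Fin.sum_univ_succ, Fin.sum_univ_zero, add_zero] at hnorm hrel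
    obtain ⟨ha0, hx1, hxa⟩ := hχ 0
    have hirr := (χ 0).2
    have hirrη := η.2
    obtain ⟨hxd, hxpos, hxdvd⟩ := Cfsg.Agent.Lib.Helper79.irr_charDegree hirr
    obtain ⟨hyd, hypos, hydvd⟩ := Cfsg.Agent.Lib.Helper79.irr_charDegree hirrη
    have hmod : (Cfsg.charDegree ((χ 0 : IrrCharacter G) : G → ℂ) : ℤ) ≡ a 0 [ZMOD 5] := by
      have := Cfsg.Agent.Lib.Helper90.BrauerDeg.degree_modEq hirr 5 (P : Subgroup G) hP (a 0)
        (fun y hy hy1 => hxa y y (isPPart_self (by norm_num) _ hP y hy hy1) hy hy1)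
      exact_mod_cast this
    obtain ⟨x, hxdef⟩ : ∃ x, x = Cfsg.charDegree ((χ 0 : IrrCharacter G) : G → ℂ) := ⟨_, rfl⟩
    obtain ⟨y, hydef⟩ : ∃ y, y = Cfsg.charDegree ((η : IrrCharacter G) : G → ℂ) := ⟨_, rfl⟩
    rw [← hxdef] at hxd hxpos hxdvd hmod
    rw [← hydef] at hyd hypos hydvd
    have hx1' : x ≠ 1 := by
      intro h
      apply hx1
      rw [hxd, h]
      norm_num
    have hrel1 := hrel 1 (by rw [orderOf_one]; norm_num)
    rw [hxd, hyd] at hrel1
    have hrel1' : (2 * d - δ) * (y : ℤ) + 1 + a 0 * (x : ℤ) = 0 := by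
      have h : (((2 * d - δ) * (y : ℤ) + 1 + a 0 * (x : ℤ) : ℤ) : ℂ) = 0 := by
        push_cast
        exact hrel1
      exact_mod_cast h
    have hd : -1 ≤ d ∧ d ≤ 1 := by
      constructor <;> rcases hδ with rfl | rfl <;>
        nlinarith [sq_nonneg (a 0), sq_nonneg (d - 1), sq_nonneg (d + 1)]
    have ha2 : a 0 ^ 2 = 1 ∧ (2 * d - δ = 1 ∨ 2 * d - δ = -1) := by
      obtain ⟨hd1, hd2⟩ := hd
      have hapos : 0 < a 0 ^ 2 := by positivity
      obtain ⟨A, hA⟩ : ∃ A, A = a 0 ^ 2 := ⟨_, rfl⟩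
      rw [← hA] at hnorm hapos ⊢
      interval_cases d <;> rcases hδ with rfl | rfl <;> norm_num at hnorm ⊢ <;> omega
    obtain ⟨ha2, hε⟩ := ha2
    have ha : a 0 = 1 ∨ a 0 = -1 := by
      have h1 : (a 0 - 1) * (a 0 + 1) = 0 := by nlinarith
      rcases mul_eq_zero.mp h1 with h | h
      · left; omega
      · right; omega
    unfold Int.ModEq at hmod
    refine ⟨χ 0, η, a 0, 2 * d - δ, hx1, hη1, ?_, hxa, ?_⟩
    · rw [← hxdef, ← hydef]
      rcases hε with h | h <;> rcases ha with h' | h' <;> rw [h, h'] at hrel1' <;> rw [h'] at hmod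
      · omega
      · exact Or.inr ⟨h', h, by omega, by omega⟩
      · exact Or.inl ⟨h', h, by omega, by omega⟩
      · omega
    · intro g hg
      have h := hrel g hg
      push_cast
      linear_combination h

set_option maxHeartbeats 1600000 in
/-- The second configuration of the principal `11`-block (degrees `1, 10, 10, 12, 12, 5, 5`) is
impossible. -/
theorem caseB_false [IsSimpleGroup G] (hG : Nat.card G = 7920) (χ : Fin 4 → IrrCharacter G)
    (a : Fin 4 → ℤ) (Y : Set (IrrCharacter G)) (η₀ : IrrCharacter G) (hη₀ : η₀ ∈ Y)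
    (ha : ∀ i, a i = sgnEleven (Cfsg.charDegree (χ i : G → ℂ)))
    (hY : ∀ η ∈ Y, Cfsg.charDegree (η : G → ℂ) = 5)
    (hrel : ∀ η ∈ Y, ∀ g : G, ¬ 11 ∣ orderOf g →
          (-1 : ℂ) * (η : G → ℂ) g + 1 + ∑ i, (a i : ℂ) * (χ i : G → ℂ) g = 0)
    (hall : ∀ ψ : IrrCharacter G, (ψ : G → ℂ) 1 = 1 ∨ (∃ i, ψ = χ i) ∨ ψ ∈ Y ∨
          11 ∣ Cfsg.charDegree (ψ : G → ℂ))
    (hx : ∀ i, Cfsg.charDegree (χ i : G → ℂ) = 10 ∨ Cfsg.charDegree (χ i : G → ℂ) = 12) :
    False := by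
  classical
  have : Fact (Nat.Prime 5) := ⟨by norm_num⟩
  have hGn : ¬ (Nat.card G).Prime := by rw [hG]; norm_num
  obtain ⟨P⟩ := (Sylow.nonempty : Nonempty (Sylow 5 G))
  obtain ⟨hP, hr24, hfin⟩ := sylow5 hG P
  -- the possible degrees of a nonlinear character
  have hdegs : ∀ ψ : IrrCharacter G, (ψ : G → ℂ) 1 ≠ 1 →
      Cfsg.charDegree (ψ : G → ℂ) = 10 ∨ Cfsg.charDegree (ψ : G → ℂ) = 12 ∨
      Cfsg.charDegree (ψ : G → ℂ) = 5 ∨ 11 ∣ Cfsg.charDegree (ψ : G → ℂ) := by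
    intro ψ hψ
    rcases hall ψ with h | ⟨i, rfl⟩ | h | h
    · exact absurd h hψ
    · rcases hx i with h | h
      · exact Or.inl h
      · exact Or.inr (Or.inl h)
    · exact Or.inr (Or.inr (Or.inl (hY ψ h)))
    · exact Or.inr (Or.inr (Or.inr h))
  rcases hr24 with hm | hm
  · -- `[N(P) : C(P)] = 2`
    have h2 : 2 ∣ Nat.card (Subgroup.centralizer ((P : Subgroup G) : Set G)) := by
      rcases hfin with h | ⟨h, -⟩
      · exact h
      · rw [hm] at h
        omega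
    obtain ⟨t', ht'⟩ := exists_prime_orderOf_dvd_card'
      (G := Subgroup.centralizer ((P : Subgroup G) : Set G)) 2 h2
    obtain ⟨t, htdef⟩ : ∃ t : G, t = (t' : G) := ⟨_, rfl⟩
    have htC : t ∈ Subgroup.centralizer ((P : Subgroup G) : Set G) := by rw [htdef]; exact t'.2
    have ht2 : orderOf t = 2 := by rw [htdef, Subgroup.orderOf_coe]; exact ht'
    obtain ⟨χ5, η5, a5, c5, hχ1, hη1, hcases, hval, hrel5⟩ := block_m2_gen hGn P hP hm
    obtain ⟨hxd, hxpos, hxdvd⟩ := Cfsg.Agent.Lib.Helper79.irr_charDegree χ5.2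
    obtain ⟨hyd, hypos, hydvd⟩ := Cfsg.Agent.Lib.Helper79.irr_charDegree η5.2
    obtain ⟨x, hxdef⟩ : ∃ x, x = Cfsg.charDegree (χ5 : G → ℂ) := ⟨_, rfl⟩
    obtain ⟨y, hydef⟩ : ∃ y, y = Cfsg.charDegree (η5 : G → ℂ) := ⟨_, rfl⟩
    have hdx := hdegs χ5 hχ1
    have hdy := hdegs η5 hη1
    rw [← hxdef] at hxd hxpos hxdvd hcases hdx
    rw [← hydef] at hyd hypos hydvd hcases hdy
    rw [hG] at hxdvd hydvd
    have hx1 : x ≠ 1 := by
      intro h
      apply hχ1
      rw [hxd, h]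
      norm_num
    have hy1 : y ≠ 1 := by
      intro h
      apply hη1
      rw [hyd, h]
      norm_num
    have hrelxy : (x % 5 = 1 ∧ y = x + 1) ∨ (x % 5 = 4 ∧ x = y + 1) := by
      rcases hcases with ⟨-, -, h1, h2⟩ | ⟨-, -, h1, h2⟩
      · exact Or.inl ⟨h1, h2⟩
      · exact Or.inr ⟨h1, h2⟩
    obtain ⟨hx11, hy12⟩ := (arith5_m2 x y hxdvd hydvd hx1 hy1 hrelxy).2 hdx hdy
    have hac : a5 = 1 ∧ c5 = -1 := by
      rcases hcases with ⟨h1, h2, -, -⟩ | ⟨-, -, h1, -⟩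
      · exact ⟨h1, h2⟩
      · omega
    obtain ⟨ha5, hc5⟩ := hac
    obtain ⟨n, k, hnk, hk1, hk2, hvalt⟩ := involution_value hGn 5 (by norm_num)
      (P : Subgroup G) hP χ5 hχ1 a5 hval t htC ht2
    rw [← hxdef, hx11] at hnk hk2 hvalt
    rw [ha5] at hnk
    have hk5 : k = 5 := by
      push_cast at hnk
      omega
    rw [hk5] at hvalt
    have hrelt := hrel5 t (by rw [ht2]; norm_num)
    rw [hvalt, ha5, hc5] at hrelt
    have hη5t : (η5 : G → ℂ) t = ((-8 : ℤ) : ℂ) := by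
      push_cast at hrelt ⊢
      linear_combination -hrelt
    -- `η5` is one of the `χ i`
    rcases hall η5 with h | ⟨i₀, hi₀⟩ | h | h
    · exact hη1 h
    · have h12 : Cfsg.charDegree (χ i₀ : G → ℂ) = 12 := by rw [← hi₀, ← hydef, hy12]
      exact relB hG χ a η₀ ha hx (hY η₀ hη₀) (hrel η₀ hη₀) t ht2 i₀ h12
        (by rw [← hi₀]; exact hη5t)
    · have := hY η5 h
      rw [← hydef, hy12] at this
      omega
    · rw [← hydef, hy12] at h
      omega
  · -- `[N(P) : C(P)] = 4`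
    obtain ⟨χ5, a5, hinj5, hχ5, hrel5, -⟩ := block_m4_five hGn P hP hm
    have h11 : ∀ i, (11 : ℤ) ∣ (Cfsg.charDegree (χ5 i : G → ℂ) : ℤ) := by
      intro i
      obtain ⟨ha5, hx1, hxa⟩ := hχ5 i
      have hmod := Cfsg.Agent.Lib.Helper90.BrauerDeg.degree_modEq (χ5 i).2 5 (P : Subgroup G) hP
        (a5 i) (fun y hy hy1 => hxa y y (isPPart_self (by norm_num) _ hP y hy hy1) hy hy1)
      have hmod' : ((Cfsg.charDegree (χ5 i : G → ℂ) : ℕ) : ℤ) % 5 = a5 i % 5 := by
        have := hmod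
        unfold Int.ModEq at this
        exact_mod_cast this
      rcases hdegs (χ5 i) hx1 with h | h | h | h
      · rw [h] at hmod'; rcases ha5 with h' | h' <;> rw [h'] at hmod' <;> omega
      · rw [h] at hmod'; rcases ha5 with h' | h' <;> rw [h'] at hmod' <;> omega
      · rw [h] at hmod'; rcases ha5 with h' | h' <;> rw [h'] at hmod' <;> omega
      · exact_mod_cast h
    have hrel1 := hrel5 1 (by rw [orderOf_one]; norm_num)
    have hrelZ : (1 : ℤ) + ∑ i, a5 i * (Cfsg.charDegree (χ5 i : G → ℂ) : ℤ) = 0 := by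
      have h : ((1 + ∑ i, a5 i * (Cfsg.charDegree (χ5 i : G → ℂ) : ℤ) : ℤ) : ℂ) = 0 := by
        push_cast
        rw [← hrel1]
        congr 1
        exact Finset.sum_congr rfl (fun i _ => by
          rw [(Cfsg.Agent.Lib.Helper79.irr_charDegree (χ5 i).2).1])
      exact_mod_cast h
    have hdvd : (11 : ℤ) ∣ ∑ i, a5 i * (Cfsg.charDegree (χ5 i : G → ℂ) : ℤ) :=
      Finset.dvd_sum (fun i _ => Dvd.dvd.mul_left (h11 i) _)
    obtain ⟨q, hq⟩ := hdvd
    rw [hq] at hrelZ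
    omega

set_option maxHeartbeats 1600000 in
/-- The first configuration of the principal `11`-block (degrees `1, 45, 10, 10, 10, 16, 16`):
the principal `5`-block contains characters of degrees `11` and `44`, and every nonlinear
irreducible character outside the two principal blocks has degree divisible by `5`. -/
theorem caseA_five [IsSimpleGroup G] (hG : Nat.card G = 7920) (χ : Fin 4 → IrrCharacter G)
    (a : Fin 4 → ℤ) (Y : Set (IrrCharacter G))
    (ha : ∀ i, a i = sgnEleven (Cfsg.charDegree (χ i : G → ℂ)))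
    (hY : ∀ η ∈ Y, Cfsg.charDegree (η : G → ℂ) = 16)
    (hrel : ∀ η ∈ Y, ∀ g : G, ¬ 11 ∣ orderOf g →
          (-1 : ℂ) * (η : G → ℂ) g + 1 + ∑ i, (a i : ℂ) * (χ i : G → ℂ) g = 0)
    (hall : ∀ ψ : IrrCharacter G, (ψ : G → ℂ) 1 = 1 ∨ (∃ i, ψ = χ i) ∨ ψ ∈ Y ∨
          11 ∣ Cfsg.charDegree (ψ : G → ℂ))
    (h45 : Cfsg.charDegree (χ 0 : G → ℂ) = 45)
    (h10 : ∀ j, j ≠ 0 → Cfsg.charDegree (χ j : G → ℂ) = 10) :
    ∃ θ₁ θ₂ : IrrCharacter G, Cfsg.charDegree (θ₁ : G → ℂ) = 11 ∧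
      Cfsg.charDegree (θ₂ : G → ℂ) = 44 ∧
      ∀ ψ : IrrCharacter G, (ψ : G → ℂ) 1 ≠ 1 → ψ ∉ Y → ψ ≠ θ₁ → ψ ≠ θ₂ →
        5 ∣ Cfsg.charDegree (ψ : G → ℂ) := by
  classical
  have : Fact (Nat.Prime 5) := ⟨by norm_num⟩
  have hGn : ¬ (Nat.card G).Prime := by rw [hG]; norm_num
  obtain ⟨P⟩ := (Sylow.nonempty : Nonempty (Sylow 5 G))
  obtain ⟨hP, hr24, hfin⟩ := sylow5 hG P
  have hdegs : ∀ ψ : IrrCharacter G, (ψ : G → ℂ) 1 ≠ 1 →
      Cfsg.charDegree (ψ : G → ℂ) = 10 ∨ Cfsg.charDegree (ψ : G → ℂ) = 45 ∨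
      Cfsg.charDegree (ψ : G → ℂ) = 16 ∨ 11 ∣ Cfsg.charDegree (ψ : G → ℂ) := by
    intro ψ hψ
    rcases hall ψ with h | ⟨i, rfl⟩ | h | h
    · exact absurd h hψ
    · by_cases hi : i = 0
      · rw [hi]; exact Or.inr (Or.inl h45)
      · exact Or.inl (h10 i hi)
    · exact Or.inr (Or.inr (Or.inl (hY ψ h)))
    · exact Or.inr (Or.inr (Or.inr h))
  -- a character of degree `16` lies in `Y`
  have h16Y : ∀ ψ : IrrCharacter G, Cfsg.charDegree (ψ : G → ℂ) = 16 → ψ ∈ Y := by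
    intro ψ hψ
    rcases hall ψ with h | ⟨i, rfl⟩ | h | h
    · exfalso
      have h1 := (Cfsg.Agent.Lib.Helper79.irr_charDegree ψ.2).1
      rw [hψ, h] at h1
      norm_num at h1
    · exfalso
      by_cases hi : i = 0
      · rw [hi, h45] at hψ; omega
      · rw [h10 i hi] at hψ; omega
    · exact h
    · rw [hψ] at h; omega
  have hm : (Subgroup.centralizer ((P : Subgroup G) : Set G)).relIndex
      (Subgroup.normalizer ((P : Subgroup G) : Set G)) = 4 := by
    rcases hr24 with hm | hm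
    · exfalso
      obtain ⟨χ5, η5, a5, c5, hχ1, hη1, hcases, hval, hrel5⟩ := block_m2_gen hGn P hP hm
      obtain ⟨hxd, hxpos, hxdvd⟩ := Cfsg.Agent.Lib.Helper79.irr_charDegree χ5.2
      obtain ⟨hyd, hypos, hydvd⟩ := Cfsg.Agent.Lib.Helper79.irr_charDegree η5.2
      obtain ⟨x, hxdef⟩ : ∃ x, x = Cfsg.charDegree (χ5 : G → ℂ) := ⟨_, rfl⟩
      obtain ⟨y, hydef⟩ : ∃ y, y = Cfsg.charDegree (η5 : G → ℂ) := ⟨_, rfl⟩
      have hdx := hdegs χ5 hχ1
      have hdy := hdegs η5 hη1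
      rw [← hxdef] at hxd hxpos hxdvd hcases hdx
      rw [← hydef] at hyd hypos hydvd hcases hdy
      rw [hG] at hxdvd hydvd
      have hx1 : x ≠ 1 := by
        intro h
        apply hχ1
        rw [hxd, h]
        norm_num
      have hy1 : y ≠ 1 := by
        intro h
        apply hη1
        rw [hyd, h]
        norm_num
      have hrelxy : (x % 5 = 1 ∧ y = x + 1) ∨ (x % 5 = 4 ∧ x = y + 1) := by
        rcases hcases with ⟨-, -, h1, h2⟩ | ⟨-, -, h1, h2⟩
        · exact Or.inl ⟨h1, h2⟩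
        · exact Or.inr ⟨h1, h2⟩
      have hx' : x = 16 ∨ 11 ∣ x := by
        rcases hdx with h | h | h | h
        · rcases hrelxy with ⟨h1, -⟩ | ⟨h1, -⟩ <;> omega
        · rcases hrelxy with ⟨h1, -⟩ | ⟨h1, -⟩ <;> omega
        · exact Or.inl h
        · exact Or.inr h
      exact (arith5_m2 x y hxdvd hydvd hx1 hy1 hrelxy).1 hx' hdy
    · exact hm
  obtain ⟨χ5, a5, hinj5, hχ5, hrel5, -⟩ := block_m4_five hGn P hP hm
  obtain ⟨x, hxdef⟩ : ∃ x : Fin 4 → ℕ, x = fun i => Cfsg.charDegree (χ5 i : G → ℂ) := ⟨_, rfl⟩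
  have hxi : ∀ i, Cfsg.charDegree (χ5 i : G → ℂ) = x i := fun i => by rw [hxdef]
  have hdeg : ∀ i, (χ5 i : G → ℂ) 1 = (x i : ℂ) ∧ x i ∈ ([16, 11, 44, 66] : List ℕ) ∧
      a5 i = sgnFive (x i) := by
    intro i
    obtain ⟨ha5, hx1, hxa⟩ := hχ5 i
    obtain ⟨hxd, hxpos, hxdvd⟩ := Cfsg.Agent.Lib.Helper79.irr_charDegree (χ5 i).2
    have hmod := Cfsg.Agent.Lib.Helper90.BrauerDeg.degree_modEq (χ5 i).2 5 (P : Subgroup G) hP
      (a5 i) (fun y hy hy1 => hxa y y (isPPart_self (by norm_num) _ hP y hy hy1) hy hy1)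
    have hmod' : ((Cfsg.charDegree (χ5 i : G → ℂ) : ℕ) : ℤ) % 5 = a5 i % 5 := by
      have := hmod
      unfold Int.ModEq at this
      exact_mod_cast this
    have hsq := Cfsg.Agent.Lib.Helper80.charDegree_sq_le_card (χ5 i).2
    have hd := hdegs (χ5 i) hx1
    rw [hxi i] at hxd hxdvd hmod' hsq hd
    rw [hG] at hxdvd hsq
    have hx1' : x i ≠ 1 := by
      intro h
      apply hx1
      rw [hxd, h]
      norm_num
    have hmod5 : x i % 5 = 1 ∨ x i % 5 = 4 := by
      rcases ha5 with h' | h' <;> rw [h'] at hmod' <;> omega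
    have h11 : x i = 16 ∨ 11 ∣ x i := by
      rcases hd with h | h | h | h
      · omega
      · omega
      · exact Or.inl h
      · exact Or.inr h
    refine ⟨hxd, list5A (x i) hxdvd hx1' hsq hmod5 h11, ?_⟩
    unfold sgnFive
    rcases ha5 with h' | h' <;> rw [h'] at hmod' ⊢
    · rw [if_pos (by omega)]
    · rw [if_neg (by omega)]
  have hrel1 := hrel5 1 (by rw [orderOf_one]; norm_num)
  simp only [Fin.sum_univ_four] at hrel1
  rw [(hdeg 0).1, (hdeg 1).1, (hdeg 2).1, (hdeg 3).1, (hdeg 0).2.2, (hdeg 1).2.2, (hdeg 2).2.2,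
    (hdeg 3).2.2] at hrel1
  have hrelZ : 1 + (sgnFive (x 0) * (x 0 : ℤ) + sgnFive (x 1) * (x 1 : ℤ) +
      sgnFive (x 2) * (x 2 : ℤ) + sgnFive (x 3) * (x 3 : ℤ)) = 0 := by
    have h : ((1 + (sgnFive (x 0) * (x 0 : ℤ) + sgnFive (x 1) * (x 1 : ℤ) +
        sgnFive (x 2) * (x 2 : ℤ) + sgnFive (x 3) * (x 3 : ℤ)) : ℤ) : ℂ) = 0 := by
      push_cast
      linear_combination hrel1
    exact_mod_cast h
  have hconc := key_five (x 0) (hdeg 0).2.1 (x 1) (hdeg 1).2.1 (x 2) (hdeg 2).2.1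
    (x 3) (hdeg 3).2.1 hrelZ
  have hvec : (![x 0, x 1, x 2, x 3] : Fin 4 → ℕ) = x := by
    funext i
    fin_cases i <;> rfl
  rw [hvec] at hconc
  obtain ⟨i, j, hi11, hj44, hrest⟩ := hconc
  -- `C(P)` has order `5`
  have hC5 : Nat.card (Subgroup.centralizer ((P : Subgroup G) : Set G)) = 5 := by
    rcases hfin with h2 | ⟨-, h⟩
    · exfalso
      obtain ⟨t', ht'⟩ := exists_prime_orderOf_dvd_card'
        (G := Subgroup.centralizer ((P : Subgroup G) : Set G)) 2 h2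
      obtain ⟨t, htdef⟩ : ∃ t : G, t = (t' : G) := ⟨_, rfl⟩
      have htC : t ∈ Subgroup.centralizer ((P : Subgroup G) : Set G) := by
        rw [htdef]; exact t'.2
      have ht2 : orderOf t = 2 := by rw [htdef, Subgroup.orderOf_coe]; exact ht'
      obtain ⟨l, hli, hlj⟩ := exists_third i j
      have hl16 := hrest l hli hlj
      have hlY : χ5 l ∈ Y := h16Y (χ5 l) (by rw [hxi l, hl16])
      obtain ⟨ha5, hx1, hxa⟩ := hχ5 l
      have hal : a5 l = 1 := by rw [(hdeg l).2.2, hl16]; decide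
      obtain ⟨n, k, hnk, hk1, hk2, hvalt⟩ := involution_value hGn 5 (by norm_num)
        (P : Subgroup G) hP (χ5 l) hx1 (a5 l) hxa t htC ht2
      rw [hxi l, hl16] at hnk hk2 hvalt
      rw [hal] at hnk
      have hk5 : k = 5 := by
        push_cast at hnk
        omega
      rw [hk5] at hvalt
      exact relA hG χ a (χ5 l) ha h45 h10 (by rw [hxi l, hl16]) (hrel (χ5 l) hlY) t ht2
        (by rw [hvalt]; norm_num)
    · exact h
  refine ⟨χ5 i, χ5 j, by rw [hxi i, hi11], by rw [hxi j, hj44], ?_⟩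
  intro ψ hψ1 hψY hψi hψj
  apply dvd_charDegree_of_vanish 5 (P : Subgroup G) hP ψ
  intro w hw hw1
  have hCw : Nat.card (Subgroup.centralizer ({w} : Set G)) = 5 := by
    rw [centralizer_singleton_eq (by norm_num) (P : Subgroup G) hP w hw hw1, hC5]
  apply eq_zero_of_sum_sq_eq 4 χ5 hinj5 (fun l => (hχ5 l).2.1) w a5
    (fun l => (hχ5 l).2.2 w w (isPPart_self (by norm_num) _ hP w hw hw1) hw hw1) ?_ ψ hψ1 ?_
  · rw [hCw]
    simp only [Fin.sum_univ_four]
    have hsq : ∀ l, a5 l ^ 2 = 1 := by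
      intro l
      rcases (hχ5 l).1 with h | h <;> rw [h] <;> norm_num
    rw [hsq 0, hsq 1, hsq 2, hsq 3]
    norm_num
  · intro l hl
    by_cases hli : l = i
    · exact hψi (by rw [hl, hli])
    · by_cases hlj : l = j
      · exact hψj (by rw [hl, hlj])
      · apply hψY
        rw [hl]
        exact h16Y (χ5 l) (by rw [hxi l, hrest l hli hlj])

set_option maxHeartbeats 3200000 in
/-- **The irreducible characters of a simple group of order `7920`**: there are exactly ten, of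
degrees `55, 1, 45, 10, 10, 10, 16, 16, 11, 44`. -/
theorem degrees7920 [IsSimpleGroup G] (hG : Nat.card G = 7920) :
    ∃ c : Fin 10 → IrrCharacter G, Function.Bijective c ∧
      ∀ j, Cfsg.charDegree (c j : G → ℂ) =
        (![55, 1, 45, 10, 10, 10, 16, 16, 11, 44] : Fin 10 → ℕ) j := by
  classical
  have hGn : ¬ (Nat.card G).Prime := by rw [hG]; norm_num
  obtain ⟨χ, a, Y, y, hinj, hYcard, hχ, hY, hrel, hall, hcase⟩ := block11 hG
  have hYne : Nat.card Y ≠ 0 := by rw [hYcard]; norm_num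
  obtain ⟨⟨η₀, hη₀⟩⟩ := (Nat.card_ne_zero.mp hYne).1
  rcases hcase with ⟨hy, h45, h10⟩ | ⟨hy, hx⟩
  swap
  · exfalso
    exact caseB_false hG χ a Y η₀ hη₀ (fun i => (hχ i).2.2)
      (fun η hη => by rw [(hY η hη).2, hy]) hrel hall hx
  have hY16 : ∀ η ∈ Y, Cfsg.charDegree (η : G → ℂ) = 16 := fun η hη => by
    rw [(hY η hη).2, hy]
  obtain ⟨θ₁, θ₂, hθ₁, hθ₂, hfive⟩ :=
    caseA_five hG χ a Y (fun i => (hχ i).2.2) hY16 hrel hall h45 h10
  -- the two elements of `Y`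
  have hncard : Y.ncard = 2 := by rw [← Nat.card_coe_set_eq]; exact hYcard
  obtain ⟨η₁, η₂, hη12, hYeq⟩ := Set.ncard_eq_two.mp hncard
  have hη₁Y : η₁ ∈ Y := by rw [hYeq]; simp
  have hη₂Y : η₂ ∈ Y := by rw [hYeq]; simp
  -- the trivial character
  obtain ⟨χ₁, hχ₁⟩ : ∃ χ₁ : IrrCharacter G, χ₁ = Cfsg.Agent.Lib.Helper77.trivIrr G := ⟨_, rfl⟩
  have hχ₁1 : ∀ g, (χ₁ : G → ℂ) g = 1 := by
    intro g
    rw [hχ₁]
    rfl
  have hdeg_of_one : ∀ ψ : IrrCharacter G, (ψ : G → ℂ) 1 = 1 →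
      Cfsg.charDegree (ψ : G → ℂ) = 1 := by
    intro ψ h
    have h1 := (Cfsg.Agent.Lib.Helper79.irr_charDegree ψ.2).1
    rw [h] at h1
    exact_mod_cast h1.symm
  have hlin : ∀ ψ : IrrCharacter G, (ψ : G → ℂ) 1 = 1 → ψ = χ₁ := by
    intro ψ h
    apply Subtype.ext
    funext g
    rw [hχ₁1 g]
    exact Cfsg.Agent.Lib.Helper79.linear_irr_commutator ψ.2 h
      (by rw [Cfsg.Agent.Lib.Helper90.BrauerDeg.commutator_eq_top_of_simple hGn]
          exact Subgroup.mem_top g)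
  -- the nine known characters
  obtain ⟨c9, hc9⟩ : ∃ c9 : Fin 9 → IrrCharacter G,
      c9 = ![χ₁, χ 0, χ 1, χ 2, χ 3, η₁, η₂, θ₁, θ₂] := ⟨_, rfl⟩
  have hc : ∀ j, c9 j =
      (![χ₁, χ 0, χ 1, χ 2, χ 3, η₁, η₂, θ₁, θ₂] : Fin 9 → IrrCharacter G) j := fun j => by
    rw [hc9]
  have hdeg9 : ∀ j, Cfsg.charDegree (c9 j : G → ℂ) =
      (![1, 45, 10, 10, 10, 16, 16, 11, 44] : Fin 9 → ℕ) j := by
    intro j
    rw [hc9]
    fin_cases j
    · exact hdeg_of_one χ₁ (hχ₁1 1)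
    · exact h45
    · exact h10 1 (by decide)
    · exact h10 2 (by decide)
    · exact h10 3 (by decide)
    · exact hY16 η₁ hη₁Y
    · exact hY16 η₂ hη₂Y
    · exact hθ₁
    · exact hθ₂
  have hinj9 : Function.Injective c9 := by
    apply injective_nine c9 (fun ψ => Cfsg.charDegree (ψ : G → ℂ)) hdeg9
    · rw [hc 2, hc 3]
      show χ 1 ≠ χ 2
      exact fun h => absurd (hinj h) (by decide)
    · rw [hc 2, hc 4]
      show χ 1 ≠ χ 3
      exact fun h => absurd (hinj h) (by decide)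
    · rw [hc 3, hc 4]
      show χ 2 ≠ χ 3
      exact fun h => absurd (hinj h) (by decide)
    · rw [hc 5, hc 6]
      exact hη12
  have : Fintype G := Fintype.ofFinite G
  have : Finite (IrrCharacter G) := Cfsg.Agent.Lib.Helper81.irr_finite G
  have : Fintype (IrrCharacter G) := Fintype.ofFinite _
  have htot := Cfsg.Agent.Lib.Helper80.sum_charDegree_sq (G := G)
  rw [hG] at htot
  obtain ⟨T, hT⟩ : ∃ T : Finset (IrrCharacter G), T = Finset.univ.image c9 := ⟨_, rfl⟩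
  have hsumT : ∑ θ ∈ T, Cfsg.charDegree (θ : G → ℂ) ^ 2 = 4895 := by
    rw [hT, Finset.sum_image (fun i _ j _ h => hinj9 h),
      Finset.sum_congr rfl (fun j _ => by rw [hdeg9 j])]
    exact sum_nine
  have hsplit := Finset.sum_sdiff (Finset.subset_univ T)
    (f := fun θ : IrrCharacter G => Cfsg.charDegree (θ : G → ℂ) ^ 2)
  rw [hsumT, htot] at hsplit
  have hR : ∑ θ ∈ Finset.univ \ T, Cfsg.charDegree (θ : G → ℂ) ^ 2 = 3025 := by omega
  -- every character outside `T` has degree divisible by `55`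
  have h55 : ∀ ψ ∈ Finset.univ \ T, 55 ∣ Cfsg.charDegree (ψ : G → ℂ) := by
    intro ψ hψ
    have hψT : ψ ∉ T := (Finset.mem_sdiff.mp hψ).2
    have hne : ∀ j, ψ ≠ c9 j := by
      intro j h
      apply hψT
      rw [hT, h]
      exact Finset.mem_image_of_mem _ (Finset.mem_univ j)
    have hψ1 : (ψ : G → ℂ) 1 ≠ 1 := fun h => hne 0 ((hlin ψ h).trans (hc 0).symm)
    have hψχ : ∀ i, ψ ≠ χ i := by
      intro i
      fin_cases i
      · exact fun h => hne 1 (h.trans (hc 1).symm)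
      · exact fun h => hne 2 (h.trans (hc 2).symm)
      · exact fun h => hne 3 (h.trans (hc 3).symm)
      · exact fun h => hne 4 (h.trans (hc 4).symm)
    have hψY : ψ ∉ Y := by
      rw [hYeq]
      intro h
      rcases h with h | h
      · exact hne 5 (h.trans (hc 5).symm)
      · exact hne 6 (h.trans (hc 6).symm)
    have h11 : 11 ∣ Cfsg.charDegree (ψ : G → ℂ) := by
      rcases hall ψ with h | ⟨i, h⟩ | h | h
      · exact absurd h hψ1
      · exact absurd h (hψχ i)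
      · exact absurd h hψY
      · exact h
    have h5 := hfive ψ hψ1 hψY (fun h => hne 7 (h.trans (hc 7).symm))
      (fun h => hne 8 (h.trans (hc 8).symm))
    exact Nat.Coprime.mul_dvd_of_dvd_of_dvd (by norm_num : Nat.Coprime 5 11) h5 h11
  have hRne : (Finset.univ \ T).Nonempty := by
    rw [Finset.nonempty_iff_ne_empty]
    intro h
    rw [h, Finset.sum_empty] at hR
    omega
  obtain ⟨ψ, hψ⟩ := hRne
  have hle : Cfsg.charDegree (ψ : G → ℂ) ^ 2 ≤ 3025 := by
    rw [← hR]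
    exact Finset.single_le_sum
      (f := fun θ : IrrCharacter G => Cfsg.charDegree (θ : G → ℂ) ^ 2)
      (fun _ _ => Nat.zero_le _) hψ
  have hψ55 : Cfsg.charDegree (ψ : G → ℂ) = 55 := by
    obtain ⟨q, hq⟩ := h55 ψ hψ
    have hpos := (Cfsg.Agent.Lib.Helper79.irr_charDegree ψ.2).2.1
    rw [hq] at hle hpos ⊢
    have hq1 : q = 1 := by
      by_contra hq1
      have : 2 ≤ q := by omega
      nlinarith
    rw [hq1]
  have hψT : ψ ∉ T := (Finset.mem_sdiff.mp hψ).2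
  refine ⟨Fin.cons (α := fun _ => IrrCharacter G) ψ c9, ?_, ?_⟩
  · apply bijective_of_sum_sq
    · rw [Fin.cons_injective_iff]
      refine ⟨?_, hinj9⟩
      rintro ⟨j, hj⟩
      apply hψT
      rw [hT, ← hj]
      exact Finset.mem_image_of_mem _ (Finset.mem_univ j)
    · rw [Fin.sum_univ_succ, hG]
      simp only [Fin.cons_zero, Fin.cons_succ]
      rw [hψ55, Finset.sum_congr rfl (fun j _ => by rw [hdeg9 j]), sum_nine]
      norm_num
  · intro j
    refine Fin.cases ?_ (fun i => ?_) j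
    · rw [Fin.cons_zero]
      exact hψ55
    · rw [Fin.cons_succ, hdeg9 i]
      rfl

end Cfsg.Agent.Lib.Helper91.M11
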