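import Mathlib
import Cfsg.Agent.Lib.Helper91.M11Deg

set_option autoImplicit false

/-!
# Involution centralizers in a simple group of order `7920`

The relations satisfied by the ten irreducible characters on the principal `11`-block and the
principal `5`-block determine their values at an involution `t`, hence `|C(t)| = 48`.
-/

namespace Cfsg.Agent.Lib.Helper91.M11

open Cfsg Cfsg.Agent.Lib.Helper17 Cfsg.Agent.Lib.Helper91.SS

variable {G : Type*} [Group G] [Finite G]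

/-- among four indices, the two indices different from two given distinct ones -/
theorem exists_two_others : ∀ i j : Fin 4, i ≠ j → ∃ l₁ l₂ : Fin 4, l₁ ≠ l₂ ∧ l₁ ≠ i ∧ l₁ ≠ j ∧
    l₂ ≠ i ∧ l₂ ≠ j ∧ (Finset.univ : Finset (Fin 4)) = {l₁, l₂, i, j} := by
  decide

/-- a sum over four distinct indices exhausting `Fin 4` -/
theorem sum_four_eq {M : Type*} [AddCommMonoid M] (F : Fin 4 → M) (l₁ l₂ i j : Fin 4)
    (h12 : l₁ ≠ l₂) (h1i : l₁ ≠ i) (h1j : l₁ ≠ j) (h2i : l₂ ≠ i) (h2j : l₂ ≠ j) (hij : i ≠ j)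
    (hu : (Finset.univ : Finset (Fin 4)) = {l₁, l₂, i, j}) :
    ∑ m, F m = F l₁ + (F l₂ + (F i + F j)) := by
  rw [hu, Finset.sum_insert (by simp [h12, h1i, h1j]), Finset.sum_insert (by simp [h2i, h2j]),
    Finset.sum_pair hij]

/-- a sum over `Fin 10` written out -/
theorem sum_univ_ten' {M : Type*} [AddCommMonoid M] (F : Fin 10 → M) :
    ∑ m, F m = F 0 + F 1 + F 2 + F 3 + F 4 + F 5 + F 6 + F 7 + F 8 + F 9 := by
  simp only [Fin.sum_univ_succ, Fin.sum_univ_zero, add_zero]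
  simp only [← add_assoc]
  rfl

/-- first step of the determination of the character values at an involution -/
def chkInv1 (kA kB kC kE kG : ℕ) : Prop :=
  kG ≠ 0 →
  1 + (45 - 4 * (kG : ℤ)) - (10 - 4 * (kA : ℤ)) - (10 - 4 * (kB : ℤ)) - (10 - 4 * (kC : ℤ)) -
      (16 - 4 * (kE : ℤ)) = 0 →
  -45 * (16 - 4 * (kE : ℤ)) ^ 2 + 720 + 16 * (45 - 4 * (kG : ℤ)) ^ 2 -
      72 * ((10 - 4 * (kA : ℤ)) ^ 2 + (10 - 4 * (kB : ℤ)) ^ 2 + (10 - 4 * (kC : ℤ)) ^ 2) = 0 →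
  kE = 4 ∧ kG = 12 ∧ kA + kB + kC = 8 ∧
    (10 - 4 * (kA : ℤ)) ^ 2 + (10 - 4 * (kB : ℤ)) ^ 2 + (10 - 4 * (kC : ℤ)) ^ 2 = 12

instance (kA kB kC kE kG : ℕ) : Decidable (chkInv1 kA kB kC kE kG) := by
  unfold chkInv1
  infer_instance

theorem key_inv1 : ∀ kA ∈ List.range 6, ∀ kB ∈ List.range 6, ∀ kC ∈ List.range 6,
    ∀ kE ∈ List.range 9, ∀ kG ∈ List.range 23, chkInv1 kA kB kC kE kG := by
  decide +kernel

/-- second step of the determination of the character values at an involution -/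
def chkInv2 (kD kF kH : ℕ) : Prop :=
  1 + (11 - 4 * (kD : ℤ)) - (44 - 4 * (kF : ℤ)) = 0 →
  55 * (55 - 4 * (kH : ℤ)) + 1 - 135 - 20 + 11 * (11 - 4 * (kD : ℤ)) +
      44 * (44 - 4 * (kF : ℤ)) = 0 →
  ((55 - 4 * (kH : ℤ)) ^ 2 + 22 + (11 - 4 * (kD : ℤ)) ^ 2 + (44 - 4 * (kF : ℤ)) ^ 2).toNat ∣ 7920 →
  (55 - 4 * (kH : ℤ)) ^ 2 + 22 + (11 - 4 * (kD : ℤ)) ^ 2 + (44 - 4 * (kF : ℤ)) ^ 2 = 48

instance (kD kF kH : ℕ) : Decidable (chkInv2 kD kF kH) := by
  unfold chkInv2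
  infer_instance

theorem key_inv2 : ∀ kD ∈ List.range 6, ∀ kF ∈ List.range 23, ∀ kH ∈ List.range 28,
    chkInv2 kD kF kH := by
  decide +kernel

set_option maxHeartbeats 1600000 in
/-- The first configuration of the principal `11`-block (degrees `1, 45, 10, 10, 10, 16, 16`):
a Sylow `5`-subgroup `P` is self-centralizing with `[N(P) : C(P)] = 4`, the principal `5`-block
consists of the trivial character, the two characters of degree `16` and characters of degrees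
`11` and `44`, and every nonlinear irreducible character outside the two principal blocks has
degree divisible by `5`. -/
theorem caseA_five' [IsSimpleGroup G] (hG : Nat.card G = 7920) (χ : Fin 4 → IrrCharacter G)
    (a : Fin 4 → ℤ) (Y : Set (IrrCharacter G))
    (ha : ∀ i, a i = sgnEleven (Cfsg.charDegree (χ i : G → ℂ)))
    (hY : ∀ η ∈ Y, Cfsg.charDegree (η : G → ℂ) = 16)
    (hrel : ∀ η ∈ Y, ∀ g : G, ¬ 11 ∣ orderOf g →
          (-1 : ℂ) * (η : G → ℂ) g + 1 + ∑ i, (a i : ℂ) * (χ i : G → ℂ) g = 0)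
    (hall : ∀ ψ : IrrCharacter G, (ψ : G → ℂ) 1 = 1 ∨ (∃ i, ψ = χ i) ∨ ψ ∈ Y ∨
          11 ∣ Cfsg.charDegree (ψ : G → ℂ))
    (h45 : Cfsg.charDegree (χ 0 : G → ℂ) = 45)
    (h10 : ∀ j, j ≠ 0 → Cfsg.charDegree (χ j : G → ℂ) = 10) (P : Sylow 5 G) :
    (Subgroup.centralizer ((P : Subgroup G) : Set G)).relIndex
        (Subgroup.normalizer ((P : Subgroup G) : Set G)) = 4 ∧
    Nat.card (Subgroup.centralizer ((P : Subgroup G) : Set G)) = 5 ∧
    ∃ θ₁ θ₂ η₁ η₂ : IrrCharacter G, Cfsg.charDegree (θ₁ : G → ℂ) = 11 ∧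
      Cfsg.charDegree (θ₂ : G → ℂ) = 44 ∧ η₁ ∈ Y ∧ η₂ ∈ Y ∧ η₁ ≠ η₂ ∧
      (∀ g : G, ¬ 5 ∣ orderOf g → 1 + (η₁ : G → ℂ) g + (η₂ : G → ℂ) g + (θ₁ : G → ℂ) g -
        (θ₂ : G → ℂ) g = 0) ∧
      ∀ ψ : IrrCharacter G, (ψ : G → ℂ) 1 ≠ 1 → ψ ∉ Y → ψ ≠ θ₁ → ψ ≠ θ₂ →
        5 ∣ Cfsg.charDegree (ψ : G → ℂ) := by
  classical
  have : Fact (Nat.Prime 5) := ⟨by norm_num⟩
  have hGn : ¬ (Nat.card G).Prime := by rw [hG]; norm_num
  obtain ⟨hP, hr24, hfin⟩ := sylow5 hG P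
  have hdegs : ∀ ψ : IrrCharacter G, (ψ : G → ℂ) 1 ≠ 1 →
      Cfsg.charDegree (ψ : G → ℂ) = 10 ∨ Cfsg.charDegree (ψ : G → ℂ) = 45 ∨
      Cfsg.charDegree (ψ : G → ℂ) = 16 ∨ 11 ∣ Cfsg.charDegree (ψ : G → ℂ) := by
    intro ψ hψ
    rcases hall ψ with h | ⟨i, rfl⟩ | h | h
    · exact absurd h hψ
    · by_cases hi : i = 0
      · rw [hi]; exact Or.inr (Or.inl h45)
      · exact Or.inl (h10 i hi)
    · exact Or.inr (Or.inr (Or.inl (hY ψ h)))
    · exact Or.inr (Or.inr (Or.inr h))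
  -- a character of degree `16` lies in `Y`
  have h16Y : ∀ ψ : IrrCharacter G, Cfsg.charDegree (ψ : G → ℂ) = 16 → ψ ∈ Y := by
    intro ψ hψ
    rcases hall ψ with h | ⟨i, rfl⟩ | h | h
    · exfalso
      have h1 := (Cfsg.Agent.Lib.Helper79.irr_charDegree ψ.2).1
      rw [hψ, h] at h1
      norm_num at h1
    · exfalso
      by_cases hi : i = 0
      · rw [hi, h45] at hψ; omega
      · rw [h10 i hi] at hψ; omega
    · exact h
    · rw [hψ] at h; omega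
  have hm : (Subgroup.centralizer ((P : Subgroup G) : Set G)).relIndex
      (Subgroup.normalizer ((P : Subgroup G) : Set G)) = 4 := by
    rcases hr24 with hm | hm
    · exfalso
      obtain ⟨χ5, η5, a5, c5, hχ1, hη1, hcases, hval, hrel5⟩ := block_m2_gen hGn P hP hm
      obtain ⟨hxd, hxpos, hxdvd⟩ := Cfsg.Agent.Lib.Helper79.irr_charDegree χ5.2
      obtain ⟨hyd, hypos, hydvd⟩ := Cfsg.Agent.Lib.Helper79.irr_charDegree η5.2
      obtain ⟨x, hxdef⟩ : ∃ x, x = Cfsg.charDegree (χ5 : G → ℂ) := ⟨_, rfl⟩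
      obtain ⟨y, hydef⟩ : ∃ y, y = Cfsg.charDegree (η5 : G → ℂ) := ⟨_, rfl⟩
      have hdx := hdegs χ5 hχ1
      have hdy := hdegs η5 hη1
      rw [← hxdef] at hxd hxpos hxdvd hcases hdx
      rw [← hydef] at hyd hypos hydvd hcases hdy
      rw [hG] at hxdvd hydvd
      have hx1 : x ≠ 1 := by
        intro h
        apply hχ1
        rw [hxd, h]
        norm_num
      have hy1 : y ≠ 1 := by
        intro h
        apply hη1
        rw [hyd, h]
        norm_num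
      have hrelxy : (x % 5 = 1 ∧ y = x + 1) ∨ (x % 5 = 4 ∧ x = y + 1) := by
        rcases hcases with ⟨-, -, h1, h2⟩ | ⟨-, -, h1, h2⟩
        · exact Or.inl ⟨h1, h2⟩
        · exact Or.inr ⟨h1, h2⟩
      have hx' : x = 16 ∨ 11 ∣ x := by
        rcases hdx with h | h | h | h
        · rcases hrelxy with ⟨h1, -⟩ | ⟨h1, -⟩ <;> omega
        · rcases hrelxy with ⟨h1, -⟩ | ⟨h1, -⟩ <;> omega
        · exact Or.inl h
        · exact Or.inr h
      exact (arith5_m2 x y hxdvd hydvd hx1 hy1 hrelxy).1 hx' hdy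
    · exact hm
  obtain ⟨χ5, a5, hinj5, hχ5, hrel5, -⟩ := block_m4_five hGn P hP hm
  obtain ⟨x, hxdef⟩ : ∃ x : Fin 4 → ℕ, x = fun i => Cfsg.charDegree (χ5 i : G → ℂ) := ⟨_, rfl⟩
  have hxi : ∀ i, Cfsg.charDegree (χ5 i : G → ℂ) = x i := fun i => by rw [hxdef]
  have hdeg : ∀ i, (χ5 i : G → ℂ) 1 = (x i : ℂ) ∧ x i ∈ ([16, 11, 44, 66] : List ℕ) ∧
      a5 i = sgnFive (x i) := by
    intro i
    obtain ⟨ha5, hx1, hxa⟩ := hχ5 i
    obtain ⟨hxd, hxpos, hxdvd⟩ := Cfsg.Agent.Lib.Helper79.irr_charDegree (χ5 i).2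
    have hmod := Cfsg.Agent.Lib.Helper90.BrauerDeg.degree_modEq (χ5 i).2 5 (P : Subgroup G) hP
      (a5 i) (fun y hy hy1 => hxa y y (isPPart_self (by norm_num) _ hP y hy hy1) hy hy1)
    have hmod' : ((Cfsg.charDegree (χ5 i : G → ℂ) : ℕ) : ℤ) % 5 = a5 i % 5 := by
      have := hmod
      unfold Int.ModEq at this
      exact_mod_cast this
    have hsq := Cfsg.Agent.Lib.Helper80.charDegree_sq_le_card (χ5 i).2
    have hd := hdegs (χ5 i) hx1
    rw [hxi i] at hxd hxdvd hmod' hsq hd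
    rw [hG] at hxdvd hsq
    have hx1' : x i ≠ 1 := by
      intro h
      apply hx1
      rw [hxd, h]
      norm_num
    have hmod5 : x i % 5 = 1 ∨ x i % 5 = 4 := by
      rcases ha5 with h' | h' <;> rw [h'] at hmod' <;> omega
    have h11 : x i = 16 ∨ 11 ∣ x i := by
      rcases hd with h | h | h | h
      · omega
      · omega
      · exact Or.inl h
      · exact Or.inr h
    refine ⟨hxd, list5A (x i) hxdvd hx1' hsq hmod5 h11, ?_⟩
    unfold sgnFive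
    rcases ha5 with h' | h' <;> rw [h'] at hmod' ⊢
    · rw [if_pos (by omega)]
    · rw [if_neg (by omega)]
  have hrel1 := hrel5 1 (by rw [orderOf_one]; norm_num)
  simp only [Fin.sum_univ_four] at hrel1
  rw [(hdeg 0).1, (hdeg 1).1, (hdeg 2).1, (hdeg 3).1, (hdeg 0).2.2, (hdeg 1).2.2, (hdeg 2).2.2,
    (hdeg 3).2.2] at hrel1
  have hrelZ : 1 + (sgnFive (x 0) * (x 0 : ℤ) + sgnFive (x 1) * (x 1 : ℤ) +
      sgnFive (x 2) * (x 2 : ℤ) + sgnFive (x 3) * (x 3 : ℤ)) = 0 := by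
    have h : ((1 + (sgnFive (x 0) * (x 0 : ℤ) + sgnFive (x 1) * (x 1 : ℤ) +
        sgnFive (x 2) * (x 2 : ℤ) + sgnFive (x 3) * (x 3 : ℤ)) : ℤ) : ℂ) = 0 := by
      push_cast
      linear_combination hrel1
    exact_mod_cast h
  have hconc := key_five (x 0) (hdeg 0).2.1 (x 1) (hdeg 1).2.1 (x 2) (hdeg 2).2.1
    (x 3) (hdeg 3).2.1 hrelZ
  have hvec : (![x 0, x 1, x 2, x 3] : Fin 4 → ℕ) = x := by
    funext i
    fin_cases i <;> rfl
  rw [hvec] at hconc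
  obtain ⟨i, j, hi11, hj44, hrest⟩ := hconc
  -- `C(P)` has order `5`
  have hC5 : Nat.card (Subgroup.centralizer ((P : Subgroup G) : Set G)) = 5 := by
    rcases hfin with h2 | ⟨-, h⟩
    · exfalso
      obtain ⟨t', ht'⟩ := exists_prime_orderOf_dvd_card'
        (G := Subgroup.centralizer ((P : Subgroup G) : Set G)) 2 h2
      obtain ⟨t, htdef⟩ : ∃ t : G, t = (t' : G) := ⟨_, rfl⟩
      have htC : t ∈ Subgroup.centralizer ((P : Subgroup G) : Set G) := by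
        rw [htdef]; exact t'.2
      have ht2 : orderOf t = 2 := by rw [htdef, Subgroup.orderOf_coe]; exact ht'
      obtain ⟨l, hli, hlj⟩ := exists_third i j
      have hl16 := hrest l hli hlj
      have hlY : χ5 l ∈ Y := h16Y (χ5 l) (by rw [hxi l, hl16])
      obtain ⟨ha5, hx1, hxa⟩ := hχ5 l
      have hal : a5 l = 1 := by rw [(hdeg l).2.2, hl16]; decide
      obtain ⟨n, k, hnk, hk1, hk2, hvalt⟩ := involution_value hGn 5 (by norm_num)
        (P : Subgroup G) hP (χ5 l) hx1 (a5 l) hxa t htC ht2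
      rw [hxi l, hl16] at hnk hk2 hvalt
      rw [hal] at hnk
      have hk5 : k = 5 := by
        push_cast at hnk
        omega
      rw [hk5] at hvalt
      exact relA hG χ a (χ5 l) ha h45 h10 (by rw [hxi l, hl16]) (hrel (χ5 l) hlY) t ht2
        (by rw [hvalt]; norm_num)
    · exact h
  have hij : i ≠ j := by
    intro h
    rw [h, hj44] at hi11
    omega
  obtain ⟨l₁, l₂, h12, h1i, h1j, h2i, h2j, hu⟩ := exists_two_others i j hij
  have hl₁16 := hrest l₁ h1i h1j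
  have hl₂16 := hrest l₂ h2i h2j
  refine ⟨hm, hC5, χ5 i, χ5 j, χ5 l₁, χ5 l₂, by rw [hxi i, hi11], by rw [hxi j, hj44],
    h16Y (χ5 l₁) (by rw [hxi l₁, hl₁16]), h16Y (χ5 l₂) (by rw [hxi l₂, hl₂16]),
    fun h => h12 (hinj5 h), ?_, ?_⟩
  · intro g hg
    have h := hrel5 g hg
    rw [sum_four_eq _ l₁ l₂ i j h12 h1i h1j h2i h2j hij hu, (hdeg l₁).2.2, (hdeg l₂).2.2,
      (hdeg i).2.2, (hdeg j).2.2, hl₁16, hl₂16, hi11, hj44] at h
    have e16 : sgnFive 16 = 1 := by decide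
    have e11 : sgnFive 11 = 1 := by decide
    have e44 : sgnFive 44 = -1 := by decide
    rw [e16, e11, e44] at h
    push_cast at h
    linear_combination h
  · intro ψ hψ1 hψY hψi hψj
    apply dvd_charDegree_of_vanish 5 (P : Subgroup G) hP ψ
    intro w hw hw1
    have hCw : Nat.card (Subgroup.centralizer ({w} : Set G)) = 5 := by
      rw [centralizer_singleton_eq (by norm_num) (P : Subgroup G) hP w hw hw1, hC5]
    apply eq_zero_of_sum_sq_eq 4 χ5 hinj5 (fun l => (hχ5 l).2.1) w a5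
      (fun l => (hχ5 l).2.2 w w (isPPart_self (by norm_num) _ hP w hw hw1) hw hw1) ?_ ψ hψ1 ?_
    · rw [hCw]
      simp only [Fin.sum_univ_four]
      have hsq : ∀ l, a5 l ^ 2 = 1 := by
        intro l
        rcases (hχ5 l).1 with h | h <;> rw [h] <;> norm_num
      rw [hsq 0, hsq 1, hsq 2, hsq 3]
      norm_num
    · intro l hl
      by_cases hli : l = i
      · exact hψi (by rw [hl, hli])
      · by_cases hlj : l = j
        · exact hψj (by rw [hl, hlj])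
        · apply hψY
          rw [hl]
          exact h16Y (χ5 l) (by rw [hxi l, hrest l hli hlj])

/-- The principal `11`-block of a simple group of order `7920`, final form. -/
theorem block11A [IsSimpleGroup G] (hG : Nat.card G = 7920) :
    ∃ (χ : Fin 4 → IrrCharacter G) (a : Fin 4 → ℤ) (Y : Set (IrrCharacter G)),
      Function.Injective χ ∧ Nat.card Y = 2 ∧
      (∀ i, (χ i : G → ℂ) 1 ≠ 1 ∧ χ i ∉ Y ∧
        a i = sgnEleven (Cfsg.charDegree (χ i : G → ℂ))) ∧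
      (∀ η ∈ Y, Cfsg.charDegree (η : G → ℂ) = 16) ∧
      (∀ η ∈ Y, ∀ g : G, ¬ 11 ∣ orderOf g →
          (-1 : ℂ) * (η : G → ℂ) g + 1 + ∑ i, (a i : ℂ) * (χ i : G → ℂ) g = 0) ∧
      (∀ ψ : IrrCharacter G, (ψ : G → ℂ) 1 = 1 ∨ (∃ i, ψ = χ i) ∨ ψ ∈ Y ∨
          11 ∣ Cfsg.charDegree (ψ : G → ℂ)) ∧
      Cfsg.charDegree (χ 0 : G → ℂ) = 45 ∧
      ∀ j, j ≠ 0 → Cfsg.charDegree (χ j : G → ℂ) = 10 := by
  obtain ⟨χ, a, Y, y, hinj, hYcard, hχ, hY, hrel, hall, hcase⟩ := block11 hG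
  have hYne : Nat.card Y ≠ 0 := by rw [hYcard]; norm_num
  obtain ⟨⟨η₀, hη₀⟩⟩ := (Nat.card_ne_zero.mp hYne).1
  rcases hcase with ⟨hy, h45, h10⟩ | ⟨hy, hx⟩
  swap
  · exfalso
    exact caseB_false hG χ a Y η₀ hη₀ (fun i => (hχ i).2.2)
      (fun η hη => by rw [(hY η hη).2, hy]) hrel hall hx
  exact ⟨χ, a, Y, hinj, hYcard, hχ, fun η hη => by rw [(hY η hη).2, hy], hrel, hall, h45, h10⟩

/-- The Sylow `5`-subgroups of a simple group of order `7920`: `|N(P)| = 20`, `C(P) = P`. -/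
theorem sylow5_full [IsSimpleGroup G] (hG : Nat.card G = 7920) (P : Sylow 5 G) :
    Nat.card (P : Subgroup G) = 5 ∧
    Nat.card (Subgroup.normalizer ((P : Subgroup G) : Set G)) = 20 ∧
    Subgroup.centralizer ((P : Subgroup G) : Set G) = (P : Subgroup G) ∧
    (Subgroup.centralizer ((P : Subgroup G) : Set G)).relIndex
      (Subgroup.normalizer ((P : Subgroup G) : Set G)) = 4 := by
  have : Fact (Nat.Prime 5) := ⟨by norm_num⟩
  have hGn : ¬ (Nat.card G).Prime := by rw [hG]; norm_num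
  obtain ⟨χ, a, Y, hinj, hYcard, hχ, hY16, hrel, hall, h45, h10⟩ := block11A hG
  obtain ⟨hm, hC5, -⟩ := caseA_five' hG χ a Y (fun i => (hχ i).2.2) hY16 hrel hall h45 h10 P
  obtain ⟨hP, -, -⟩ := sylow5 hG P
  obtain ⟨-, -, hr3, hPC⟩ := relIndex_centralizer_sylow_prime hGn 5 P hP
  rw [hm, hC5] at hr3
  refine ⟨hP, by omega, ?_, hm⟩
  exact (Subgroup.eq_of_le_of_card_ge hPC (by rw [hC5, hP])).symm

set_option maxHeartbeats 3200000 in
/-- **The irreducible characters of a simple group of order `7920`**, with the relations of the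
principal `11`-block and of the principal `5`-block. -/
theorem table7920 [IsSimpleGroup G] (hG : Nat.card G = 7920) :
    ∃ ψ χ₁ χ45 χa χb χc η₁ η₂ θ₁ θ₂ : IrrCharacter G,
      Function.Bijective
        (![ψ, χ₁, χ45, χa, χb, χc, η₁, η₂, θ₁, θ₂] : Fin 10 → IrrCharacter G) ∧
      Cfsg.charDegree (ψ : G → ℂ) = 55 ∧ (∀ g, (χ₁ : G → ℂ) g = 1) ∧
      Cfsg.charDegree (χ45 : G → ℂ) = 45 ∧ Cfsg.charDegree (χa : G → ℂ) = 10 ∧
      Cfsg.charDegree (χb : G → ℂ) = 10 ∧ Cfsg.charDegree (χc : G → ℂ) = 10 ∧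
      Cfsg.charDegree (η₁ : G → ℂ) = 16 ∧ Cfsg.charDegree (η₂ : G → ℂ) = 16 ∧
      Cfsg.charDegree (θ₁ : G → ℂ) = 11 ∧ Cfsg.charDegree (θ₂ : G → ℂ) = 44 ∧
      (∀ g : G, ¬ 11 ∣ orderOf g → 1 + (χ45 : G → ℂ) g - (χa : G → ℂ) g - (χb : G → ℂ) g -
        (χc : G → ℂ) g - (η₁ : G → ℂ) g = 0) ∧
      (∀ g : G, ¬ 11 ∣ orderOf g → 1 + (χ45 : G → ℂ) g - (χa : G → ℂ) g - (χb : G → ℂ) g -
        (χc : G → ℂ) g - (η₂ : G → ℂ) g = 0) ∧
      (∀ t : G, orderOf t = 2 → 1 + (χ45 : G → ℂ) t * (χ45 : G → ℂ) t / 45 -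
        (χa : G → ℂ) t * (χa : G → ℂ) t / 10 - (χb : G → ℂ) t * (χb : G → ℂ) t / 10 -
        (χc : G → ℂ) t * (χc : G → ℂ) t / 10 - (η₁ : G → ℂ) t * (η₁ : G → ℂ) t / 16 = 0) ∧
      (∀ g : G, ¬ 5 ∣ orderOf g → 1 + (η₁ : G → ℂ) g + (η₂ : G → ℂ) g + (θ₁ : G → ℂ) g -
        (θ₂ : G → ℂ) g = 0) := by
  classical
  have : Fact (Nat.Prime 11) := ⟨by norm_num⟩
  have hGn : ¬ (Nat.card G).Prime := by rw [hG]; norm_num
  obtain ⟨χ, a, Y, hinj, hYcard, hχ, hY16, hrel, hall, h45, h10⟩ := block11A hG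
  obtain ⟨P⟩ := (Sylow.nonempty : Nonempty (Sylow 5 G))
  obtain ⟨-, -, θ₁, θ₂, η₁, η₂, hθ₁, hθ₂, hη₁Y, hη₂Y, hη12, hR5, hfive⟩ :=
    caseA_five' hG χ a Y (fun i => (hχ i).2.2) hY16 hrel hall h45 h10 P
  have : Finite (IrrCharacter G) := Cfsg.Agent.Lib.Helper81.irr_finite G
  -- the two elements of `Y`
  have hncard : Y.ncard = 2 := by rw [← Nat.card_coe_set_eq]; exact hYcard
  have hYeq : Y = {η₁, η₂} := by
    have hsub : ({η₁, η₂} : Set (IrrCharacter G)) ⊆ Y := by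
      intro x hx
      rcases hx with rfl | hx
      · exact hη₁Y
      · rw [Set.mem_singleton_iff] at hx
        rw [hx]
        exact hη₂Y
    exact (Set.eq_of_subset_of_ncard_le hsub (by rw [hncard, Set.ncard_pair hη12])
      (Set.toFinite Y)).symm
  -- the trivial character
  obtain ⟨χ₁, hχ₁⟩ : ∃ χ₁ : IrrCharacter G, χ₁ = Cfsg.Agent.Lib.Helper77.trivIrr G := ⟨_, rfl⟩
  have hχ₁1 : ∀ g, (χ₁ : G → ℂ) g = 1 := by
    intro g
    rw [hχ₁]
    rfl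
  have hdeg_of_one : ∀ ψ : IrrCharacter G, (ψ : G → ℂ) 1 = 1 →
      Cfsg.charDegree (ψ : G → ℂ) = 1 := by
    intro ψ h
    have h1 := (Cfsg.Agent.Lib.Helper79.irr_charDegree ψ.2).1
    rw [h] at h1
    exact_mod_cast h1.symm
  have hlin : ∀ ψ : IrrCharacter G, (ψ : G → ℂ) 1 = 1 → ψ = χ₁ := by
    intro ψ h
    apply Subtype.ext
    funext g
    rw [hχ₁1 g]
    exact Cfsg.Agent.Lib.Helper79.linear_irr_commutator ψ.2 h
      (by rw [Cfsg.Agent.Lib.Helper90.BrauerDeg.commutator_eq_top_of_simple hGn]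
          exact Subgroup.mem_top g)
  -- the nine known characters
  obtain ⟨c9, hc9⟩ : ∃ c9 : Fin 9 → IrrCharacter G,
      c9 = ![χ₁, χ 0, χ 1, χ 2, χ 3, η₁, η₂, θ₁, θ₂] := ⟨_, rfl⟩
  have hc : ∀ j, c9 j =
      (![χ₁, χ 0, χ 1, χ 2, χ 3, η₁, η₂, θ₁, θ₂] : Fin 9 → IrrCharacter G) j := fun j => by
    rw [hc9]
  have hdeg9 : ∀ j, Cfsg.charDegree (c9 j : G → ℂ) =
      (![1, 45, 10, 10, 10, 16, 16, 11, 44] : Fin 9 → ℕ) j := by
    intro j
    rw [hc9]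
    fin_cases j
    · exact hdeg_of_one χ₁ (hχ₁1 1)
    · exact h45
    · exact h10 1 (by decide)
    · exact h10 2 (by decide)
    · exact h10 3 (by decide)
    · exact hY16 η₁ hη₁Y
    · exact hY16 η₂ hη₂Y
    · exact hθ₁
    · exact hθ₂
  have hinj9 : Function.Injective c9 := by
    apply injective_nine c9 (fun ψ => Cfsg.charDegree (ψ : G → ℂ)) hdeg9
    · rw [hc 2, hc 3]
      show χ 1 ≠ χ 2
      exact fun h => absurd (hinj h) (by decide)
    · rw [hc 2, hc 4]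
      show χ 1 ≠ χ 3
      exact fun h => absurd (hinj h) (by decide)
    · rw [hc 3, hc 4]
      show χ 2 ≠ χ 3
      exact fun h => absurd (hinj h) (by decide)
    · rw [hc 5, hc 6]
      exact hη12
  have : Fintype G := Fintype.ofFinite G
  have : Fintype (IrrCharacter G) := Fintype.ofFinite _
  have htot := Cfsg.Agent.Lib.Helper80.sum_charDegree_sq (G := G)
  rw [hG] at htot
  obtain ⟨T, hT⟩ : ∃ T : Finset (IrrCharacter G), T = Finset.univ.image c9 := ⟨_, rfl⟩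
  have hsumT : ∑ θ ∈ T, Cfsg.charDegree (θ : G → ℂ) ^ 2 = 4895 := by
    rw [hT, Finset.sum_image (fun i _ j _ h => hinj9 h),
      Finset.sum_congr rfl (fun j _ => by rw [hdeg9 j])]
    exact sum_nine
  have hsplit := Finset.sum_sdiff (Finset.subset_univ T)
    (f := fun θ : IrrCharacter G => Cfsg.charDegree (θ : G → ℂ) ^ 2)
  rw [hsumT, htot] at hsplit
  have hR : ∑ θ ∈ Finset.univ \ T, Cfsg.charDegree (θ : G → ℂ) ^ 2 = 3025 := by omega
  -- every character outside `T` has degree divisible by `55`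
  have h55 : ∀ ψ ∈ Finset.univ \ T, 55 ∣ Cfsg.charDegree (ψ : G → ℂ) := by
    intro ψ hψ
    have hψT : ψ ∉ T := (Finset.mem_sdiff.mp hψ).2
    have hne : ∀ j, ψ ≠ c9 j := by
      intro j h
      apply hψT
      rw [hT, h]
      exact Finset.mem_image_of_mem _ (Finset.mem_univ j)
    have hψ1 : (ψ : G → ℂ) 1 ≠ 1 := fun h => hne 0 ((hlin ψ h).trans (hc 0).symm)
    have hψχ : ∀ i, ψ ≠ χ i := by
      intro i
      fin_cases i
      · exact fun h => hne 1 (h.trans (hc 1).symm)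
      · exact fun h => hne 2 (h.trans (hc 2).symm)
      · exact fun h => hne 3 (h.trans (hc 3).symm)
      · exact fun h => hne 4 (h.trans (hc 4).symm)
    have hψY : ψ ∉ Y := by
      rw [hYeq]
      intro h
      rcases h with h | h
      · exact hne 5 (h.trans (hc 5).symm)
      · exact hne 6 (h.trans (hc 6).symm)
    have h11 : 11 ∣ Cfsg.charDegree (ψ : G → ℂ) := by
      rcases hall ψ with h | ⟨i, h⟩ | h | h
      · exact absurd h hψ1
      · exact absurd h (hψχ i)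
      · exact absurd h hψY
      · exact h
    have h5 := hfive ψ hψ1 hψY (fun h => hne 7 (h.trans (hc 7).symm))
      (fun h => hne 8 (h.trans (hc 8).symm))
    exact Nat.Coprime.mul_dvd_of_dvd_of_dvd (by norm_num : Nat.Coprime 5 11) h5 h11
  have hRne : (Finset.univ \ T).Nonempty := by
    rw [Finset.nonempty_iff_ne_empty]
    intro h
    rw [h, Finset.sum_empty] at hR
    omega
  obtain ⟨ψ, hψ⟩ := hRne
  have hle : Cfsg.charDegree (ψ : G → ℂ) ^ 2 ≤ 3025 := by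
    rw [← hR]
    exact Finset.single_le_sum
      (f := fun θ : IrrCharacter G => Cfsg.charDegree (θ : G → ℂ) ^ 2)
      (fun _ _ => Nat.zero_le _) hψ
  have hψ55 : Cfsg.charDegree (ψ : G → ℂ) = 55 := by
    obtain ⟨q, hq⟩ := h55 ψ hψ
    have hpos := (Cfsg.Agent.Lib.Helper79.irr_charDegree ψ.2).2.1
    rw [hq] at hle hpos ⊢
    have hq1 : q = 1 := by
      by_contra hq1
      have : 2 ≤ q := by omega
      nlinarith
    rw [hq1]
  have hψT : ψ ∉ T := (Finset.mem_sdiff.mp hψ).2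
  have hbij : Function.Bijective (Fin.cons (α := fun _ => IrrCharacter G) ψ c9) := by
    apply bijective_of_sum_sq
    · rw [Fin.cons_injective_iff]
      refine ⟨?_, hinj9⟩
      rintro ⟨j, hj⟩
      apply hψT
      rw [hT, ← hj]
      exact Finset.mem_image_of_mem _ (Finset.mem_univ j)
    · rw [Fin.sum_univ_succ, hG]
      simp only [Fin.cons_zero, Fin.cons_succ]
      rw [hψ55, Finset.sum_congr rfl (fun j _ => by rw [hdeg9 j]), sum_nine]
      norm_num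
  subst hc9
  have ha0 : a 0 = 1 := by rw [(hχ 0).2.2, h45]; decide
  have ha1 : a 1 = -1 := by rw [(hχ 1).2.2, h10 1 (by decide)]; decide
  have ha2 : a 2 = -1 := by rw [(hχ 2).2.2, h10 2 (by decide)]; decide
  have ha3 : a 3 = -1 := by rw [(hχ 3).2.2, h10 3 (by decide)]; decide
  have hR11 : ∀ η ∈ Y, ∀ g : G, ¬ 11 ∣ orderOf g → 1 + (χ 0 : G → ℂ) g - (χ 1 : G → ℂ) g -
      (χ 2 : G → ℂ) g - (χ 3 : G → ℂ) g - (η : G → ℂ) g = 0 := by
    intro η hη g hg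
    have h := hrel η hη g hg
    simp only [Fin.sum_univ_four] at h
    rw [ha0, ha1, ha2, ha3] at h
    push_cast at h
    linear_combination h
  refine ⟨ψ, χ₁, χ 0, χ 1, χ 2, χ 3, η₁, η₂, θ₁, θ₂, hbij, hψ55, hχ₁1, h45, h10 1 (by decide),
    h10 2 (by decide), h10 3 (by decide), hY16 η₁ hη₁Y, hY16 η₂ hη₂Y, hθ₁, hθ₂,
    hR11 η₁ hη₁Y, hR11 η₂ hη₂Y, ?_, hR5⟩
  intro t ht
  have hS : ∀ Q : Sylow 11 G, _ := fun Q => sylow11 hG Q
  have hEq2 := block_rel_involution 11 (by norm_num) (fun Q => (hS Q).1)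
    (fun Q => (hS Q).2.2.1) (fun Q => by rw [(hS Q).2.1]; norm_num) 4 χ a η₁ (-1)
    (hrel η₁ hη₁Y) t ht
  have hd0 := (Cfsg.Agent.Lib.Helper79.irr_charDegree (χ 0).2).1
  have hd1 := (Cfsg.Agent.Lib.Helper79.irr_charDegree (χ 1).2).1
  have hd2 := (Cfsg.Agent.Lib.Helper79.irr_charDegree (χ 2).2).1
  have hd3 := (Cfsg.Agent.Lib.Helper79.irr_charDegree (χ 3).2).1
  have hdη := (Cfsg.Agent.Lib.Helper79.irr_charDegree η₁.2).1
  rw [h45] at hd0
  rw [h10 1 (by decide)] at hd1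
  rw [h10 2 (by decide)] at hd2
  rw [h10 3 (by decide)] at hd3
  rw [hY16 η₁ hη₁Y] at hdη
  push_cast at hd0 hd1 hd2 hd3 hdη
  simp only [Fin.sum_univ_four] at hEq2
  rw [ha0, ha1, ha2, ha3, hd0, hd1, hd2, hd3, hdη] at hEq2
  push_cast at hEq2
  linear_combination hEq2

set_option maxHeartbeats 3200000 in
/-- **Involution centralizers in a simple group of order `7920` have order `48`.** -/
theorem card_centralizer_involution [IsSimpleGroup G] (hG : Nat.card G = 7920) (t : G)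
    (ht : orderOf t = 2) : Nat.card (Subgroup.centralizer ({t} : Set G)) = 48 := by
  classical
  have hGn : ¬ (Nat.card G).Prime := by rw [hG]; norm_num
  obtain ⟨ψ, χ₁, χ45, χa, χb, χc, η₁, η₂, θ₁, θ₂, hbij, hdψ, hχ₁, hd45, hda, hdb, hdc, hdη₁,
    hdη₂, hdθ₁, hdθ₂, hR11a, hR11b, hRsq, hR5⟩ := table7920 hG
  have ht1 : t ≠ 1 := by
    intro h
    rw [h, orderOf_one] at ht
    omega
  have hreg11 : ¬ 11 ∣ orderOf t := by rw [ht]; norm_num
  have hreg5 : ¬ 5 ∣ orderOf t := by rw [ht]; norm_num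
  obtain ⟨kH, hkH, hvH⟩ := involution_int hGn ψ t ht
  obtain ⟨kG, hkG, hvG⟩ := involution_int hGn χ45 t ht
  obtain ⟨kA, hkA, hvA⟩ := involution_int hGn χa t ht
  obtain ⟨kB, hkB, hvB⟩ := involution_int hGn χb t ht
  obtain ⟨kC, hkC, hvC⟩ := involution_int hGn χc t ht
  obtain ⟨kE, hkE, hvE⟩ := involution_int hGn η₁ t ht
  obtain ⟨kE', hkE', hvE'⟩ := involution_int hGn η₂ t ht
  obtain ⟨kD, hkD, hvD⟩ := involution_int hGn θ₁ t ht
  obtain ⟨kF, hkF, hvF⟩ := involution_int hGn θ₂ t ht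
  have h1H := (Cfsg.Agent.Lib.Helper79.irr_charDegree ψ.2).1
  have h1G := (Cfsg.Agent.Lib.Helper79.irr_charDegree χ45.2).1
  have h1A := (Cfsg.Agent.Lib.Helper79.irr_charDegree χa.2).1
  have h1B := (Cfsg.Agent.Lib.Helper79.irr_charDegree χb.2).1
  have h1C := (Cfsg.Agent.Lib.Helper79.irr_charDegree χc.2).1
  have h1E := (Cfsg.Agent.Lib.Helper79.irr_charDegree η₁.2).1
  have h1E' := (Cfsg.Agent.Lib.Helper79.irr_charDegree η₂.2).1
  have h1D := (Cfsg.Agent.Lib.Helper79.irr_charDegree θ₁.2).1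
  have h1F := (Cfsg.Agent.Lib.Helper79.irr_charDegree θ₂.2).1
  rw [hdψ] at hkH hvH h1H
  rw [hd45] at hkG hvG h1G
  rw [hda] at hkA hvA h1A
  rw [hdb] at hkB hvB h1B
  rw [hdc] at hkC hvC h1C
  rw [hdη₁] at hkE hvE h1E
  rw [hdη₂] at hkE' hvE' h1E'
  rw [hdθ₁] at hkD hvD h1D
  rw [hdθ₂] at hkF hvF h1F
  -- integer names for the values
  obtain ⟨zH, hzH⟩ : ∃ z : ℤ, z = 55 - 4 * (kH : ℤ) := ⟨_, rfl⟩
  obtain ⟨zG, hzG⟩ : ∃ z : ℤ, z = 45 - 4 * (kG : ℤ) := ⟨_, rfl⟩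
  obtain ⟨zA, hzA⟩ : ∃ z : ℤ, z = 10 - 4 * (kA : ℤ) := ⟨_, rfl⟩
  obtain ⟨zB, hzB⟩ : ∃ z : ℤ, z = 10 - 4 * (kB : ℤ) := ⟨_, rfl⟩
  obtain ⟨zC, hzC⟩ : ∃ z : ℤ, z = 10 - 4 * (kC : ℤ) := ⟨_, rfl⟩
  obtain ⟨zE, hzE⟩ : ∃ z : ℤ, z = 16 - 4 * (kE : ℤ) := ⟨_, rfl⟩
  obtain ⟨zE', hzE'⟩ : ∃ z : ℤ, z = 16 - 4 * (kE' : ℤ) := ⟨_, rfl⟩
  obtain ⟨zD, hzD⟩ : ∃ z : ℤ, z = 11 - 4 * (kD : ℤ) := ⟨_, rfl⟩
  obtain ⟨zF, hzF⟩ : ∃ z : ℤ, z = 44 - 4 * (kF : ℤ) := ⟨_, rfl⟩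
  have wH : (ψ : G → ℂ) t = (zH : ℂ) := by rw [hvH, hzH]; push_cast; ring
  have wG : (χ45 : G → ℂ) t = (zG : ℂ) := by rw [hvG, hzG]; push_cast; ring
  have wA : (χa : G → ℂ) t = (zA : ℂ) := by rw [hvA, hzA]; push_cast; ring
  have wB : (χb : G → ℂ) t = (zB : ℂ) := by rw [hvB, hzB]; push_cast; ring
  have wC : (χc : G → ℂ) t = (zC : ℂ) := by rw [hvC, hzC]; push_cast; ring
  have wE : (η₁ : G → ℂ) t = (zE : ℂ) := by rw [hvE, hzE]; push_cast; ring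
  have wE' : (η₂ : G → ℂ) t = (zE' : ℂ) := by rw [hvE', hzE']; push_cast; ring
  have wD : (θ₁ : G → ℂ) t = (zD : ℂ) := by rw [hvD, hzD]; push_cast; ring
  have wF : (θ₂ : G → ℂ) t = (zF : ℂ) := by rw [hvF, hzF]; push_cast; ring
  -- `χ45 (t) ≠ 45`
  have hkG0 : kG ≠ 0 := by
    intro h
    apply ht1
    apply eq_one_of_char_eq χ45 (by rw [h1G]; norm_num) t
    rw [hvG, h, h1G]
    norm_num
  -- the relations at `t`
  have e1 := hR11a t hreg11
  have e1' := hR11b t hreg11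
  have e2 := hRsq t ht
  have e3 := hR5 t hreg5
  rw [wG, wA, wB, wC, wE] at e1 e2
  rw [wG, wA, wB, wC, wE'] at e1'
  rw [wE, wE', wD, wF] at e3
  have i1 : 1 + zG - zA - zB - zC - zE = 0 := by exact_mod_cast e1
  have i1' : 1 + zG - zA - zB - zC - zE' = 0 := by exact_mod_cast e1'
  have i2 : -45 * zE ^ 2 + 720 + 16 * zG ^ 2 - 72 * (zA ^ 2 + zB ^ 2 + zC ^ 2) = 0 := by
    have h : ((-45 * zE ^ 2 + 720 + 16 * zG ^ 2 - 72 * (zA ^ 2 + zB ^ 2 + zC ^ 2) : ℤ) : ℂ)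
        = 0 := by
      push_cast
      linear_combination (720 : ℂ) * e2
    exact_mod_cast h
  have i3 : 1 + zE + zE' + zD - zF = 0 := by exact_mod_cast e3
  have hstep1 := key_inv1 kA (List.mem_range.mpr (by omega)) kB (List.mem_range.mpr (by omega))
    kC (List.mem_range.mpr (by omega)) kE (List.mem_range.mpr (by omega))
    kG (List.mem_range.mpr (by omega))
  unfold chkInv1 at hstep1
  rw [← hzG, ← hzA, ← hzB, ← hzC, ← hzE] at hstep1
  obtain ⟨hE4, hG12, hsum8, hsq12⟩ := hstep1 hkG0 (by linarith) i2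
  have hzE0 : zE = 0 := by rw [hzE, hE4]; norm_num
  have hzE'0 : zE' = 0 := by linarith
  have hzG3 : zG = -3 := by rw [hzG, hG12]; norm_num
  have hzABC : zA + zB + zC = -2 := by linarith
  -- column orthogonality
  have : Fintype G := Fintype.ofFinite G
  have : Finite (IrrCharacter G) := Cfsg.Agent.Lib.Helper81.irr_finite G
  have : Fintype (IrrCharacter G) := Fintype.ofFinite _
  have hnc : ¬ IsConj t 1 := fun h => ht1 (isConj_one_left.mp h)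
  have hcol0 := Cfsg.Agent.Lib.Helper80.second_orthogonality_of_not_isConj (G := G) hnc
  have hcol1 := Cfsg.Agent.Lib.Helper80.second_orthogonality_of_isConj (G := G) (IsConj.refl t)
  rw [← hbij.sum_comp, sum_univ_ten'] at hcol0 hcol1
  have hcol0' : (ψ : G → ℂ) t * (starRingEnd ℂ) ((ψ : G → ℂ) 1) +
      (χ₁ : G → ℂ) t * (starRingEnd ℂ) ((χ₁ : G → ℂ) 1) +
      (χ45 : G → ℂ) t * (starRingEnd ℂ) ((χ45 : G → ℂ) 1) +
      (χa : G → ℂ) t * (starRingEnd ℂ) ((χa : G → ℂ) 1) +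
      (χb : G → ℂ) t * (starRingEnd ℂ) ((χb : G → ℂ) 1) +
      (χc : G → ℂ) t * (starRingEnd ℂ) ((χc : G → ℂ) 1) +
      (η₁ : G → ℂ) t * (starRingEnd ℂ) ((η₁ : G → ℂ) 1) +
      (η₂ : G → ℂ) t * (starRingEnd ℂ) ((η₂ : G → ℂ) 1) +
      (θ₁ : G → ℂ) t * (starRingEnd ℂ) ((θ₁ : G → ℂ) 1) +
      (θ₂ : G → ℂ) t * (starRingEnd ℂ) ((θ₂ : G → ℂ) 1) = 0 := hcol0
  have hcol1' : (ψ : G → ℂ) t * (starRingEnd ℂ) ((ψ : G → ℂ) t) +
      (χ₁ : G → ℂ) t * (starRingEnd ℂ) ((χ₁ : G → ℂ) t) +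
      (χ45 : G → ℂ) t * (starRingEnd ℂ) ((χ45 : G → ℂ) t) +
      (χa : G → ℂ) t * (starRingEnd ℂ) ((χa : G → ℂ) t) +
      (χb : G → ℂ) t * (starRingEnd ℂ) ((χb : G → ℂ) t) +
      (χc : G → ℂ) t * (starRingEnd ℂ) ((χc : G → ℂ) t) +
      (η₁ : G → ℂ) t * (starRingEnd ℂ) ((η₁ : G → ℂ) t) +
      (η₂ : G → ℂ) t * (starRingEnd ℂ) ((η₂ : G → ℂ) t) +
      (θ₁ : G → ℂ) t * (starRingEnd ℂ) ((θ₁ : G → ℂ) t) +
      (θ₂ : G → ℂ) t * (starRingEnd ℂ) ((θ₂ : G → ℂ) t) =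
      (Nat.card (Subgroup.centralizer ({t} : Set G)) : ℂ) := hcol1
  rw [h1H, h1G, h1A, h1B, h1C, h1E, h1E', h1D, h1F, hχ₁ 1, hχ₁ t, wH, wG, wA, wB, wC, wE, wE',
    wD, wF] at hcol0'
  rw [hχ₁ t, wH, wG, wA, wB, wC, wE, wE', wD, wF] at hcol1'
  simp only [map_natCast, map_intCast, map_one] at hcol0' hcol1'
  have i4 : 55 * zH + 1 + 45 * zG + 10 * zA + 10 * zB + 10 * zC + 16 * zE + 16 * zE' +
      11 * zD + 44 * zF = 0 := by
    have h : ((55 * zH + 1 + 45 * zG + 10 * zA + 10 * zB + 10 * zC + 16 * zE + 16 * zE' +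
        11 * zD + 44 * zF : ℤ) : ℂ) = 0 := by
      push_cast
      linear_combination hcol0'
    exact_mod_cast h
  have i5 : zH ^ 2 + 1 + zG ^ 2 + zA ^ 2 + zB ^ 2 + zC ^ 2 + zE ^ 2 + zE' ^ 2 + zD ^ 2 +
      zF ^ 2 = (Nat.card (Subgroup.centralizer ({t} : Set G)) : ℤ) := by
    have h : ((zH ^ 2 + 1 + zG ^ 2 + zA ^ 2 + zB ^ 2 + zC ^ 2 + zE ^ 2 + zE' ^ 2 + zD ^ 2 +
        zF ^ 2 : ℤ) : ℂ) = ((Nat.card (Subgroup.centralizer ({t} : Set G)) : ℤ) : ℂ) := by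
      push_cast
      linear_combination hcol1'
    exact_mod_cast h
  have hstep2 := key_inv2 kD (List.mem_range.mpr (by omega)) kF (List.mem_range.mpr (by omega))
    kH (List.mem_range.mpr (by omega))
  unfold chkInv2 at hstep2
  rw [← hzD, ← hzF, ← hzH] at hstep2
  have hval : zH ^ 2 + 22 + zD ^ 2 + zF ^ 2 =
      (Nat.card (Subgroup.centralizer ({t} : Set G)) : ℤ) := by
    rw [← i5, hzE0, hzE'0, hzG3]
    linarith
  have hdvd : (zH ^ 2 + 22 + zD ^ 2 + zF ^ 2).toNat ∣ 7920 := by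
    rw [hval, Int.toNat_natCast, ← hG]
    exact Subgroup.card_subgroup_dvd_card _
  have hfin := hstep2 (by rw [hzE0, hzE'0] at i3; linarith)
    (by rw [hzE0, hzE'0, hzG3] at i4; linarith) hdvd
  rw [hval] at hfin
  exact_mod_cast hfin

end Cfsg.Agent.Lib.Helper91.M11
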