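import Mathlib
import Cfsg.Agent.Lib.Helper91.M11Inv

set_option autoImplicit false

/-!
# Involutions in a simple group of order `7920`

The values of the ten irreducible characters at an involution, and the conjugacy of all
involutions.
-/

namespace Cfsg.Agent.Lib.Helper91.M11

open Cfsg Cfsg.Agent.Lib.Helper17 Cfsg.Agent.Lib.Helper91.SS

variable {G : Type*} [Group G] [Finite G]

/-- second step of the determination of the character values at an involution, knowing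
`|C(t)| = 48` -/
def chkInv2' (kD kF kH : ℕ) : Prop :=
  1 + (11 - 4 * (kD : ℤ)) - (44 - 4 * (kF : ℤ)) = 0 →
  55 * (55 - 4 * (kH : ℤ)) + 1 - 135 - 20 + 11 * (11 - 4 * (kD : ℤ)) +
      44 * (44 - 4 * (kF : ℤ)) = 0 →
  (55 - 4 * (kH : ℤ)) ^ 2 + 22 + (11 - 4 * (kD : ℤ)) ^ 2 + (44 - 4 * (kF : ℤ)) ^ 2 = 48 →
  kD = 2 ∧ kF = 10 ∧ kH = 14

instance (kD kF kH : ℕ) : Decidable (chkInv2' kD kF kH) := by
  unfold chkInv2'
  infer_instance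

theorem key_inv2' : ∀ kD ∈ List.range 6, ∀ kF ∈ List.range 23, ∀ kH ∈ List.range 28,
    chkInv2' kD kF kH := by
  decide +kernel

/-- the values of the three characters of degree `10` at an involution -/
theorem key_tens : ∀ kA ∈ List.range 6, ∀ kB ∈ List.range 6, ∀ kC ∈ List.range 6,
    kA + kB + kC = 8 →
    (10 - 4 * (kA : ℤ)) ^ 2 + (10 - 4 * (kB : ℤ)) ^ 2 + (10 - 4 * (kC : ℤ)) ^ 2 = 12 →
    (kA = 2 ∧ kB = 3 ∧ kC = 3) ∨ (kA = 3 ∧ kB = 2 ∧ kC = 3) ∨ (kA = 3 ∧ kB = 3 ∧ kC = 2) := by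
  decide +kernel

set_option maxHeartbeats 3200000 in
/-- The values of the ten irreducible characters at an involution. -/
theorem involution_values_aux [IsSimpleGroup G] (hG : Nat.card G = 7920)
    (ψ χ₁ χ45 χa χb χc η₁ η₂ θ₁ θ₂ : IrrCharacter G)
    (hbij : Function.Bijective
      (![ψ, χ₁, χ45, χa, χb, χc, η₁, η₂, θ₁, θ₂] : Fin 10 → IrrCharacter G))
    (hdψ : Cfsg.charDegree (ψ : G → ℂ) = 55) (hχ₁ : ∀ g, (χ₁ : G → ℂ) g = 1)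
    (hd45 : Cfsg.charDegree (χ45 : G → ℂ) = 45) (hda : Cfsg.charDegree (χa : G → ℂ) = 10)
    (hdb : Cfsg.charDegree (χb : G → ℂ) = 10) (hdc : Cfsg.charDegree (χc : G → ℂ) = 10)
    (hdη₁ : Cfsg.charDegree (η₁ : G → ℂ) = 16) (hdη₂ : Cfsg.charDegree (η₂ : G → ℂ) = 16)
    (hdθ₁ : Cfsg.charDegree (θ₁ : G → ℂ) = 11) (hdθ₂ : Cfsg.charDegree (θ₂ : G → ℂ) = 44)
    (hR11a : ∀ g : G, ¬ 11 ∣ orderOf g → 1 + (χ45 : G → ℂ) g - (χa : G → ℂ) g -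
      (χb : G → ℂ) g - (χc : G → ℂ) g - (η₁ : G → ℂ) g = 0)
    (hR11b : ∀ g : G, ¬ 11 ∣ orderOf g → 1 + (χ45 : G → ℂ) g - (χa : G → ℂ) g -
      (χb : G → ℂ) g - (χc : G → ℂ) g - (η₂ : G → ℂ) g = 0)
    (hRsq : ∀ t : G, orderOf t = 2 → 1 + (χ45 : G → ℂ) t * (χ45 : G → ℂ) t / 45 -
      (χa : G → ℂ) t * (χa : G → ℂ) t / 10 - (χb : G → ℂ) t * (χb : G → ℂ) t / 10 -
      (χc : G → ℂ) t * (χc : G → ℂ) t / 10 - (η₁ : G → ℂ) t * (η₁ : G → ℂ) t / 16 = 0)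
    (hR5 : ∀ g : G, ¬ 5 ∣ orderOf g → 1 + (η₁ : G → ℂ) g + (η₂ : G → ℂ) g + (θ₁ : G → ℂ) g -
      (θ₂ : G → ℂ) g = 0) (t : G) (ht : orderOf t = 2) :
    (ψ : G → ℂ) t = -1 ∧ (χ45 : G → ℂ) t = -3 ∧ (η₁ : G → ℂ) t = 0 ∧ (η₂ : G → ℂ) t = 0 ∧
    (θ₁ : G → ℂ) t = 3 ∧ (θ₂ : G → ℂ) t = 4 ∧
    (((χa : G → ℂ) t = 2 ∧ (χb : G → ℂ) t = -2 ∧ (χc : G → ℂ) t = -2) ∨
     ((χa : G → ℂ) t = -2 ∧ (χb : G → ℂ) t = 2 ∧ (χc : G → ℂ) t = -2) ∨
     ((χa : G → ℂ) t = -2 ∧ (χb : G → ℂ) t = -2 ∧ (χc : G → ℂ) t = 2)) := by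
  classical
  have hGn : ¬ (Nat.card G).Prime := by rw [hG]; norm_num
  have ht1 : t ≠ 1 := by
    intro h
    rw [h, orderOf_one] at ht
    omega
  have hreg11 : ¬ 11 ∣ orderOf t := by rw [ht]; norm_num
  have hreg5 : ¬ 5 ∣ orderOf t := by rw [ht]; norm_num
  obtain ⟨kH, hkH, hvH⟩ := involution_int hGn ψ t ht
  obtain ⟨kG, hkG, hvG⟩ := involution_int hGn χ45 t ht
  obtain ⟨kA, hkA, hvA⟩ := involution_int hGn χa t ht
  obtain ⟨kB, hkB, hvB⟩ := involution_int hGn χb t ht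
  obtain ⟨kC, hkC, hvC⟩ := involution_int hGn χc t ht
  obtain ⟨kE, hkE, hvE⟩ := involution_int hGn η₁ t ht
  obtain ⟨kE', hkE', hvE'⟩ := involution_int hGn η₂ t ht
  obtain ⟨kD, hkD, hvD⟩ := involution_int hGn θ₁ t ht
  obtain ⟨kF, hkF, hvF⟩ := involution_int hGn θ₂ t ht
  have h1H := (Cfsg.Agent.Lib.Helper79.irr_charDegree ψ.2).1
  have h1G := (Cfsg.Agent.Lib.Helper79.irr_charDegree χ45.2).1
  have h1A := (Cfsg.Agent.Lib.Helper79.irr_charDegree χa.2).1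
  have h1B := (Cfsg.Agent.Lib.Helper79.irr_charDegree χb.2).1
  have h1C := (Cfsg.Agent.Lib.Helper79.irr_charDegree χc.2).1
  have h1E := (Cfsg.Agent.Lib.Helper79.irr_charDegree η₁.2).1
  have h1E' := (Cfsg.Agent.Lib.Helper79.irr_charDegree η₂.2).1
  have h1D := (Cfsg.Agent.Lib.Helper79.irr_charDegree θ₁.2).1
  have h1F := (Cfsg.Agent.Lib.Helper79.irr_charDegree θ₂.2).1
  rw [hdψ] at hkH hvH h1H
  rw [hd45] at hkG hvG h1G
  rw [hda] at hkA hvA h1A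
  rw [hdb] at hkB hvB h1B
  rw [hdc] at hkC hvC h1C
  rw [hdη₁] at hkE hvE h1E
  rw [hdη₂] at hkE' hvE' h1E'
  rw [hdθ₁] at hkD hvD h1D
  rw [hdθ₂] at hkF hvF h1F
  -- integer names for the values
  obtain ⟨zH, hzH⟩ : ∃ z : ℤ, z = 55 - 4 * (kH : ℤ) := ⟨_, rfl⟩
  obtain ⟨zG, hzG⟩ : ∃ z : ℤ, z = 45 - 4 * (kG : ℤ) := ⟨_, rfl⟩
  obtain ⟨zA, hzA⟩ : ∃ z : ℤ, z = 10 - 4 * (kA : ℤ) := ⟨_, rfl⟩
  obtain ⟨zB, hzB⟩ : ∃ z : ℤ, z = 10 - 4 * (kB : ℤ) := ⟨_, rfl⟩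
  obtain ⟨zC, hzC⟩ : ∃ z : ℤ, z = 10 - 4 * (kC : ℤ) := ⟨_, rfl⟩
  obtain ⟨zE, hzE⟩ : ∃ z : ℤ, z = 16 - 4 * (kE : ℤ) := ⟨_, rfl⟩
  obtain ⟨zE', hzE'⟩ : ∃ z : ℤ, z = 16 - 4 * (kE' : ℤ) := ⟨_, rfl⟩
  obtain ⟨zD, hzD⟩ : ∃ z : ℤ, z = 11 - 4 * (kD : ℤ) := ⟨_, rfl⟩
  obtain ⟨zF, hzF⟩ : ∃ z : ℤ, z = 44 - 4 * (kF : ℤ) := ⟨_, rfl⟩
  have wH : (ψ : G → ℂ) t = (zH : ℂ) := by rw [hvH, hzH]; push_cast; ring
  have wG : (χ45 : G → ℂ) t = (zG : ℂ) := by rw [hvG, hzG]; push_cast; ring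
  have wA : (χa : G → ℂ) t = (zA : ℂ) := by rw [hvA, hzA]; push_cast; ring
  have wB : (χb : G → ℂ) t = (zB : ℂ) := by rw [hvB, hzB]; push_cast; ring
  have wC : (χc : G → ℂ) t = (zC : ℂ) := by rw [hvC, hzC]; push_cast; ring
  have wE : (η₁ : G → ℂ) t = (zE : ℂ) := by rw [hvE, hzE]; push_cast; ring
  have wE' : (η₂ : G → ℂ) t = (zE' : ℂ) := by rw [hvE', hzE']; push_cast; ring
  have wD : (θ₁ : G → ℂ) t = (zD : ℂ) := by rw [hvD, hzD]; push_cast; ring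
  have wF : (θ₂ : G → ℂ) t = (zF : ℂ) := by rw [hvF, hzF]; push_cast; ring
  -- `χ45 (t) ≠ 45`
  have hkG0 : kG ≠ 0 := by
    intro h
    apply ht1
    apply eq_one_of_char_eq χ45 (by rw [h1G]; norm_num) t
    rw [hvG, h, h1G]
    norm_num
  -- the relations at `t`
  have e1 := hR11a t hreg11
  have e1' := hR11b t hreg11
  have e2 := hRsq t ht
  have e3 := hR5 t hreg5
  rw [wG, wA, wB, wC, wE] at e1 e2
  rw [wG, wA, wB, wC, wE'] at e1'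
  rw [wE, wE', wD, wF] at e3
  have i1 : 1 + zG - zA - zB - zC - zE = 0 := by exact_mod_cast e1
  have i1' : 1 + zG - zA - zB - zC - zE' = 0 := by exact_mod_cast e1'
  have i2 : -45 * zE ^ 2 + 720 + 16 * zG ^ 2 - 72 * (zA ^ 2 + zB ^ 2 + zC ^ 2) = 0 := by
    have h : ((-45 * zE ^ 2 + 720 + 16 * zG ^ 2 - 72 * (zA ^ 2 + zB ^ 2 + zC ^ 2) : ℤ) : ℂ)
        = 0 := by
      push_cast
      linear_combination (720 : ℂ) * e2
    exact_mod_cast h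
  have i3 : 1 + zE + zE' + zD - zF = 0 := by exact_mod_cast e3
  have hstep1 := key_inv1 kA (List.mem_range.mpr (by omega)) kB (List.mem_range.mpr (by omega))
    kC (List.mem_range.mpr (by omega)) kE (List.mem_range.mpr (by omega))
    kG (List.mem_range.mpr (by omega))
  unfold chkInv1 at hstep1
  rw [← hzG, ← hzA, ← hzB, ← hzC, ← hzE] at hstep1
  obtain ⟨hE4, hG12, hsum8, hsq12⟩ := hstep1 hkG0 (by linarith) i2
  have hzE0 : zE = 0 := by rw [hzE, hE4]; norm_num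
  have hzE'0 : zE' = 0 := by linarith
  have hzG3 : zG = -3 := by rw [hzG, hG12]; norm_num
  have hzABC : zA + zB + zC = -2 := by linarith
  -- column orthogonality
  have : Fintype G := Fintype.ofFinite G
  have : Finite (IrrCharacter G) := Cfsg.Agent.Lib.Helper81.irr_finite G
  have : Fintype (IrrCharacter G) := Fintype.ofFinite _
  have hnc : ¬ IsConj t 1 := fun h => ht1 (isConj_one_left.mp h)
  have hcol0 := Cfsg.Agent.Lib.Helper80.second_orthogonality_of_not_isConj (G := G) hnc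
  have hcol1 := Cfsg.Agent.Lib.Helper80.second_orthogonality_of_isConj (G := G) (IsConj.refl t)
  rw [← hbij.sum_comp, sum_univ_ten'] at hcol0 hcol1
  have hcol0' : (ψ : G → ℂ) t * (starRingEnd ℂ) ((ψ : G → ℂ) 1) +
      (χ₁ : G → ℂ) t * (starRingEnd ℂ) ((χ₁ : G → ℂ) 1) +
      (χ45 : G → ℂ) t * (starRingEnd ℂ) ((χ45 : G → ℂ) 1) +
      (χa : G → ℂ) t * (starRingEnd ℂ) ((χa : G → ℂ) 1) +
      (χb : G → ℂ) t * (starRingEnd ℂ) ((χb : G → ℂ) 1) +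
      (χc : G → ℂ) t * (starRingEnd ℂ) ((χc : G → ℂ) 1) +
      (η₁ : G → ℂ) t * (starRingEnd ℂ) ((η₁ : G → ℂ) 1) +
      (η₂ : G → ℂ) t * (starRingEnd ℂ) ((η₂ : G → ℂ) 1) +
      (θ₁ : G → ℂ) t * (starRingEnd ℂ) ((θ₁ : G → ℂ) 1) +
      (θ₂ : G → ℂ) t * (starRingEnd ℂ) ((θ₂ : G → ℂ) 1) = 0 := hcol0
  have hcol1' : (ψ : G → ℂ) t * (starRingEnd ℂ) ((ψ : G → ℂ) t) +
      (χ₁ : G → ℂ) t * (starRingEnd ℂ) ((χ₁ : G → ℂ) t) +
      (χ45 : G → ℂ) t * (starRingEnd ℂ) ((χ45 : G → ℂ) t) +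
      (χa : G → ℂ) t * (starRingEnd ℂ) ((χa : G → ℂ) t) +
      (χb : G → ℂ) t * (starRingEnd ℂ) ((χb : G → ℂ) t) +
      (χc : G → ℂ) t * (starRingEnd ℂ) ((χc : G → ℂ) t) +
      (η₁ : G → ℂ) t * (starRingEnd ℂ) ((η₁ : G → ℂ) t) +
      (η₂ : G → ℂ) t * (starRingEnd ℂ) ((η₂ : G → ℂ) t) +
      (θ₁ : G → ℂ) t * (starRingEnd ℂ) ((θ₁ : G → ℂ) t) +
      (θ₂ : G → ℂ) t * (starRingEnd ℂ) ((θ₂ : G → ℂ) t) =
      (Nat.card (Subgroup.centralizer ({t} : Set G)) : ℂ) := hcol1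
  rw [h1H, h1G, h1A, h1B, h1C, h1E, h1E', h1D, h1F, hχ₁ 1, hχ₁ t, wH, wG, wA, wB, wC, wE, wE',
    wD, wF] at hcol0'
  rw [hχ₁ t, wH, wG, wA, wB, wC, wE, wE', wD, wF] at hcol1'
  simp only [map_natCast, map_intCast, map_one] at hcol0' hcol1'
  have i4 : 55 * zH + 1 + 45 * zG + 10 * zA + 10 * zB + 10 * zC + 16 * zE + 16 * zE' +
      11 * zD + 44 * zF = 0 := by
    have h : ((55 * zH + 1 + 45 * zG + 10 * zA + 10 * zB + 10 * zC + 16 * zE + 16 * zE' +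
        11 * zD + 44 * zF : ℤ) : ℂ) = 0 := by
      push_cast
      linear_combination hcol0'
    exact_mod_cast h
  have i5 : zH ^ 2 + 1 + zG ^ 2 + zA ^ 2 + zB ^ 2 + zC ^ 2 + zE ^ 2 + zE' ^ 2 + zD ^ 2 +
      zF ^ 2 = (Nat.card (Subgroup.centralizer ({t} : Set G)) : ℤ) := by
    have h : ((zH ^ 2 + 1 + zG ^ 2 + zA ^ 2 + zB ^ 2 + zC ^ 2 + zE ^ 2 + zE' ^ 2 + zD ^ 2 +
        zF ^ 2 : ℤ) : ℂ) = ((Nat.card (Subgroup.centralizer ({t} : Set G)) : ℤ) : ℂ) := by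
      push_cast
      linear_combination hcol1'
    exact_mod_cast h
  have hC48 := card_centralizer_involution hG t ht
  rw [hC48] at i5
  have hstep2 := key_inv2' kD (List.mem_range.mpr (by omega)) kF (List.mem_range.mpr (by omega))
    kH (List.mem_range.mpr (by omega))
  unfold chkInv2' at hstep2
  rw [← hzD, ← hzF, ← hzH] at hstep2
  obtain ⟨hD2, hF10, hH14⟩ := hstep2 (by rw [hzE0, hzE'0] at i3; linarith)
    (by rw [hzE0, hzE'0, hzG3] at i4; linarith)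
    (by rw [hzE0, hzE'0, hzG3] at i5; push_cast at i5; linarith)
  have hzH1 : zH = -1 := by rw [hzH, hH14]; norm_num
  have hzD3 : zD = 3 := by rw [hzD, hD2]; norm_num
  have hzF4 : zF = 4 := by rw [hzF, hF10]; norm_num
  have htens := key_tens kA (List.mem_range.mpr (by omega)) kB (List.mem_range.mpr (by omega))
    kC (List.mem_range.mpr (by omega)) hsum8 (by rw [← hzA, ← hzB, ← hzC]; exact hsq12)
  refine ⟨by rw [wH, hzH1]; norm_num, by rw [wG, hzG3]; norm_num, by rw [wE, hzE0]; norm_num,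
    by rw [wE', hzE'0]; norm_num, by rw [wD, hzD3]; norm_num, by rw [wF, hzF4]; norm_num, ?_⟩
  rw [wA, wB, wC, hzA, hzB, hzC]
  rcases htens with ⟨h1, h2, h3⟩ | ⟨h1, h2, h3⟩ | ⟨h1, h2, h3⟩
  · left
    rw [h1, h2, h3]
    norm_num
  · right; left
    rw [h1, h2, h3]
    norm_num
  · right; right
    rw [h1, h2, h3]
    norm_num

set_option maxHeartbeats 1600000 in
/-- **All involutions of a simple group of order `7920` are conjugate.** -/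
theorem involutions_conj [IsSimpleGroup G] (hG : Nat.card G = 7920) (t t' : G)
    (ht : orderOf t = 2) (ht' : orderOf t' = 2) : IsConj t t' := by
  classical
  obtain ⟨ψ, χ₁, χ45, χa, χb, χc, η₁, η₂, θ₁, θ₂, hbij, hdψ, hχ₁, hd45, hda, hdb, hdc, hdη₁,
    hdη₂, hdθ₁, hdθ₂, hR11a, hR11b, hRsq, hR5⟩ := table7920 hG
  obtain ⟨v1, v2, v3, v4, v5, v6, v7⟩ := involution_values_aux hG ψ χ₁ χ45 χa χb χc η₁ η₂ θ₁ θ₂
    hbij hdψ hχ₁ hd45 hda hdb hdc hdη₁ hdη₂ hdθ₁ hdθ₂ hR11a hR11b hRsq hR5 t ht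
  obtain ⟨w1, w2, w3, w4, w5, w6, w7⟩ := involution_values_aux hG ψ χ₁ χ45 χa χb χc η₁ η₂ θ₁ θ₂
    hbij hdψ hχ₁ hd45 hda hdb hdc hdη₁ hdη₂ hdθ₁ hdθ₂ hR11a hR11b hRsq hR5 t' ht'
  by_contra hnc
  have : Fintype G := Fintype.ofFinite G
  have : Finite (IrrCharacter G) := Cfsg.Agent.Lib.Helper81.irr_finite G
  have : Fintype (IrrCharacter G) := Fintype.ofFinite _
  have hcol := Cfsg.Agent.Lib.Helper80.second_orthogonality_of_not_isConj (G := G) hnc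
  rw [← hbij.sum_comp, sum_univ_ten'] at hcol
  have hcol' : (ψ : G → ℂ) t * (starRingEnd ℂ) ((ψ : G → ℂ) t') +
      (χ₁ : G → ℂ) t * (starRingEnd ℂ) ((χ₁ : G → ℂ) t') +
      (χ45 : G → ℂ) t * (starRingEnd ℂ) ((χ45 : G → ℂ) t') +
      (χa : G → ℂ) t * (starRingEnd ℂ) ((χa : G → ℂ) t') +
      (χb : G → ℂ) t * (starRingEnd ℂ) ((χb : G → ℂ) t') +
      (χc : G → ℂ) t * (starRingEnd ℂ) ((χc : G → ℂ) t') +
      (η₁ : G → ℂ) t * (starRingEnd ℂ) ((η₁ : G → ℂ) t') +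
      (η₂ : G → ℂ) t * (starRingEnd ℂ) ((η₂ : G → ℂ) t') +
      (θ₁ : G → ℂ) t * (starRingEnd ℂ) ((θ₁ : G → ℂ) t') +
      (θ₂ : G → ℂ) t * (starRingEnd ℂ) ((θ₂ : G → ℂ) t') = 0 := hcol
  rw [v1, v2, v3, v4, v5, v6, w1, w2, w3, w4, w5, w6, hχ₁ t, hχ₁ t'] at hcol'
  rcases v7 with ⟨a1, a2, a3⟩ | ⟨a1, a2, a3⟩ | ⟨a1, a2, a3⟩ <;>
    rcases w7 with ⟨b1, b2, b3⟩ | ⟨b1, b2, b3⟩ | ⟨b1, b2, b3⟩ <;>
    rw [a1, a2, a3, b1, b2, b3] at hcol' <;>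
    simp only [map_neg, map_one, map_ofNat, map_zero] at hcol' <;>
    norm_num at hcol'

/-- **A simple group of order `7920` has exactly `165` involutions.** -/
theorem card_involutions [IsSimpleGroup G] (hG : Nat.card G = 7920) :
    Nat.card {t : G // orderOf t = 2} = 165 := by
  classical
  have : Fact (Nat.Prime 2) := ⟨by norm_num⟩
  have : Fintype G := Fintype.ofFinite G
  obtain ⟨t₀, ht₀⟩ := exists_prime_orderOf_dvd_card' (G := G) 2 (by rw [hG]; norm_num)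
  have hset : (Finset.univ.filter fun t : G => orderOf t = 2) =
      Cfsg.Agent.Lib.Helper80.conjFinset t₀ := by
    ext x
    rw [Cfsg.Agent.Lib.Helper80.mem_conjFinset, Finset.mem_filter]
    constructor
    · rintro ⟨-, hx⟩
      exact involutions_conj hG t₀ x ht₀ hx
    · intro hx
      refine ⟨Finset.mem_univ _, ?_⟩
      obtain ⟨c, hc⟩ := hx
      rw [← SemiconjBy.orderOf_eq (c : G) hc]
      exact ht₀
  rw [Nat.card_eq_fintype_card, Fintype.card_subtype, hset,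
    Cfsg.Agent.Lib.Helper80.card_conjFinset]
  have h1 := Subgroup.index_mul_card (Subgroup.centralizer ({t₀} : Set G))
  rw [card_centralizer_involution hG t₀ ht₀, hG] at h1
  omega

end Cfsg.Agent.Lib.Helper91.M11
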