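import Mathlib
import Cfsg.Agent.Lib.Helper91.M11Inv

set_option autoImplicit false

/-!
# The `11`-singular elements of a simple group of order `7920`

There are at most `1440` elements of order divisible by `11`, and the generalized character
`2 + 2χ45 - 2(χa + χb + χc) - η₁ - η₂`, which vanishes on the `11`-regular elements, takes the
value `11` on each of them.
-/

namespace Cfsg.Agent.Lib.Helper91.M11

open Cfsg Cfsg.Agent.Lib.Helper17 Cfsg.Agent.Lib.Helper91.SS

variable {G : Type*} [Group G] [Finite G]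

/-- the number of Sylow `11`-subgroups of a simple group of order `7920` -/
theorem card_sylow11 [IsSimpleGroup G] (hG : Nat.card G = 7920) :
    Nat.card (Sylow 11 G) = 144 := by
  have : Fact (Nat.Prime 11) := ⟨by norm_num⟩
  obtain ⟨P⟩ : Nonempty (Sylow 11 G) := inferInstance
  obtain ⟨hP, hN, -, -⟩ := sylow11 hG P
  rw [Sylow.card_eq_index_normalizer P]
  have hci := Subgroup.card_mul_index (Subgroup.normalizer ((P : Subgroup G) : Set G))
  rw [hN, hG] at hci
  have hci2 : (Subgroup.normalizer ((P : Subgroup G) : Set G)).index = 144 := by omega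
  exact hci2

/-- an `11`-singular element of a simple group of order `7920` lies in a Sylow `11`-subgroup -/
theorem exists_sylow11_mem [IsSimpleGroup G] (hG : Nat.card G = 7920) (g : G)
    (hg : 11 ∣ orderOf g) : ∃ P : Sylow 11 G, g ∈ (P : Subgroup G) := by
  have : Fact (Nat.Prime 11) := ⟨by norm_num⟩
  obtain ⟨k, hk⟩ := hg
  have hgpos : 0 < orderOf g := orderOf_pos g
  have hk0 : k ≠ 0 := by
    rintro rfl
    omega
  have hyo : orderOf (g ^ k) = 11 := by
    rw [orderOf_pow_of_dvd hk0 ⟨11, by rw [hk]; ring⟩, hk]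
    exact Nat.mul_div_cancel _ (Nat.pos_of_ne_zero hk0)
  have hpg : IsPGroup 11 (Subgroup.zpowers (g ^ k)) :=
    IsPGroup.of_card (n := 1) (by rw [Nat.card_zpowers, hyo]; norm_num)
  obtain ⟨P, hP⟩ := hpg.exists_le_sylow
  obtain ⟨hP11, -, hC, -⟩ := sylow11 hG P
  have hyP : g ^ k ∈ (P : Subgroup G) := hP (Subgroup.mem_zpowers _)
  have hy1 : g ^ k ≠ 1 := by
    intro h
    rw [h, orderOf_one] at hyo
    omega
  refine ⟨P, ?_⟩
  rw [← hC, ← centralizer_singleton_eq (by norm_num) (P : Subgroup G) hP11 (g ^ k) hyP hy1,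
    Subgroup.mem_centralizer_iff]
  intro w hw
  rw [Set.mem_singleton_iff] at hw
  subst hw
  exact (pow_mul_comm' g k)

/-- a simple group of order `7920` has at most `1440` elements of order divisible by `11` -/
theorem card_eleven_singular_le [IsSimpleGroup G] (hG : Nat.card G = 7920) :
    Nat.card {g : G // 11 ∣ orderOf g} ≤ 1440 := by
  classical
  have : Fintype G := Fintype.ofFinite G
  have : Fact (Nat.Prime 11) := ⟨by norm_num⟩
  have : Fintype (Sylow 11 G) := Fintype.ofFinite _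
  rw [Nat.card_eq_fintype_card, Fintype.card_subtype]
  have hsub : Finset.univ.filter (fun g : G => 11 ∣ orderOf g) ⊆
      Finset.univ.biUnion (fun P : Sylow 11 G =>
        (Finset.univ.filter (fun g : G => g ∈ (P : Subgroup G))).erase 1) := by
    intro g hg
    rw [Finset.mem_filter] at hg
    obtain ⟨P, hP⟩ := exists_sylow11_mem hG g hg.2
    rw [Finset.mem_biUnion]
    refine ⟨P, Finset.mem_univ _, ?_⟩
    rw [Finset.mem_erase, Finset.mem_filter]
    refine ⟨?_, Finset.mem_univ _, hP⟩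
    intro h1
    have := hg.2
    rw [h1, orderOf_one] at this
    omega
  refine (Finset.card_le_card hsub).trans ?_
  refine Finset.card_biUnion_le.trans ?_
  have h10 : ∀ P : Sylow 11 G,
      ((Finset.univ.filter (fun g : G => g ∈ (P : Subgroup G))).erase 1).card = 10 := by
    intro P
    rw [Finset.card_erase_of_mem (by simp [one_mem])]
    have h11 := (sylow11 hG P).1
    rw [Nat.card_eq_fintype_card, Fintype.card_subtype] at h11
    rw [h11]
  rw [Finset.sum_congr rfl (fun P _ => h10 P), Finset.sum_const, Finset.card_univ,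
    ← Nat.card_eq_fintype_card, card_sylow11 hG]
  norm_num

set_option maxHeartbeats 1600000 in
/-- the generalized character `2 + 2χ45 - 2(χa + χb + χc) - η₁ - η₂` of a simple group of order
`7920` equals `11` on the `11`-singular elements -/
theorem theta_eleven [IsSimpleGroup G] (hG : Nat.card G = 7920)
    (χ₁ χ45 χa χb χc η₁ η₂ : IrrCharacter G)
    (hinj : Function.Injective (![χ₁, χ45, χa, χb, χc, η₁, η₂] : Fin 7 → IrrCharacter G))
    (hχ₁ : ∀ g, (χ₁ : G → ℂ) g = 1)
    (hR11a : ∀ g : G, ¬ 11 ∣ orderOf g → 1 + (χ45 : G → ℂ) g - (χa : G → ℂ) g -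
      (χb : G → ℂ) g - (χc : G → ℂ) g - (η₁ : G → ℂ) g = 0)
    (hR11b : ∀ g : G, ¬ 11 ∣ orderOf g → 1 + (χ45 : G → ℂ) g - (χa : G → ℂ) g -
      (χb : G → ℂ) g - (χc : G → ℂ) g - (η₂ : G → ℂ) g = 0)
    (z : G) (hz : 11 ∣ orderOf z) :
    2 + 2 * (χ45 : G → ℂ) z - 2 * (χa : G → ℂ) z - 2 * (χb : G → ℂ) z - 2 * (χc : G → ℂ) z -
      (η₁ : G → ℂ) z - (η₂ : G → ℂ) z = 11 := by
  classical
  have : Fintype G := Fintype.ofFinite G
  obtain ⟨X, hX⟩ : ∃ X : Fin 7 → IrrCharacter G, X = ![χ₁, χ45, χa, χb, χc, η₁, η₂] := ⟨_, rfl⟩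
  obtain ⟨c, hc⟩ : ∃ c : Fin 7 → ℂ, c = ![2, 2, -2, -2, -2, -1, -1] := ⟨_, rfl⟩
  rw [← hX] at hinj
  obtain ⟨Θ, hΘ⟩ : ∃ Θ : G → ℂ, Θ = fun g => ∑ i, c i * (X i : G → ℂ) g := ⟨_, rfl⟩
  have hΘe : ∀ g, Θ g = 2 + 2 * (χ45 : G → ℂ) g - 2 * (χa : G → ℂ) g - 2 * (χb : G → ℂ) g -
      2 * (χc : G → ℂ) g - (η₁ : G → ℂ) g - (η₂ : G → ℂ) g := by
    intro g
    rw [hΘ, hX, hc]
    simp only [Fin.sum_univ_succ, Fin.sum_univ_zero]
    simp [hχ₁ g]
    ring
  have hcc : ∀ i, starRingEnd ℂ (c i) = c i := by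
    intro i
    rw [hc]
    fin_cases i <;> simp [Complex.conj_ofNat]
  have hconj : ∀ g, starRingEnd ℂ (Θ g) = Θ g⁻¹ := by
    intro g
    rw [hΘ]
    simp only [map_sum, map_mul]
    refine Finset.sum_congr rfl (fun i _ => ?_)
    rw [← Cfsg.Agent.Lib.Helper81.irr_inv, hcc]
  have hoff : ∀ g, ¬ 11 ∣ orderOf g → Θ g = 0 := by
    intro g hg
    rw [hΘe]
    linear_combination hR11a g hg + hR11b g hg
  have hoff' : ∀ g, ¬ 11 ∣ orderOf g → Θ g⁻¹ = 0 := by
    intro g hg
    rw [← hconj, hoff g hg, map_zero]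
  have hX0 : ∀ g, (X 0 : G → ℂ) g = 1 := by
    intro g
    rw [hX]
    exact hχ₁ g
  have hsum1 : ∑ g : G, Θ g = 2 * (Nat.card G : ℂ) := by
    have h1 : ∀ g, Θ g = ∑ i, c i * ((X i : G → ℂ) g * (X 0 : G → ℂ) g⁻¹) := by
      intro g
      rw [hΘ]
      simp only [hX0, mul_one]
    simp_rw [h1]
    rw [Finset.sum_comm]
    simp_rw [← Finset.mul_sum, Cfsg.Agent.Lib.Helper81.irr_orth, hinj.eq_iff]
    rw [hc]
    simp
  have hsum1' : ∑ g : G, Θ g⁻¹ = 2 * (Nat.card G : ℂ) := by
    rw [← hsum1]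
    exact Fintype.sum_equiv (Equiv.inv G) _ _ (fun g => rfl)
  have hsum2 : ∑ g : G, Θ g * Θ g⁻¹ = 22 * (Nat.card G : ℂ) := by
    have h1 : ∀ g, Θ g * Θ g⁻¹ =
        ∑ i, ∑ j, c i * c j * ((X i : G → ℂ) g * (X j : G → ℂ) g⁻¹) := by
      intro g
      rw [hΘ]
      simp only [Finset.sum_mul_sum]
      refine Finset.sum_congr rfl (fun i _ => Finset.sum_congr rfl (fun j _ => ?_))
      ring
    simp_rw [h1]
    rw [Finset.sum_comm]
    refine (Finset.sum_congr rfl (fun i _ => Finset.sum_comm)).trans ?_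
    simp_rw [← Finset.mul_sum, Cfsg.Agent.Lib.Helper81.irr_orth, hinj.eq_iff]
    rw [hc]
    simp [Fin.sum_univ_succ]
    ring
  -- restrict the sums to the `11`-singular elements
  have hS1 : ∑ g ∈ Finset.univ.filter (fun g : G => 11 ∣ orderOf g), Θ g =
      2 * (Nat.card G : ℂ) := by
    rw [← hsum1]
    refine Finset.sum_filter_of_ne (fun g _ hne => ?_)
    by_contra h
    exact hne (hoff g h)
  have hS1' : ∑ g ∈ Finset.univ.filter (fun g : G => 11 ∣ orderOf g), Θ g⁻¹ =
      2 * (Nat.card G : ℂ) := by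
    rw [← hsum1']
    refine Finset.sum_filter_of_ne (fun g _ hne => ?_)
    by_contra h
    exact hne (hoff' g h)
  have hS2 : ∑ g ∈ Finset.univ.filter (fun g : G => 11 ∣ orderOf g), Θ g * Θ g⁻¹ =
      22 * (Nat.card G : ℂ) := by
    rw [← hsum2]
    refine Finset.sum_filter_of_ne (fun g _ hne => ?_)
    by_contra h
    apply hne
    rw [hoff g h, zero_mul]
  have hcard : (Finset.univ.filter (fun g : G => 11 ∣ orderOf g)).card ≤ 1440 := by
    have := card_eleven_singular_le hG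
    rwa [Nat.card_eq_fintype_card, Fintype.card_subtype] at this
  have hkey : ((∑ g ∈ Finset.univ.filter (fun g : G => 11 ∣ orderOf g),
      Complex.normSq (Θ g - 11) : ℝ) : ℂ) =
      121 * ((Finset.univ.filter (fun g : G => 11 ∣ orderOf g)).card : ℂ) -
        22 * (Nat.card G : ℂ) := by
    push_cast
    have h1 : ∀ g : G, ((Complex.normSq (Θ g - 11) : ℝ) : ℂ) =
        Θ g * Θ g⁻¹ - 11 * Θ g - 11 * Θ g⁻¹ + 121 := by
      intro g
      rw [← Complex.mul_conj, map_sub, hconj]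
      have : (starRingEnd ℂ) (11 : ℂ) = 11 := by
        have := map_natCast (starRingEnd ℂ) 11
        exact_mod_cast this
      rw [this]
      ring
    simp_rw [h1]
    rw [Finset.sum_add_distrib, Finset.sum_sub_distrib, Finset.sum_sub_distrib, hS2,
      ← Finset.mul_sum, ← Finset.mul_sum, hS1, hS1', Finset.sum_const, nsmul_eq_mul]
    ring
  have hkey' : (∑ g ∈ Finset.univ.filter (fun g : G => 11 ∣ orderOf g),
      Complex.normSq (Θ g - 11) : ℝ) =
      121 * ((Finset.univ.filter (fun g : G => 11 ∣ orderOf g)).card : ℝ) -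
        22 * (Nat.card G : ℝ) := by
    exact_mod_cast hkey
  have hle : (∑ g ∈ Finset.univ.filter (fun g : G => 11 ∣ orderOf g),
      Complex.normSq (Θ g - 11) : ℝ) ≤ 0 := by
    rw [hkey', hG]
    have : ((Finset.univ.filter (fun g : G => 11 ∣ orderOf g)).card : ℝ) ≤ 1440 := by
      exact_mod_cast hcard
    push_cast
    linarith
  have hzero := (Finset.sum_eq_zero_iff_of_nonneg
    (fun g _ => Complex.normSq_nonneg (Θ g - 11))).1
    (le_antisymm hle (Finset.sum_nonneg (fun g _ => Complex.normSq_nonneg (Θ g - 11))))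
    z (Finset.mem_filter.2 ⟨Finset.mem_univ _, hz⟩)
  rw [Complex.normSq_eq_zero, sub_eq_zero] at hzero
  rw [← hΘe]
  exact hzero

end Cfsg.Agent.Lib.Helper91.M11
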