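import Mathlib
import Cfsg.Agent.Lib.Helper91.SO2Exc

set_option autoImplicit false

/-!
# Certificates for the orders `3641` to `3964`

Each order in this range, apart from the exceptional ones, is excluded by one of the rules of
`Cfsg.Agent.Lib.Helper93.SO.validB`.
-/

namespace Cfsg.Agent.Lib.Helper91.SO2

open Cfsg.Agent.Lib.Helper93.SO

universe u

/-- the certificates for the orders `3641` to `3964` -/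
def certs0 : List (ℕ × ℕ × ℕ × ℕ × ℕ × ℕ) :=
  [(0, 11, 1, 331, 1, 0), (1, 0, 0, 0, 0, 0), (0, 3643, 1, 2, 0, 0), (0, 2, 2, 911, 1, 0),
   (0, 3, 6, 5, 1, 0), (0, 2, 1, 1823, 1, 0), (0, 7, 1, 521, 1, 0), (3, 19, 1, 2, 192, 0),
   (0, 41, 1, 89, 1, 0), (1, 0, 0, 0, 0, 0), (0, 3, 1, 1217, 1, 0), (1, 0, 0, 0, 0, 0),
   (0, 13, 1, 281, 1, 0), (1, 0, 0, 0, 0, 0), (2, 17, 1, 5, 215, 0), (0, 2, 3, 457, 1, 0),
   (2, 23, 1, 3, 159, 0), (1, 0, 0, 0, 0, 0), (0, 3659, 1, 2, 0, 0), (2, 61, 1, 2, 60, 0),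
   (0, 7, 1, 523, 1, 0), (0, 2, 1, 1831, 1, 0), (2, 37, 1, 3, 99, 0), (0, 2, 4, 229, 1, 0),
   (0, 5, 1, 733, 1, 0), (1, 0, 0, 0, 0, 0), (0, 19, 1, 193, 1, 0), (1, 0, 0, 0, 0, 0),
   (0, 3, 1, 1223, 1, 0), (1, 0, 0, 0, 0, 0), (0, 3671, 1, 2, 0, 0), (3, 17, 1, 2, 216, 0),
   (0, 3673, 1, 2, 0, 0), (1, 0, 0, 0, 0, 0), (3, 3, 1, 5, 1225, 0), (0, 2, 2, 919, 1, 0),
   (0, 3677, 1, 2, 0, 0), (1, 0, 0, 0, 0, 0), (0, 13, 1, 283, 1, 0), (2, 23, 1, 2, 160, 0),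
   (0, 3, 2, 409, 1, 0), (1, 0, 0, 0, 0, 0), (0, 29, 1, 127, 1, 0), (2, 307, 1, 2, 12, 0),
   (2, 5, 1, 11, 737, 0), (1, 0, 0, 0, 0, 0), (0, 3, 1, 1229, 1, 0), (0, 2, 3, 461, 1, 0),
   (2, 7, 1, 17, 527, 0), (1, 0, 0, 0, 0, 0), (0, 3691, 1, 2, 0, 0), (1, 0, 0, 0, 0, 0),
   (0, 3, 1, 1231, 1, 0), (0, 2, 1, 1847, 1, 0), (0, 5, 1, 739, 1, 0), (3, 11, 1, 2, 336, 0),
   (0, 3697, 1, 2, 0, 0), (0, 2, 1, 43, 2, 0), (0, 3, 3, 137, 1, 0), (1, 0, 0, 0, 0, 0),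
   (0, 3701, 1, 2, 0, 0), (1, 0, 0, 0, 0, 0), (0, 7, 1, 23, 2, 0), (0, 2, 3, 463, 1, 0),
   (2, 13, 1, 3, 285, 0), (1, 0, 0, 0, 0, 0), (0, 11, 1, 337, 1, 0), (2, 103, 1, 2, 36, 0),
   (0, 3709, 1, 2, 0, 0), (1, 0, 0, 0, 0, 0), (0, 3, 1, 1237, 1, 0), (0, 2, 7, 29, 1, 0),
   (0, 47, 1, 79, 1, 0), (1, 0, 0, 0, 0, 0), (0, 5, 1, 743, 1, 0), (0, 2, 2, 929, 1, 0),
   (2, 3, 2, 7, 413, 0), (1, 0, 0, 0, 0, 0), (0, 3719, 1, 2, 0, 0), (2, 31, 1, 2, 120, 0),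
   (0, 61, 2, 2, 0, 0), (0, 2, 1, 1861, 1, 0), (2, 17, 1, 3, 219, 0), (1, 0, 0, 0, 0, 0),
   (0, 5, 2, 149, 1, 0), (1, 0, 0, 0, 0, 0), (0, 3727, 1, 2, 0, 0), (0, 2, 4, 233, 1, 0),
   (2, 11, 1, 3, 339, 0), (1, 0, 0, 0, 0, 0), (2, 41, 1, 7, 91, 0), (2, 311, 1, 2, 12, 0),
   (0, 3733, 1, 2, 0, 0), (0, 2, 1, 1867, 1, 0), (2, 5, 1, 3, 747, 0), (0, 2, 3, 467, 1, 0),
   (0, 37, 1, 101, 1, 0), (1, 0, 0, 0, 0, 0), (0, 3739, 1, 2, 0, 0), (1, 0, 0, 0, 0, 0),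
   (2, 29, 1, 3, 129, 0), (0, 2, 1, 1871, 1, 0), (0, 19, 1, 197, 1, 0), (3, 13, 1, 2, 288, 0),
   (2, 5, 1, 7, 749, 0), (0, 2, 1, 1873, 1, 0), (0, 3, 1, 1249, 1, 0), (0, 2, 2, 937, 1, 0),
   (0, 23, 1, 163, 1, 0), (1, 0, 0, 0, 0, 0), (0, 11, 2, 31, 1, 0), (2, 67, 1, 2, 56, 0),
   (0, 3, 3, 139, 1, 0), (0, 2, 1, 1877, 1, 0), (0, 5, 1, 751, 1, 0), (2, 313, 1, 2, 12, 0),
   (0, 13, 1, 17, 2, 0), (0, 2, 1, 1879, 1, 0), (2, 3, 1, 7, 1253, 0), (2, 47, 1, 2, 80, 0),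
   (0, 3761, 1, 2, 0, 0), (1, 0, 0, 0, 0, 0), (0, 53, 1, 71, 1, 0), (0, 2, 2, 941, 1, 0),
   (2, 251, 1, 3, 15, 0), (1, 0, 0, 0, 0, 0), (0, 3767, 1, 2, 0, 0), (2, 157, 1, 2, 24, 0),
   (0, 3769, 1, 2, 0, 0), (1, 0, 0, 0, 0, 0), (0, 3, 2, 419, 1, 0), (1, 0, 0, 0, 0, 0),
   (0, 7, 3, 11, 1, 0), (1, 0, 0, 0, 0, 0), (0, 5, 2, 151, 1, 0), (0, 2, 6, 59, 1, 0),
   (0, 3, 1, 1259, 1, 0), (0, 2, 1, 1889, 1, 0), (0, 3779, 1, 2, 0, 0), (9, 0, 0, 0, 0, 0),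
   (0, 19, 1, 199, 1, 0), (1, 0, 0, 0, 0, 0), (2, 13, 1, 3, 291, 0), (1, 0, 0, 0, 0, 0),
   (0, 5, 1, 757, 1, 0), (1, 0, 0, 0, 0, 0), (0, 7, 1, 541, 1, 0), (0, 2, 2, 947, 1, 0),
   (0, 3, 2, 421, 1, 0), (1, 0, 0, 0, 0, 0), (0, 17, 1, 223, 1, 0), (2, 79, 1, 2, 48, 0),
   (0, 3793, 1, 2, 0, 0), (1, 0, 0, 0, 0, 0), (2, 5, 1, 3, 759, 0), (1, 0, 0, 0, 0, 0),
   (0, 3797, 1, 2, 0, 0), (1, 0, 0, 0, 0, 0), (0, 29, 1, 131, 1, 0), (1, 0, 0, 0, 0, 0),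
   (2, 7, 1, 3, 543, 0), (0, 2, 1, 1901, 1, 0), (0, 3803, 1, 2, 0, 0), (2, 317, 1, 2, 12, 0),
   (0, 5, 1, 761, 1, 0), (1, 0, 0, 0, 0, 0), (0, 3, 4, 47, 1, 0), (2, 7, 1, 2, 544, 0),
   (0, 13, 1, 293, 1, 0), (1, 0, 0, 0, 0, 0), (0, 37, 1, 103, 1, 0), (0, 2, 2, 953, 1, 0),
   (2, 3, 1, 31, 1271, 0), (0, 2, 1, 1907, 1, 0), (2, 5, 1, 7, 763, 0), (2, 53, 1, 2, 72, 0),
   (0, 11, 1, 347, 1, 0), (1, 0, 0, 0, 0, 0), (2, 19, 1, 3, 201, 0), (1, 0, 0, 0, 0, 0),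
   (0, 3821, 1, 2, 0, 0), (1, 0, 0, 0, 0, 0), (0, 3823, 1, 2, 0, 0), (0, 2, 4, 239, 1, 0),
   (2, 17, 1, 3, 225, 0), (0, 2, 1, 1913, 1, 0), (0, 43, 1, 89, 1, 0), (2, 11, 1, 2, 348, 0),
   (0, 7, 1, 547, 1, 0), (1, 0, 0, 0, 0, 0), (0, 3, 1, 1277, 1, 0), (0, 2, 3, 479, 1, 0),
   (0, 3833, 1, 2, 0, 0), (1, 0, 0, 0, 0, 0), (2, 5, 1, 13, 767, 0), (1, 0, 0, 0, 0, 0),
   (0, 3, 1, 1279, 1, 0), (1, 0, 0, 0, 0, 0), (0, 11, 1, 349, 1, 0), (4, 2, 8, 3, 15, 2),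
   (0, 23, 1, 167, 1, 0), (1, 0, 0, 0, 0, 0), (2, 61, 1, 3, 63, 0), (0, 2, 2, 31, 2, 0),
   (0, 5, 1, 769, 1, 0), (1, 0, 0, 0, 0, 0), (0, 3847, 1, 2, 0, 0), (1, 0, 0, 0, 0, 0),
   (0, 3, 1, 1283, 1, 0), (1, 0, 0, 0, 0, 0), (0, 3851, 1, 2, 0, 0), (2, 107, 1, 2, 36, 0),
   (0, 3853, 1, 2, 0, 0), (1, 0, 0, 0, 0, 0), (2, 257, 1, 3, 15, 0), (0, 2, 4, 241, 1, 0),
   (2, 19, 1, 7, 203, 0), (1, 0, 0, 0, 0, 0), (0, 17, 1, 227, 1, 0), (1, 0, 0, 0, 0, 0),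
   (2, 11, 1, 3, 351, 0), (0, 2, 1, 1931, 1, 0), (0, 3863, 1, 2, 0, 0), (3, 23, 1, 2, 168, 0),
   (0, 5, 1, 773, 1, 0), (0, 2, 1, 1933, 1, 0), (0, 3, 1, 1289, 1, 0), (0, 2, 2, 967, 1, 0),
   (0, 53, 1, 73, 1, 0), (1, 0, 0, 0, 0, 0), (0, 7, 2, 79, 1, 0), (0, 2, 5, 11, 2, 0),
   (0, 3, 1, 1291, 1, 0), (1, 0, 0, 0, 0, 0), (0, 5, 3, 31, 1, 0), (2, 17, 1, 2, 228, 0),
   (0, 3877, 1, 2, 0, 0), (1, 0, 0, 0, 0, 0), (0, 3, 2, 431, 1, 0), (1, 0, 0, 0, 0, 0),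
   (0, 3881, 1, 2, 0, 0), (1, 0, 0, 0, 0, 0), (0, 11, 1, 353, 1, 0), (0, 2, 2, 971, 1, 0),
   (2, 7, 1, 3, 555, 0), (1, 0, 0, 0, 0, 0), (0, 13, 2, 23, 1, 0), (0, 2, 4, 3, 5, 0),
   (0, 3889, 1, 2, 0, 0), (1, 0, 0, 0, 0, 0), (0, 3, 1, 1297, 1, 0), (1, 0, 0, 0, 0, 0),
   (0, 17, 1, 229, 1, 0), (1, 0, 0, 0, 0, 0), (2, 19, 1, 5, 205, 0), (0, 2, 3, 487, 1, 0),
   (0, 3, 2, 433, 1, 0), (0, 2, 1, 1949, 1, 0), (0, 7, 1, 557, 1, 0), (3, 13, 1, 2, 300, 0),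
   (0, 47, 1, 83, 1, 0), (0, 2, 1, 1951, 1, 0), (0, 3, 1, 1301, 1, 0), (0, 2, 6, 61, 1, 0),
   (2, 11, 1, 5, 355, 0), (1, 0, 0, 0, 0, 0), (0, 3907, 1, 2, 0, 0), (0, 2, 2, 977, 1, 0),
   (0, 3, 1, 1303, 1, 0), (1, 0, 0, 0, 0, 0), (0, 3911, 1, 2, 0, 0), (2, 163, 1, 2, 24, 0),
   (2, 13, 1, 7, 301, 0), (1, 0, 0, 0, 0, 0), (2, 29, 1, 3, 135, 0), (1, 0, 0, 0, 0, 0),
   (0, 3917, 1, 2, 0, 0), (1, 0, 0, 0, 0, 0), (0, 3919, 1, 2, 0, 0), (2, 7, 2, 2, 80, 0),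
   (0, 3, 1, 1307, 1, 0), (1, 0, 0, 0, 0, 0), (0, 3923, 1, 2, 0, 0), (2, 109, 1, 2, 36, 0),
   (0, 5, 2, 157, 1, 0), (1, 0, 0, 0, 0, 0), (2, 11, 1, 3, 357, 0), (0, 2, 3, 491, 1, 0),
   (0, 3929, 1, 2, 0, 0), (1, 0, 0, 0, 0, 0), (0, 3931, 1, 2, 0, 0), (0, 2, 2, 983, 1, 0),
   (2, 3, 2, 19, 437, 0), (1, 0, 0, 0, 0, 0), (0, 5, 1, 787, 1, 0), (2, 41, 1, 2, 96, 0),
   (0, 31, 1, 127, 1, 0), (1, 0, 0, 0, 0, 0), (2, 3, 1, 13, 1313, 0), (1, 0, 0, 0, 0, 0),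
   (0, 7, 1, 563, 1, 0), (1, 0, 0, 0, 0, 0), (0, 3943, 1, 2, 0, 0), (1, 0, 0, 0, 0, 0),
   (2, 5, 1, 3, 789, 0), (0, 2, 1, 1973, 1, 0), (0, 3947, 1, 2, 0, 0), (2, 47, 1, 2, 84, 0),
   (0, 11, 1, 359, 1, 0), (1, 0, 0, 0, 0, 0), (0, 3, 2, 439, 1, 0), (2, 13, 1, 2, 304, 0),
   (0, 59, 1, 67, 1, 0), (1, 0, 0, 0, 0, 0), (2, 113, 1, 5, 35, 0), (1, 0, 0, 0, 0, 0),
   (0, 3, 1, 1319, 1, 0), (0, 2, 1, 1979, 1, 0), (0, 37, 1, 107, 1, 0), (9, 0, 0, 0, 0, 0),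
   (0, 17, 1, 233, 1, 0), (1, 0, 0, 0, 0, 0), (0, 3, 1, 1321, 1, 0), (0, 2, 2, 991, 1, 0)]

/-- the certificate of the order `3641 + i` is valid, or the order is exceptional -/
def certOK0 (i : ℕ) : Bool :=
  excB2 (3641 + i) || (match certs0.getD i (9, 0, 0, 0, 0, 0) with
    | (kind, p, a, q, m, k) => validB (3641 + i) kind p a q m k)

set_option maxRecDepth 100000 in
theorem certs0_ok_0 : (List.range' 0 27).all certOK0 = true := by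
  decide +kernel

set_option maxRecDepth 100000 in
theorem certs0_ok_1 : (List.range' 27 27).all certOK0 = true := by
  decide +kernel

set_option maxRecDepth 100000 in
theorem certs0_ok_2 : (List.range' 54 27).all certOK0 = true := by
  decide +kernel

set_option maxRecDepth 100000 in
theorem certs0_ok_3 : (List.range' 81 27).all certOK0 = true := by
  decide +kernel

set_option maxRecDepth 100000 in
theorem certs0_ok_4 : (List.range' 108 27).all certOK0 = true := by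
  decide +kernel

set_option maxRecDepth 100000 in
theorem certs0_ok_5 : (List.range' 135 27).all certOK0 = true := by
  decide +kernel

set_option maxRecDepth 100000 in
theorem certs0_ok_6 : (List.range' 162 27).all certOK0 = true := by
  decide +kernel

set_option maxRecDepth 100000 in
theorem certs0_ok_7 : (List.range' 189 27).all certOK0 = true := by
  decide +kernel

set_option maxRecDepth 100000 in
theorem certs0_ok_8 : (List.range' 216 27).all certOK0 = true := by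
  decide +kernel

set_option maxRecDepth 100000 in
theorem certs0_ok_9 : (List.range' 243 27).all certOK0 = true := by
  decide +kernel

set_option maxRecDepth 100000 in
theorem certs0_ok_10 : (List.range' 270 27).all certOK0 = true := by
  decide +kernel

set_option maxRecDepth 100000 in
theorem certs0_ok_11 : (List.range' 297 27).all certOK0 = true := by
  decide +kernel

theorem certs0_ok : (List.range 324).all certOK0 = true := by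
  rw [List.all_eq_true]
  intro i hi
  rw [List.mem_range] at hi
  have hk : i / 27 < 12 := by omega
  interval_cases hk' : i / 27
  · exact List.all_eq_true.mp certs0_ok_0 i (List.mem_range'_1.mpr ⟨by omega, by omega⟩)
  · exact List.all_eq_true.mp certs0_ok_1 i (List.mem_range'_1.mpr ⟨by omega, by omega⟩)
  · exact List.all_eq_true.mp certs0_ok_2 i (List.mem_range'_1.mpr ⟨by omega, by omega⟩)
  · exact List.all_eq_true.mp certs0_ok_3 i (List.mem_range'_1.mpr ⟨by omega, by omega⟩)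
  · exact List.all_eq_true.mp certs0_ok_4 i (List.mem_range'_1.mpr ⟨by omega, by omega⟩)
  · exact List.all_eq_true.mp certs0_ok_5 i (List.mem_range'_1.mpr ⟨by omega, by omega⟩)
  · exact List.all_eq_true.mp certs0_ok_6 i (List.mem_range'_1.mpr ⟨by omega, by omega⟩)
  · exact List.all_eq_true.mp certs0_ok_7 i (List.mem_range'_1.mpr ⟨by omega, by omega⟩)
  · exact List.all_eq_true.mp certs0_ok_8 i (List.mem_range'_1.mpr ⟨by omega, by omega⟩)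
  · exact List.all_eq_true.mp certs0_ok_9 i (List.mem_range'_1.mpr ⟨by omega, by omega⟩)
  · exact List.all_eq_true.mp certs0_ok_10 i (List.mem_range'_1.mpr ⟨by omega, by omega⟩)
  · exact List.all_eq_true.mp certs0_ok_11 i (List.mem_range'_1.mpr ⟨by omega, by omega⟩)

theorem sweep0 (n : ℕ) (h1 : 3641 ≤ n) (h2 : n ≤ 3964) (hex : excB2 n = false) :
    NoSimple.{u} n := by
  obtain ⟨i, rfl⟩ : ∃ i, n = 3641 + i := ⟨n - 3641, by omega⟩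
  have h := List.all_eq_true.mp certs0_ok i (List.mem_range.mpr (by omega))
  unfold certOK0 at h
  rw [Bool.or_eq_true] at h
  rcases h with h | h
  · rw [hex] at h
    exact absurd h (by decide)
  · rcases hc : certs0.getD i (9, 0, 0, 0, 0, 0) with ⟨kind, p, a, q, m, k⟩
    rw [hc] at h
    exact noSimple_of_validB (3641 + i) kind p a q m k h

end Cfsg.Agent.Lib.Helper91.SO2
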