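import Mathlib
import Cfsg.Agent.Lib.Helper91.SO2Exc

set_option autoImplicit false

/-!
# Certificates for the orders `3965` to `4288`

Each order in this range, apart from the exceptional ones, is excluded by one of the rules of
`Cfsg.Agent.Lib.Helper93.SO.validB`.
-/

namespace Cfsg.Agent.Lib.Helper91.SO2

open Cfsg.Agent.Lib.Helper93.SO

universe u

/-- the certificates for the orders `3965` to `4288` -/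
def certs1 : List (ℕ × ℕ × ℕ × ℕ × ℕ × ℕ) :=
  [(2, 13, 1, 5, 305, 0), (1, 0, 0, 0, 0, 0), (0, 3967, 1, 2, 0, 0), (0, 2, 7, 31, 1, 0),
   (0, 3, 4, 7, 2, 0), (1, 0, 0, 0, 0, 0), (0, 11, 1, 19, 2, 0), (2, 331, 1, 2, 12, 0),
   (0, 29, 1, 137, 1, 0), (0, 2, 1, 1987, 1, 0), (2, 5, 2, 3, 159, 0), (2, 71, 1, 2, 56, 0),
   (0, 41, 1, 97, 1, 0), (1, 0, 0, 0, 0, 0), (0, 23, 1, 173, 1, 0), (1, 0, 0, 0, 0, 0),
   (0, 3, 1, 1327, 1, 0), (1, 0, 0, 0, 0, 0), (0, 7, 1, 569, 1, 0), (2, 83, 1, 2, 48, 0),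
   (0, 5, 1, 797, 1, 0), (0, 2, 1, 1993, 1, 0), (0, 3, 2, 443, 1, 0), (0, 2, 2, 997, 1, 0),
   (0, 3989, 1, 2, 0, 0), (1, 0, 0, 0, 0, 0), (0, 13, 1, 307, 1, 0), (0, 2, 3, 499, 1, 0),
   (0, 3, 1, 11, 3, 0), (0, 2, 1, 1997, 1, 0), (2, 5, 1, 17, 799, 0), (2, 37, 1, 2, 108, 0),
   (0, 7, 1, 571, 1, 0), (0, 2, 1, 1999, 1, 0), (2, 31, 1, 3, 129, 0), (0, 2, 5, 5, 3, 0),
   (0, 4001, 1, 2, 0, 0), (1, 0, 0, 0, 0, 0), (0, 4003, 1, 2, 0, 0), (1, 0, 0, 0, 0, 0),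
   (2, 89, 1, 3, 45, 0), (0, 2, 1, 2003, 1, 0), (0, 4007, 1, 2, 0, 0), (2, 167, 1, 2, 24, 0),
   (0, 19, 1, 211, 1, 0), (1, 0, 0, 0, 0, 0), (2, 3, 1, 7, 1337, 0), (1, 0, 0, 0, 0, 0),
   (0, 4013, 1, 2, 0, 0), (1, 0, 0, 0, 0, 0), (2, 5, 1, 11, 803, 0), (0, 2, 4, 251, 1, 0),
   (2, 13, 1, 3, 309, 0), (1, 0, 0, 0, 0, 0), (0, 4019, 1, 2, 0, 0), (2, 67, 1, 2, 60, 0),
   (0, 4021, 1, 2, 0, 0), (0, 2, 1, 2011, 1, 0), (0, 3, 3, 149, 1, 0), (0, 2, 3, 503, 1, 0),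
   (2, 23, 1, 5, 175, 0), (1, 0, 0, 0, 0, 0), (0, 4027, 1, 2, 0, 0), (1, 0, 0, 0, 0, 0),
   (2, 17, 1, 3, 237, 0), (1, 0, 0, 0, 0, 0), (0, 29, 1, 139, 1, 0), (9, 0, 0, 0, 0, 0),
   (0, 37, 1, 109, 1, 0), (0, 2, 1, 2017, 1, 0), (2, 5, 1, 3, 807, 0), (0, 2, 2, 1009, 1, 0),
   (0, 11, 1, 367, 1, 0), (1, 0, 0, 0, 0, 0), (0, 7, 1, 577, 1, 0), (1, 0, 0, 0, 0, 0),
   (0, 3, 2, 449, 1, 0), (1, 0, 0, 0, 0, 0), (0, 13, 1, 311, 1, 0), (2, 337, 1, 2, 12, 0),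
   (0, 5, 1, 809, 1, 0), (1, 0, 0, 0, 0, 0), (2, 3, 1, 19, 1349, 0), (2, 23, 1, 2, 176, 0),
   (0, 4049, 1, 2, 0, 0), (1, 0, 0, 0, 0, 0), (0, 4051, 1, 2, 0, 0), (0, 2, 2, 1013, 1, 0),
   (2, 7, 1, 3, 579, 0), (0, 2, 1, 2027, 1, 0), (0, 5, 1, 811, 1, 0), (2, 13, 2, 2, 24, 0),
   (0, 4057, 1, 2, 0, 0), (0, 2, 1, 2029, 1, 0), (2, 11, 1, 3, 369, 0), (1, 0, 0, 0, 0, 0),
   (0, 31, 1, 131, 1, 0), (1, 0, 0, 0, 0, 0), (0, 17, 1, 239, 1, 0), (0, 2, 5, 127, 1, 0),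
   (2, 271, 1, 3, 15, 0), (1, 0, 0, 0, 0, 0), (0, 7, 2, 83, 1, 0), (2, 113, 1, 2, 36, 0),
   (0, 13, 1, 313, 1, 0), (1, 0, 0, 0, 0, 0), (2, 23, 1, 3, 177, 0), (0, 2, 3, 509, 1, 0),
   (0, 4073, 1, 2, 0, 0), (1, 0, 0, 0, 0, 0), (0, 5, 2, 163, 1, 0), (0, 2, 2, 1019, 1, 0),
   (0, 3, 3, 151, 1, 0), (0, 2, 1, 2039, 1, 0), (0, 4079, 1, 2, 0, 0), (9, 0, 0, 0, 0, 0),
   (2, 7, 1, 11, 583, 0), (1, 0, 0, 0, 0, 0), (0, 3, 1, 1361, 1, 0), (0, 2, 2, 1021, 1, 0),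
   (2, 5, 1, 19, 817, 0), (1, 0, 0, 0, 0, 0), (0, 61, 1, 67, 1, 0), (2, 7, 1, 2, 584, 0),
   (2, 29, 1, 3, 141, 0), (1, 0, 0, 0, 0, 0), (0, 4091, 1, 2, 0, 0), (2, 11, 1, 2, 372, 0),
   (0, 4093, 1, 2, 0, 0), (1, 0, 0, 0, 0, 0), (3, 5, 1, 3, 819, 0), (0, 2, 12, 3, 0, 0),
   (0, 17, 1, 241, 1, 0), (1, 0, 0, 0, 0, 0), (0, 4099, 1, 2, 0, 0), (1, 0, 0, 0, 0, 0),
   (0, 3, 1, 1367, 1, 0), (1, 0, 0, 0, 0, 0), (0, 11, 1, 373, 1, 0), (2, 19, 1, 2, 216, 0),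
   (0, 5, 1, 821, 1, 0), (0, 2, 1, 2053, 1, 0), (0, 3, 1, 37, 2, 0), (1, 0, 0, 0, 0, 0),
   (0, 7, 1, 587, 1, 0), (1, 0, 0, 0, 0, 0), (0, 4111, 1, 2, 0, 0), (0, 2, 4, 257, 1, 0),
   (0, 3, 2, 457, 1, 0), (1, 0, 0, 0, 0, 0), (0, 5, 1, 823, 1, 0), (2, 7, 3, 2, 12, 0),
   (0, 23, 1, 179, 1, 0), (1, 0, 0, 0, 0, 0), (0, 3, 1, 1373, 1, 0), (1, 0, 0, 0, 0, 0),
   (0, 13, 1, 317, 1, 0), (1, 0, 0, 0, 0, 0), (2, 19, 1, 7, 217, 0), (0, 2, 2, 1031, 1, 0),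
   (2, 5, 3, 3, 33, 0), (0, 2, 1, 2063, 1, 0), (0, 4127, 1, 2, 0, 0), (2, 43, 1, 2, 96, 0),
   (0, 4129, 1, 2, 0, 0), (1, 0, 0, 0, 0, 0), (0, 3, 5, 17, 1, 0), (0, 2, 2, 1033, 1, 0),
   (0, 4133, 1, 2, 0, 0), (1, 0, 0, 0, 0, 0), (0, 5, 1, 827, 1, 0), (1, 0, 0, 0, 0, 0),
   (2, 3, 1, 7, 1379, 0), (0, 2, 1, 2069, 1, 0), (0, 4139, 1, 2, 0, 0), (2, 23, 1, 2, 180, 0),
   (0, 41, 1, 101, 1, 0), (1, 0, 0, 0, 0, 0), (0, 3, 1, 1381, 1, 0), (3, 7, 1, 2, 592, 0),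
   (0, 5, 1, 829, 1, 0), (1, 0, 0, 0, 0, 0), (2, 11, 1, 13, 377, 0), (1, 0, 0, 0, 0, 0),
   (0, 3, 2, 461, 1, 0), (1, 0, 0, 0, 0, 0), (0, 7, 1, 593, 1, 0), (2, 173, 1, 2, 24, 0),
   (0, 4153, 1, 2, 0, 0), (1, 0, 0, 0, 0, 0), (2, 277, 1, 3, 15, 0), (0, 2, 2, 1039, 1, 0),
   (0, 4157, 1, 2, 0, 0), (1, 0, 0, 0, 0, 0), (0, 4159, 1, 2, 0, 0), (3, 13, 1, 2, 320, 0),
   (2, 19, 1, 3, 219, 0), (0, 2, 1, 2081, 1, 0), (0, 23, 1, 181, 1, 0), (2, 347, 1, 2, 12, 0),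
   (2, 5, 1, 7, 833, 0), (0, 2, 1, 2083, 1, 0), (0, 3, 2, 463, 1, 0), (0, 2, 3, 521, 1, 0),
   (0, 11, 1, 379, 1, 0), (1, 0, 0, 0, 0, 0), (0, 43, 1, 97, 1, 0), (1, 0, 0, 0, 0, 0),
   (2, 3, 1, 13, 1391, 0), (0, 2, 1, 2087, 1, 0), (0, 5, 2, 167, 1, 0), (2, 29, 1, 2, 144, 0),
   (0, 4177, 1, 2, 0, 0), (0, 2, 1, 2089, 1, 0), (2, 7, 1, 3, 597, 0), (1, 0, 0, 0, 0, 0),
   (0, 37, 1, 113, 1, 0), (1, 0, 0, 0, 0, 0), (0, 47, 1, 89, 1, 0), (0, 2, 3, 523, 1, 0),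
   (2, 31, 1, 3, 135, 0), (1, 0, 0, 0, 0, 0), (0, 53, 1, 79, 1, 0), (2, 349, 1, 2, 12, 0),
   (0, 59, 1, 71, 1, 0), (1, 0, 0, 0, 0, 0), (2, 11, 1, 3, 381, 0), (0, 2, 5, 131, 1, 0),
   (0, 7, 1, 599, 1, 0), (1, 0, 0, 0, 0, 0), (0, 5, 1, 839, 1, 0), (0, 2, 2, 1049, 1, 0),
   (0, 3, 1, 1399, 1, 0), (0, 2, 1, 2099, 1, 0), (2, 13, 1, 17, 323, 0), (9, 0, 0, 0, 0, 0),
   (0, 4201, 1, 2, 0, 0), (1, 0, 0, 0, 0, 0), (0, 3, 2, 467, 1, 0), (0, 2, 2, 1051, 1, 0),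
   (0, 5, 1, 29, 2, 0), (1, 0, 0, 0, 0, 0), (0, 7, 1, 601, 1, 0), (0, 2, 4, 263, 1, 0),
   (2, 23, 1, 3, 183, 0), (1, 0, 0, 0, 0, 0), (0, 4211, 1, 2, 0, 0), (9, 0, 0, 0, 0, 0),
   (0, 11, 1, 383, 1, 0), (1, 0, 0, 0, 0, 0), (2, 281, 1, 3, 15, 0), (1, 0, 0, 0, 0, 0),
   (0, 4217, 1, 2, 0, 0), (1, 0, 0, 0, 0, 0), (0, 4219, 1, 2, 0, 0), (1, 0, 0, 0, 0, 0),
   (2, 67, 1, 3, 63, 0), (0, 2, 1, 2111, 1, 0), (0, 41, 1, 103, 1, 0), (3, 11, 1, 2, 384, 0),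
   (0, 5, 2, 13, 2, 0), (0, 2, 1, 2113, 1, 0), (0, 3, 1, 1409, 1, 0), (1, 0, 0, 0, 0, 0),
   (0, 4229, 1, 2, 0, 0), (1, 0, 0, 0, 0, 0), (0, 4231, 1, 2, 0, 0), (0, 2, 3, 23, 2, 0),
   (2, 17, 1, 3, 249, 0), (1, 0, 0, 0, 0, 0), (2, 7, 1, 5, 605, 0), (2, 353, 1, 2, 12, 0),
   (0, 19, 1, 223, 1, 0), (1, 0, 0, 0, 0, 0), (0, 3, 3, 157, 1, 0), (2, 53, 1, 2, 80, 0),
   (0, 4241, 1, 2, 0, 0), (1, 0, 0, 0, 0, 0), (0, 4243, 1, 2, 0, 0), (0, 2, 2, 1061, 1, 0),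
   (2, 5, 1, 3, 849, 0), (1, 0, 0, 0, 0, 0), (0, 31, 1, 137, 1, 0), (2, 59, 1, 2, 72, 0),
   (0, 7, 1, 607, 1, 0), (1, 0, 0, 0, 0, 0), (2, 13, 1, 3, 327, 0), (0, 2, 2, 1063, 1, 0),
   (0, 4253, 1, 2, 0, 0), (1, 0, 0, 0, 0, 0), (2, 37, 1, 5, 115, 0), (2, 7, 1, 2, 608, 0),
   (2, 11, 1, 3, 387, 0), (0, 2, 1, 2129, 1, 0), (0, 4259, 1, 2, 0, 0), (2, 71, 1, 2, 60, 0),
   (0, 4261, 1, 2, 0, 0), (0, 2, 1, 2131, 1, 0), (2, 29, 1, 3, 147, 0), (1, 0, 0, 0, 0, 0),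
   (0, 5, 1, 853, 1, 0), (1, 0, 0, 0, 0, 0), (0, 17, 1, 251, 1, 0), (1, 0, 0, 0, 0, 0),
   (0, 3, 1, 1423, 1, 0), (1, 0, 0, 0, 0, 0), (0, 4271, 1, 2, 0, 0), (2, 89, 1, 2, 48, 0),
   (0, 4273, 1, 2, 0, 0), (0, 2, 1, 2137, 1, 0), (2, 19, 1, 3, 225, 0), (0, 2, 2, 1069, 1, 0),
   (2, 7, 1, 13, 611, 0), (1, 0, 0, 0, 0, 0), (0, 11, 1, 389, 1, 0), (1, 0, 0, 0, 0, 0),
   (0, 3, 1, 1427, 1, 0), (0, 2, 1, 2141, 1, 0), (0, 4283, 1, 2, 0, 0), (3, 17, 1, 2, 252, 0),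
   (0, 5, 1, 857, 1, 0), (0, 2, 1, 2143, 1, 0), (0, 3, 1, 1429, 1, 0), (0, 2, 6, 67, 1, 0)]

/-- the certificate of the order `3965 + i` is valid, or the order is exceptional -/
def certOK1 (i : ℕ) : Bool :=
  excB2 (3965 + i) || (match certs1.getD i (9, 0, 0, 0, 0, 0) with
    | (kind, p, a, q, m, k) => validB (3965 + i) kind p a q m k)

set_option maxRecDepth 100000 in
theorem certs1_ok_0 : (List.range' 0 27).all certOK1 = true := by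
  decide +kernel

set_option maxRecDepth 100000 in
theorem certs1_ok_1 : (List.range' 27 27).all certOK1 = true := by
  decide +kernel

set_option maxRecDepth 100000 in
theorem certs1_ok_2 : (List.range' 54 27).all certOK1 = true := by
  decide +kernel

set_option maxRecDepth 100000 in
theorem certs1_ok_3 : (List.range' 81 27).all certOK1 = true := by
  decide +kernel

set_option maxRecDepth 100000 in
theorem certs1_ok_4 : (List.range' 108 27).all certOK1 = true := by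
  decide +kernel

set_option maxRecDepth 100000 in
theorem certs1_ok_5 : (List.range' 135 27).all certOK1 = true := by
  decide +kernel

set_option maxRecDepth 100000 in
theorem certs1_ok_6 : (List.range' 162 27).all certOK1 = true := by
  decide +kernel

set_option maxRecDepth 100000 in
theorem certs1_ok_7 : (List.range' 189 27).all certOK1 = true := by
  decide +kernel

set_option maxRecDepth 100000 in
theorem certs1_ok_8 : (List.range' 216 27).all certOK1 = true := by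
  decide +kernel

set_option maxRecDepth 100000 in
theorem certs1_ok_9 : (List.range' 243 27).all certOK1 = true := by
  decide +kernel

set_option maxRecDepth 100000 in
theorem certs1_ok_10 : (List.range' 270 27).all certOK1 = true := by
  decide +kernel

set_option maxRecDepth 100000 in
theorem certs1_ok_11 : (List.range' 297 27).all certOK1 = true := by
  decide +kernel

theorem certs1_ok : (List.range 324).all certOK1 = true := by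
  rw [List.all_eq_true]
  intro i hi
  rw [List.mem_range] at hi
  have hk : i / 27 < 12 := by omega
  interval_cases hk' : i / 27
  · exact List.all_eq_true.mp certs1_ok_0 i (List.mem_range'_1.mpr ⟨by omega, by omega⟩)
  · exact List.all_eq_true.mp certs1_ok_1 i (List.mem_range'_1.mpr ⟨by omega, by omega⟩)
  · exact List.all_eq_true.mp certs1_ok_2 i (List.mem_range'_1.mpr ⟨by omega, by omega⟩)
  · exact List.all_eq_true.mp certs1_ok_3 i (List.mem_range'_1.mpr ⟨by omega, by omega⟩)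
  · exact List.all_eq_true.mp certs1_ok_4 i (List.mem_range'_1.mpr ⟨by omega, by omega⟩)
  · exact List.all_eq_true.mp certs1_ok_5 i (List.mem_range'_1.mpr ⟨by omega, by omega⟩)
  · exact List.all_eq_true.mp certs1_ok_6 i (List.mem_range'_1.mpr ⟨by omega, by omega⟩)
  · exact List.all_eq_true.mp certs1_ok_7 i (List.mem_range'_1.mpr ⟨by omega, by omega⟩)
  · exact List.all_eq_true.mp certs1_ok_8 i (List.mem_range'_1.mpr ⟨by omega, by omega⟩)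
  · exact List.all_eq_true.mp certs1_ok_9 i (List.mem_range'_1.mpr ⟨by omega, by omega⟩)
  · exact List.all_eq_true.mp certs1_ok_10 i (List.mem_range'_1.mpr ⟨by omega, by omega⟩)
  · exact List.all_eq_true.mp certs1_ok_11 i (List.mem_range'_1.mpr ⟨by omega, by omega⟩)

theorem sweep1 (n : ℕ) (h1 : 3965 ≤ n) (h2 : n ≤ 4288) (hex : excB2 n = false) :
    NoSimple.{u} n := by
  obtain ⟨i, rfl⟩ : ∃ i, n = 3965 + i := ⟨n - 3965, by omega⟩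
  have h := List.all_eq_true.mp certs1_ok i (List.mem_range.mpr (by omega))
  unfold certOK1 at h
  rw [Bool.or_eq_true] at h
  rcases h with h | h
  · rw [hex] at h
    exact absurd h (by decide)
  · rcases hc : certs1.getD i (9, 0, 0, 0, 0, 0) with ⟨kind, p, a, q, m, k⟩
    rw [hc] at h
    exact noSimple_of_validB (3965 + i) kind p a q m k h

end Cfsg.Agent.Lib.Helper91.SO2
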