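import Mathlib
import Cfsg.Agent.Lib.Helper91.SO2Exc

set_option autoImplicit false

/-!
# Certificates for the orders `4289` to `4612`

Each order in this range, apart from the exceptional ones, is excluded by one of the rules of
`Cfsg.Agent.Lib.Helper93.SO.validB`.
-/

namespace Cfsg.Agent.Lib.Helper91.SO2

open Cfsg.Agent.Lib.Helper93.SO

universe u

/-- the certificates for the orders `4289` to `4612` -/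
def certs2 : List (ℕ × ℕ × ℕ × ℕ × ℕ × ℕ) :=
  [(0, 4289, 1, 2, 0, 0), (1, 0, 0, 0, 0, 0), (0, 7, 1, 613, 1, 0), (1, 0, 0, 0, 0, 0),
   (0, 3, 4, 53, 1, 0), (1, 0, 0, 0, 0, 0), (0, 5, 1, 859, 1, 0), (2, 179, 1, 2, 24, 0),
   (0, 4297, 1, 2, 0, 0), (1, 0, 0, 0, 0, 0), (0, 3, 1, 1433, 1, 0), (1, 0, 0, 0, 0, 0),
   (2, 17, 1, 11, 253, 0), (1, 0, 0, 0, 0, 0), (0, 13, 1, 331, 1, 0), (0, 2, 4, 269, 1, 0),
   (2, 7, 1, 3, 615, 0), (0, 2, 1, 2153, 1, 0), (0, 59, 1, 73, 1, 0), (2, 359, 1, 2, 12, 0),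
   (0, 31, 1, 139, 1, 0), (1, 0, 0, 0, 0, 0), (0, 3, 2, 479, 1, 0), (3, 11, 1, 2, 392, 0),
   (0, 19, 1, 227, 1, 0), (1, 0, 0, 0, 0, 0), (0, 5, 1, 863, 1, 0), (1, 0, 0, 0, 0, 0),
   (0, 3, 1, 1439, 1, 0), (1, 0, 0, 0, 0, 0), (0, 7, 1, 617, 1, 0), (9, 0, 0, 0, 0, 0),
   (0, 29, 1, 149, 1, 0), (0, 2, 1, 2161, 1, 0), (2, 11, 1, 3, 393, 0), (1, 0, 0, 0, 0, 0),
   (0, 5, 2, 173, 1, 0), (1, 0, 0, 0, 0, 0), (0, 4327, 1, 2, 0, 0), (0, 2, 3, 541, 1, 0),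
   (2, 13, 1, 3, 333, 0), (1, 0, 0, 0, 0, 0), (0, 61, 1, 71, 1, 0), (2, 19, 2, 2, 12, 0),
   (0, 7, 1, 619, 1, 0), (1, 0, 0, 0, 0, 0), (2, 17, 2, 3, 15, 0), (0, 2, 4, 271, 1, 0),
   (0, 4337, 1, 2, 0, 0), (1, 0, 0, 0, 0, 0), (0, 4339, 1, 2, 0, 0), (1, 0, 0, 0, 0, 0),
   (0, 3, 1, 1447, 1, 0), (1, 0, 0, 0, 0, 0), (0, 43, 1, 101, 1, 0), (2, 181, 1, 2, 24, 0),
   (2, 5, 1, 11, 869, 0), (1, 0, 0, 0, 0, 0), (2, 3, 3, 7, 161, 0), (0, 2, 2, 1087, 1, 0),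
   (0, 4349, 1, 2, 0, 0), (1, 0, 0, 0, 0, 0), (0, 19, 1, 229, 1, 0), (0, 2, 8, 17, 1, 0),
   (0, 3, 1, 1451, 1, 0), (1, 0, 0, 0, 0, 0), (2, 13, 1, 5, 335, 0), (2, 11, 2, 2, 36, 0),
   (0, 4357, 1, 2, 0, 0), (0, 2, 1, 2179, 1, 0), (0, 3, 1, 1453, 1, 0), (1, 0, 0, 0, 0, 0),
   (0, 7, 2, 89, 1, 0), (1, 0, 0, 0, 0, 0), (0, 4363, 1, 2, 0, 0), (0, 2, 2, 1091, 1, 0),
   (2, 97, 1, 3, 45, 0), (1, 0, 0, 0, 0, 0), (0, 11, 1, 397, 1, 0), (3, 13, 1, 2, 336, 0),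
   (0, 17, 1, 257, 1, 0), (1, 0, 0, 0, 0, 0), (2, 3, 1, 31, 1457, 0), (0, 2, 2, 1093, 1, 0),
   (0, 4373, 1, 2, 0, 0), (0, 2, 1, 3, 7, 0), (0, 5, 4, 7, 1, 0), (0, 2, 3, 547, 1, 0),
   (0, 3, 1, 1459, 1, 0), (1, 0, 0, 0, 0, 0), (0, 29, 1, 151, 1, 0), (2, 73, 1, 2, 60, 0),
   (0, 13, 1, 337, 1, 0), (1, 0, 0, 0, 0, 0), (0, 3, 2, 487, 1, 0), (0, 2, 5, 137, 1, 0),
   (0, 5, 1, 877, 1, 0), (1, 0, 0, 0, 0, 0), (0, 41, 1, 107, 1, 0), (0, 2, 2, 1097, 1, 0),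
   (3, 3, 1, 7, 1463, 0), (1, 0, 0, 0, 0, 0), (0, 4391, 1, 2, 0, 0), (2, 61, 1, 2, 72, 0),
   (0, 23, 1, 191, 1, 0), (0, 2, 1, 13, 3, 0), (2, 5, 1, 3, 879, 0), (1, 0, 0, 0, 0, 0),
   (0, 4397, 1, 2, 0, 0), (1, 0, 0, 0, 0, 0), (0, 53, 1, 83, 1, 0), (3, 11, 1, 2, 400, 0),
   (0, 3, 3, 163, 1, 0), (1, 0, 0, 0, 0, 0), (2, 7, 1, 17, 629, 0), (2, 367, 1, 2, 12, 0),
   (0, 5, 1, 881, 1, 0), (0, 2, 1, 2203, 1, 0), (2, 3, 1, 13, 1469, 0), (1, 0, 0, 0, 0, 0),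
   (0, 4409, 1, 2, 0, 0), (1, 0, 0, 0, 0, 0), (0, 11, 1, 401, 1, 0), (0, 2, 2, 1103, 1, 0),
   (0, 3, 1, 1471, 1, 0), (0, 2, 1, 2207, 1, 0), (0, 5, 1, 883, 1, 0), (3, 23, 1, 2, 192, 0),
   (0, 7, 1, 631, 1, 0), (0, 2, 1, 47, 2, 0), (0, 3, 2, 491, 1, 0), (1, 0, 0, 0, 0, 0),
   (0, 4421, 1, 2, 0, 0), (1, 0, 0, 0, 0, 0), (0, 4423, 1, 2, 0, 0), (2, 79, 1, 2, 56, 0),
   (2, 5, 2, 3, 177, 0), (0, 2, 1, 2213, 1, 0), (0, 19, 1, 233, 1, 0), (2, 41, 1, 2, 108, 0),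
   (0, 43, 1, 103, 1, 0), (1, 0, 0, 0, 0, 0), (2, 211, 1, 3, 21, 0), (0, 2, 4, 277, 1, 0),
   (2, 11, 1, 13, 403, 0), (1, 0, 0, 0, 0, 0), (0, 5, 1, 887, 1, 0), (0, 2, 2, 1109, 1, 0),
   (2, 17, 1, 3, 261, 0), (1, 0, 0, 0, 0, 0), (0, 23, 1, 193, 1, 0), (2, 37, 1, 2, 120, 0),
   (0, 4441, 1, 2, 0, 0), (0, 2, 1, 2221, 1, 0), (0, 3, 1, 1481, 1, 0), (1, 0, 0, 0, 0, 0),
   (2, 5, 1, 7, 889, 0), (1, 0, 0, 0, 0, 0), (0, 4447, 1, 2, 0, 0), (0, 2, 5, 139, 1, 0),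
   (0, 3, 1, 1483, 1, 0), (1, 0, 0, 0, 0, 0), (0, 4451, 1, 2, 0, 0), (2, 53, 1, 2, 84, 0),
   (0, 61, 1, 73, 1, 0), (1, 0, 0, 0, 0, 0), (3, 5, 1, 3, 891, 0), (0, 2, 3, 557, 1, 0),
   (0, 4457, 1, 2, 0, 0), (1, 0, 0, 0, 0, 0), (0, 7, 3, 13, 1, 0), (1, 0, 0, 0, 0, 0),
   (0, 3, 1, 1487, 1, 0), (1, 0, 0, 0, 0, 0), (0, 4463, 1, 2, 0, 0), (2, 31, 1, 2, 144, 0),
   (2, 5, 1, 19, 893, 0), (1, 0, 0, 0, 0, 0), (0, 3, 1, 1489, 1, 0), (0, 2, 2, 1117, 1, 0),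
   (0, 41, 1, 109, 1, 0), (1, 0, 0, 0, 0, 0), (0, 17, 1, 263, 1, 0), (1, 0, 0, 0, 0, 0),
   (2, 3, 2, 7, 497, 0), (0, 2, 1, 2237, 1, 0), (0, 5, 2, 179, 1, 0), (2, 373, 1, 2, 12, 0),
   (0, 11, 2, 37, 1, 0), (0, 2, 1, 2239, 1, 0), (0, 3, 1, 1493, 1, 0), (3, 7, 1, 2, 640, 0),
   (0, 4481, 1, 2, 0, 0), (1, 0, 0, 0, 0, 0), (0, 4483, 1, 2, 0, 0), (1, 0, 0, 0, 0, 0),
   (2, 5, 1, 3, 897, 0), (0, 2, 1, 2243, 1, 0), (0, 7, 1, 641, 1, 0), (2, 17, 1, 2, 264, 0),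
   (0, 67, 2, 2, 0, 0), (1, 0, 0, 0, 0, 0), (0, 3, 2, 499, 1, 0), (0, 2, 2, 1123, 1, 0),
   (0, 4493, 1, 2, 0, 0), (1, 0, 0, 0, 0, 0), (2, 29, 1, 5, 155, 0), (0, 2, 4, 281, 1, 0),
   (0, 3, 1, 1499, 1, 0), (1, 0, 0, 0, 0, 0), (0, 11, 1, 409, 1, 0), (4, 5, 3, 2, 36, 2),
   (0, 7, 1, 643, 1, 0), (0, 2, 1, 2251, 1, 0), (2, 19, 1, 3, 237, 0), (0, 2, 3, 563, 1, 0),
   (2, 17, 1, 5, 265, 0), (1, 0, 0, 0, 0, 0), (0, 4507, 1, 2, 0, 0), (1, 0, 0, 0, 0, 0),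
   (0, 3, 3, 167, 1, 0), (1, 0, 0, 0, 0, 0), (0, 13, 1, 347, 1, 0), (3, 47, 1, 2, 96, 0),
   (0, 4513, 1, 2, 0, 0), (1, 0, 0, 0, 0, 0), (2, 43, 1, 3, 105, 0), (0, 2, 2, 1129, 1, 0),
   (0, 4517, 1, 2, 0, 0), (1, 0, 0, 0, 0, 0), (0, 4519, 1, 2, 0, 0), (1, 0, 0, 0, 0, 0),
   (2, 11, 1, 3, 411, 0), (1, 0, 0, 0, 0, 0), (0, 4523, 1, 2, 0, 0), (2, 13, 1, 2, 348, 0),
   (0, 5, 2, 181, 1, 0), (1, 0, 0, 0, 0, 0), (0, 3, 2, 503, 1, 0), (0, 2, 4, 283, 1, 0),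
   (0, 7, 1, 647, 1, 0), (1, 0, 0, 0, 0, 0), (0, 23, 1, 197, 1, 0), (1, 0, 0, 0, 0, 0),
   (0, 3, 1, 1511, 1, 0), (0, 2, 1, 2267, 1, 0), (0, 5, 1, 907, 1, 0), (9, 0, 0, 0, 0, 0),
   (0, 13, 1, 349, 1, 0), (0, 2, 1, 2269, 1, 0), (2, 17, 1, 3, 267, 0), (1, 0, 0, 0, 0, 0),
   (0, 19, 1, 239, 1, 0), (1, 0, 0, 0, 0, 0), (2, 7, 1, 11, 649, 0), (0, 2, 6, 71, 1, 0),
   (2, 101, 1, 3, 45, 0), (0, 2, 1, 2273, 1, 0), (0, 4547, 1, 2, 0, 0), (2, 379, 1, 2, 12, 0),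
   (0, 4549, 1, 2, 0, 0), (1, 0, 0, 0, 0, 0), (2, 3, 1, 37, 1517, 0), (0, 2, 3, 569, 1, 0),
   (0, 29, 1, 157, 1, 0), (1, 0, 0, 0, 0, 0), (0, 5, 1, 911, 1, 0), (1, 0, 0, 0, 0, 0),
   (2, 7, 2, 3, 93, 0), (1, 0, 0, 0, 0, 0), (0, 47, 1, 97, 1, 0), (3, 19, 1, 2, 240, 0),
   (0, 4561, 1, 2, 0, 0), (0, 2, 1, 2281, 1, 0), (0, 3, 3, 13, 2, 0), (1, 0, 0, 0, 0, 0),
   (2, 5, 1, 11, 913, 0), (1, 0, 0, 0, 0, 0), (0, 4567, 1, 2, 0, 0), (0, 2, 3, 571, 1, 0),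
   (0, 3, 1, 1523, 1, 0), (1, 0, 0, 0, 0, 0), (0, 7, 1, 653, 1, 0), (2, 127, 1, 2, 36, 0),
   (0, 17, 1, 269, 1, 0), (0, 2, 1, 2287, 1, 0), (2, 61, 1, 3, 75, 0), (2, 11, 1, 2, 416, 0),
   (0, 23, 1, 199, 1, 0), (1, 0, 0, 0, 0, 0), (0, 19, 1, 241, 1, 0), (1, 0, 0, 0, 0, 0),
   (0, 3, 2, 509, 1, 0), (1, 0, 0, 0, 0, 0), (0, 4583, 1, 2, 0, 0), (2, 191, 1, 2, 24, 0),
   (2, 7, 1, 5, 655, 0), (0, 2, 1, 2293, 1, 0), (2, 11, 1, 3, 417, 0), (1, 0, 0, 0, 0, 0),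
   (0, 13, 1, 353, 1, 0), (1, 0, 0, 0, 0, 0), (0, 4591, 1, 2, 0, 0), (2, 7, 1, 2, 656, 0),
   (0, 3, 1, 1531, 1, 0), (0, 2, 1, 2297, 1, 0), (0, 5, 1, 919, 1, 0), (2, 383, 1, 2, 12, 0),
   (0, 4597, 1, 2, 0, 0), (1, 0, 0, 0, 0, 0), (2, 7, 1, 3, 657, 0), (1, 0, 0, 0, 0, 0),
   (0, 43, 1, 107, 1, 0), (1, 0, 0, 0, 0, 0), (0, 4603, 1, 2, 0, 0), (0, 2, 2, 1151, 1, 0),
   (2, 307, 1, 3, 15, 0), (1, 0, 0, 0, 0, 0), (0, 17, 1, 271, 1, 0), (0, 2, 9, 3, 2, 0),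
   (0, 11, 1, 419, 1, 0), (1, 0, 0, 0, 0, 0), (2, 29, 1, 3, 159, 0), (0, 2, 2, 1153, 1, 0)]

/-- the certificate of the order `4289 + i` is valid, or the order is exceptional -/
def certOK2 (i : ℕ) : Bool :=
  excB2 (4289 + i) || (match certs2.getD i (9, 0, 0, 0, 0, 0) with
    | (kind, p, a, q, m, k) => validB (4289 + i) kind p a q m k)

set_option maxRecDepth 100000 in
theorem certs2_ok_0 : (List.range' 0 27).all certOK2 = true := by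
  decide +kernel

set_option maxRecDepth 100000 in
theorem certs2_ok_1 : (List.range' 27 27).all certOK2 = true := by
  decide +kernel

set_option maxRecDepth 100000 in
theorem certs2_ok_2 : (List.range' 54 27).all certOK2 = true := by
  decide +kernel

set_option maxRecDepth 100000 in
theorem certs2_ok_3 : (List.range' 81 27).all certOK2 = true := by
  decide +kernel

set_option maxRecDepth 100000 in
theorem certs2_ok_4 : (List.range' 108 27).all certOK2 = true := by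
  decide +kernel

set_option maxRecDepth 100000 in
theorem certs2_ok_5 : (List.range' 135 27).all certOK2 = true := by
  decide +kernel

set_option maxRecDepth 100000 in
theorem certs2_ok_6 : (List.range' 162 27).all certOK2 = true := by
  decide +kernel

set_option maxRecDepth 100000 in
theorem certs2_ok_7 : (List.range' 189 27).all certOK2 = true := by
  decide +kernel

set_option maxRecDepth 100000 in
theorem certs2_ok_8 : (List.range' 216 27).all certOK2 = true := by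
  decide +kernel

set_option maxRecDepth 100000 in
theorem certs2_ok_9 : (List.range' 243 27).all certOK2 = true := by
  decide +kernel

set_option maxRecDepth 100000 in
theorem certs2_ok_10 : (List.range' 270 27).all certOK2 = true := by
  decide +kernel

set_option maxRecDepth 100000 in
theorem certs2_ok_11 : (List.range' 297 27).all certOK2 = true := by
  decide +kernel

theorem certs2_ok : (List.range 324).all certOK2 = true := by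
  rw [List.all_eq_true]
  intro i hi
  rw [List.mem_range] at hi
  have hk : i / 27 < 12 := by omega
  interval_cases hk' : i / 27
  · exact List.all_eq_true.mp certs2_ok_0 i (List.mem_range'_1.mpr ⟨by omega, by omega⟩)
  · exact List.all_eq_true.mp certs2_ok_1 i (List.mem_range'_1.mpr ⟨by omega, by omega⟩)
  · exact List.all_eq_true.mp certs2_ok_2 i (List.mem_range'_1.mpr ⟨by omega, by omega⟩)
  · exact List.all_eq_true.mp certs2_ok_3 i (List.mem_range'_1.mpr ⟨by omega, by omega⟩)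
  · exact List.all_eq_true.mp certs2_ok_4 i (List.mem_range'_1.mpr ⟨by omega, by omega⟩)
  · exact List.all_eq_true.mp certs2_ok_5 i (List.mem_range'_1.mpr ⟨by omega, by omega⟩)
  · exact List.all_eq_true.mp certs2_ok_6 i (List.mem_range'_1.mpr ⟨by omega, by omega⟩)
  · exact List.all_eq_true.mp certs2_ok_7 i (List.mem_range'_1.mpr ⟨by omega, by omega⟩)
  · exact List.all_eq_true.mp certs2_ok_8 i (List.mem_range'_1.mpr ⟨by omega, by omega⟩)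
  · exact List.all_eq_true.mp certs2_ok_9 i (List.mem_range'_1.mpr ⟨by omega, by omega⟩)
  · exact List.all_eq_true.mp certs2_ok_10 i (List.mem_range'_1.mpr ⟨by omega, by omega⟩)
  · exact List.all_eq_true.mp certs2_ok_11 i (List.mem_range'_1.mpr ⟨by omega, by omega⟩)

theorem sweep2 (n : ℕ) (h1 : 4289 ≤ n) (h2 : n ≤ 4612) (hex : excB2 n = false) :
    NoSimple.{u} n := by
  obtain ⟨i, rfl⟩ : ∃ i, n = 4289 + i := ⟨n - 4289, by omega⟩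
  have h := List.all_eq_true.mp certs2_ok i (List.mem_range.mpr (by omega))
  unfold certOK2 at h
  rw [Bool.or_eq_true] at h
  rcases h with h | h
  · rw [hex] at h
    exact absurd h (by decide)
  · rcases hc : certs2.getD i (9, 0, 0, 0, 0, 0) with ⟨kind, p, a, q, m, k⟩
    rw [hc] at h
    exact noSimple_of_validB (4289 + i) kind p a q m k h

end Cfsg.Agent.Lib.Helper91.SO2
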