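import Mathlib
import Cfsg.Agent.Lib.Helper91.SO2Exc

set_option autoImplicit false

/-!
# Certificates for the orders `4613` to `4936`

Each order in this range, apart from the exceptional ones, is excluded by one of the rules of
`Cfsg.Agent.Lib.Helper93.SO.validB`.
-/

namespace Cfsg.Agent.Lib.Helper91.SO2

open Cfsg.Agent.Lib.Helper93.SO

universe u

/-- the certificates for the orders `4613` to `4936` -/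
def certs3 : List (ℕ × ℕ × ℕ × ℕ × ℕ × ℕ) :=
  [(0, 7, 1, 659, 1, 0), (1, 0, 0, 0, 0, 0), (2, 13, 1, 5, 355, 0), (0, 2, 3, 577, 1, 0),
   (0, 3, 5, 19, 1, 0), (0, 2, 1, 2309, 1, 0), (0, 31, 1, 149, 1, 0), (9, 0, 0, 0, 0, 0),
   (0, 4621, 1, 2, 0, 0), (0, 2, 1, 2311, 1, 0), (2, 23, 1, 3, 201, 0), (0, 2, 4, 17, 2, 0),
   (0, 5, 3, 37, 1, 0), (1, 0, 0, 0, 0, 0), (0, 7, 1, 661, 1, 0), (1, 0, 0, 0, 0, 0),
   (0, 3, 1, 1543, 1, 0), (1, 0, 0, 0, 0, 0), (0, 11, 1, 421, 1, 0), (2, 193, 1, 2, 24, 0),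
   (0, 41, 1, 113, 1, 0), (1, 0, 0, 0, 0, 0), (2, 5, 1, 3, 927, 0), (1, 0, 0, 0, 0, 0),
   (0, 4637, 1, 2, 0, 0), (1, 0, 0, 0, 0, 0), (0, 4639, 1, 2, 0, 0), (2, 29, 1, 2, 160, 0),
   (2, 7, 1, 3, 663, 0), (1, 0, 0, 0, 0, 0), (0, 4643, 1, 2, 0, 0), (2, 43, 1, 2, 108, 0),
   (0, 5, 1, 929, 1, 0), (1, 0, 0, 0, 0, 0), (0, 3, 1, 1549, 1, 0), (2, 7, 1, 2, 664, 0),
   (0, 4649, 1, 2, 0, 0), (1, 0, 0, 0, 0, 0), (0, 4651, 1, 2, 0, 0), (0, 2, 2, 1163, 1, 0),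
   (2, 11, 1, 3, 423, 0), (1, 0, 0, 0, 0, 0), (2, 7, 2, 5, 95, 0), (2, 97, 1, 2, 48, 0),
   (0, 4657, 1, 2, 0, 0), (1, 0, 0, 0, 0, 0), (0, 3, 1, 1553, 1, 0), (1, 0, 0, 0, 0, 0),
   (0, 59, 1, 79, 1, 0), (1, 0, 0, 0, 0, 0), (0, 4663, 1, 2, 0, 0), (1, 0, 0, 0, 0, 0),
   (2, 311, 1, 3, 15, 0), (0, 2, 1, 2333, 1, 0), (0, 13, 1, 359, 1, 0), (2, 389, 1, 2, 12, 0),
   (2, 23, 1, 7, 203, 0), (1, 0, 0, 0, 0, 0), (0, 3, 3, 173, 1, 0), (0, 2, 6, 73, 1, 0),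
   (0, 4673, 1, 2, 0, 0), (1, 0, 0, 0, 0, 0), (2, 5, 2, 11, 187, 0), (1, 0, 0, 0, 0, 0),
   (0, 3, 1, 1559, 1, 0), (0, 2, 1, 2339, 1, 0), (0, 4679, 1, 2, 0, 0), (9, 0, 0, 0, 0, 0),
   (0, 31, 1, 151, 1, 0), (0, 2, 1, 2341, 1, 0), (2, 7, 1, 3, 669, 0), (0, 2, 2, 1171, 1, 0),
   (0, 5, 1, 937, 1, 0), (1, 0, 0, 0, 0, 0), (0, 43, 1, 109, 1, 0), (0, 2, 4, 293, 1, 0),
   (0, 3, 2, 521, 1, 0), (1, 0, 0, 0, 0, 0), (0, 4691, 1, 2, 0, 0), (2, 23, 1, 2, 204, 0),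
   (0, 13, 1, 19, 2, 0), (0, 2, 1, 2347, 1, 0), (2, 5, 1, 3, 939, 0), (0, 2, 3, 587, 1, 0),
   (2, 7, 1, 11, 671, 0), (1, 0, 0, 0, 0, 0), (0, 37, 1, 127, 1, 0), (1, 0, 0, 0, 0, 0),
   (0, 3, 1, 1567, 1, 0), (0, 2, 1, 2351, 1, 0), (0, 4703, 1, 2, 0, 0), (2, 7, 2, 2, 96, 0),
   (0, 5, 1, 941, 1, 0), (1, 0, 0, 0, 0, 0), (0, 3, 2, 523, 1, 0), (1, 0, 0, 0, 0, 0),
   (0, 17, 1, 277, 1, 0), (1, 0, 0, 0, 0, 0), (0, 7, 1, 673, 1, 0), (1, 0, 0, 0, 0, 0),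
   (0, 3, 1, 1571, 1, 0), (0, 2, 1, 2357, 1, 0), (2, 23, 1, 5, 205, 0), (2, 131, 1, 2, 36, 0),
   (0, 53, 1, 89, 1, 0), (1, 0, 0, 0, 0, 0), (2, 11, 2, 3, 39, 0), (2, 59, 1, 2, 80, 0),
   (0, 4721, 1, 2, 0, 0), (1, 0, 0, 0, 0, 0), (0, 4723, 1, 2, 0, 0), (0, 2, 2, 1181, 1, 0),
   (4, 5, 2, 3, 189, 2), (1, 0, 0, 0, 0, 0), (0, 29, 1, 163, 1, 0), (2, 197, 1, 2, 24, 0),
   (0, 4729, 1, 2, 0, 0), (1, 0, 0, 0, 0, 0), (2, 3, 1, 19, 1577, 0), (1, 0, 0, 0, 0, 0),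
   (0, 4733, 1, 2, 0, 0), (1, 0, 0, 0, 0, 0), (0, 5, 1, 947, 1, 0), (0, 2, 7, 37, 1, 0),
   (0, 3, 1, 1579, 1, 0), (1, 0, 0, 0, 0, 0), (0, 7, 1, 677, 1, 0), (2, 79, 1, 2, 60, 0),
   (0, 11, 1, 431, 1, 0), (0, 2, 1, 2371, 1, 0), (2, 17, 1, 3, 279, 0), (0, 2, 3, 593, 1, 0),
   (2, 5, 1, 13, 949, 0), (1, 0, 0, 0, 0, 0), (0, 47, 1, 101, 1, 0), (0, 2, 2, 1187, 1, 0),
   (0, 3, 1, 1583, 1, 0), (1, 0, 0, 0, 0, 0), (0, 4751, 1, 2, 0, 0), (3, 11, 1, 2, 432, 0),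
   (0, 7, 2, 97, 1, 0), (0, 2, 1, 2377, 1, 0), (2, 317, 1, 3, 15, 0), (1, 0, 0, 0, 0, 0),
   (0, 67, 1, 71, 1, 0), (1, 0, 0, 0, 0, 0), (0, 4759, 1, 2, 0, 0), (3, 5, 1, 2, 952, 0),
   (0, 3, 2, 23, 2, 0), (0, 2, 1, 2381, 1, 0), (0, 11, 1, 433, 1, 0), (2, 397, 1, 2, 12, 0),
   (0, 5, 1, 953, 1, 0), (0, 2, 1, 2383, 1, 0), (2, 3, 1, 7, 1589, 0), (0, 2, 5, 149, 1, 0),
   (0, 19, 1, 251, 1, 0), (1, 0, 0, 0, 0, 0), (0, 13, 1, 367, 1, 0), (0, 2, 2, 1193, 1, 0),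
   (2, 37, 1, 3, 129, 0), (1, 0, 0, 0, 0, 0), (0, 5, 2, 191, 1, 0), (2, 199, 1, 2, 24, 0),
   (0, 17, 1, 281, 1, 0), (0, 2, 1, 2389, 1, 0), (0, 3, 4, 59, 1, 0), (1, 0, 0, 0, 0, 0),
   (0, 7, 1, 683, 1, 0), (1, 0, 0, 0, 0, 0), (0, 4783, 1, 2, 0, 0), (3, 23, 1, 2, 208, 0),
   (2, 5, 1, 3, 957, 0), (0, 2, 1, 2393, 1, 0), (0, 4787, 1, 2, 0, 0), (2, 19, 1, 2, 252, 0),
   (0, 4789, 1, 2, 0, 0), (1, 0, 0, 0, 0, 0), (0, 3, 1, 1597, 1, 0), (0, 2, 3, 599, 1, 0),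
   (0, 4793, 1, 2, 0, 0), (1, 0, 0, 0, 0, 0), (2, 5, 1, 7, 959, 0), (1, 0, 0, 0, 0, 0),
   (2, 3, 2, 13, 533, 0), (0, 2, 1, 2399, 1, 0), (0, 4799, 1, 2, 0, 0), (9, 0, 0, 0, 0, 0),
   (0, 4801, 1, 2, 0, 0), (0, 2, 1, 7, 4, 0), (0, 3, 1, 1601, 1, 0), (0, 2, 2, 1201, 1, 0),
   (0, 5, 1, 31, 2, 0), (1, 0, 0, 0, 0, 0), (2, 19, 1, 11, 253, 0), (0, 2, 3, 601, 1, 0),
   (2, 229, 1, 3, 21, 0), (1, 0, 0, 0, 0, 0), (0, 17, 1, 283, 1, 0), (2, 401, 1, 2, 12, 0),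
   (0, 4813, 1, 2, 0, 0), (1, 0, 0, 0, 0, 0), (2, 107, 1, 3, 45, 0), (2, 43, 1, 2, 112, 0),
   (0, 4817, 1, 2, 0, 0), (1, 0, 0, 0, 0, 0), (0, 61, 1, 79, 1, 0), (1, 0, 0, 0, 0, 0),
   (0, 3, 1, 1607, 1, 0), (0, 2, 1, 2411, 1, 0), (2, 7, 1, 13, 689, 0), (2, 67, 1, 2, 72, 0),
   (0, 5, 2, 193, 1, 0), (1, 0, 0, 0, 0, 0), (0, 3, 1, 1609, 1, 0), (1, 0, 0, 0, 0, 0),
   (0, 11, 1, 439, 1, 0), (1, 0, 0, 0, 0, 0), (0, 4831, 1, 2, 0, 0), (0, 2, 5, 151, 1, 0),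
   (0, 3, 3, 179, 1, 0), (0, 2, 1, 2417, 1, 0), (0, 5, 1, 967, 1, 0), (2, 13, 1, 2, 372, 0),
   (0, 7, 1, 691, 1, 0), (1, 0, 0, 0, 0, 0), (0, 3, 1, 1613, 1, 0), (1, 0, 0, 0, 0, 0),
   (0, 47, 1, 103, 1, 0), (1, 0, 0, 0, 0, 0), (0, 29, 1, 167, 1, 0), (1, 0, 0, 0, 0, 0),
   (2, 17, 1, 3, 285, 0), (0, 2, 1, 2423, 1, 0), (0, 37, 1, 131, 1, 0), (2, 101, 1, 2, 48, 0),
   (0, 13, 1, 373, 1, 0), (1, 0, 0, 0, 0, 0), (3, 11, 1, 3, 441, 0), (0, 2, 2, 1213, 1, 0),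
   (0, 23, 1, 211, 1, 0), (1, 0, 0, 0, 0, 0), (0, 5, 1, 971, 1, 0), (0, 2, 3, 607, 1, 0),
   (0, 3, 1, 1619, 1, 0), (1, 0, 0, 0, 0, 0), (0, 43, 1, 113, 1, 0), (2, 3, 5, 2, 20, 0),
   (0, 4861, 1, 2, 0, 0), (1, 0, 0, 0, 0, 0), (0, 3, 1, 1621, 1, 0), (0, 2, 8, 19, 1, 0),
   (2, 5, 1, 7, 973, 0), (1, 0, 0, 0, 0, 0), (0, 31, 1, 157, 1, 0), (0, 2, 2, 1217, 1, 0),
   (0, 3, 2, 541, 1, 0), (1, 0, 0, 0, 0, 0), (0, 4871, 1, 2, 0, 0), (2, 29, 1, 2, 168, 0),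
   (0, 11, 1, 443, 1, 0), (0, 2, 1, 2437, 1, 0), (2, 5, 3, 3, 39, 0), (1, 0, 0, 0, 0, 0),
   (0, 4877, 1, 2, 0, 0), (1, 0, 0, 0, 0, 0), (2, 7, 1, 17, 697, 0), (2, 61, 1, 2, 80, 0),
   (0, 3, 1, 1627, 1, 0), (0, 2, 1, 2441, 1, 0), (0, 19, 1, 257, 1, 0), (2, 37, 1, 2, 132, 0),
   (0, 5, 1, 977, 1, 0), (1, 0, 0, 0, 0, 0), (0, 3, 3, 181, 1, 0), (1, 0, 0, 0, 0, 0),
   (0, 4889, 1, 2, 0, 0), (1, 0, 0, 0, 0, 0), (0, 67, 1, 73, 1, 0), (0, 2, 2, 1223, 1, 0),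
   (2, 3, 1, 7, 1631, 0), (0, 2, 1, 2447, 1, 0), (2, 5, 1, 11, 979, 0), (3, 17, 1, 2, 288, 0),
   (0, 59, 1, 83, 1, 0), (1, 0, 0, 0, 0, 0), (2, 23, 1, 3, 213, 0), (1, 0, 0, 0, 0, 0),
   (0, 13, 2, 29, 1, 0), (1, 0, 0, 0, 0, 0), (0, 4903, 1, 2, 0, 0), (0, 2, 3, 613, 1, 0),
   (2, 109, 1, 3, 45, 0), (1, 0, 0, 0, 0, 0), (0, 7, 1, 701, 1, 0), (2, 409, 1, 2, 12, 0),
   (0, 4909, 1, 2, 0, 0), (1, 0, 0, 0, 0, 0), (0, 3, 1, 1637, 1, 0), (0, 2, 4, 307, 1, 0),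
   (0, 17, 3, 2, 0, 0), (1, 0, 0, 0, 0, 0), (0, 5, 1, 983, 1, 0), (0, 2, 2, 1229, 1, 0),
   (2, 11, 1, 3, 447, 0), (0, 2, 1, 2459, 1, 0), (0, 4919, 1, 2, 0, 0), (2, 41, 1, 2, 120, 0),
   (2, 7, 1, 19, 703, 0), (1, 0, 0, 0, 0, 0), (0, 3, 2, 547, 1, 0), (0, 2, 2, 1231, 1, 0),
   (0, 5, 2, 197, 1, 0), (1, 0, 0, 0, 0, 0), (0, 13, 1, 379, 1, 0), (3, 7, 1, 2, 704, 0),
   (2, 3, 1, 31, 1643, 0), (1, 0, 0, 0, 0, 0), (0, 4931, 1, 2, 0, 0), (2, 137, 1, 2, 36, 0),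
   (0, 4933, 1, 2, 0, 0), (0, 2, 1, 2467, 1, 0), (2, 47, 1, 3, 105, 0), (0, 2, 3, 617, 1, 0)]

/-- the certificate of the order `4613 + i` is valid, or the order is exceptional -/
def certOK3 (i : ℕ) : Bool :=
  excB2 (4613 + i) || (match certs3.getD i (9, 0, 0, 0, 0, 0) with
    | (kind, p, a, q, m, k) => validB (4613 + i) kind p a q m k)

set_option maxRecDepth 100000 in
theorem certs3_ok_0 : (List.range' 0 27).all certOK3 = true := by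
  decide +kernel

set_option maxRecDepth 100000 in
theorem certs3_ok_1 : (List.range' 27 27).all certOK3 = true := by
  decide +kernel

set_option maxRecDepth 100000 in
theorem certs3_ok_2 : (List.range' 54 27).all certOK3 = true := by
  decide +kernel

set_option maxRecDepth 100000 in
theorem certs3_ok_3 : (List.range' 81 27).all certOK3 = true := by
  decide +kernel

set_option maxRecDepth 100000 in
theorem certs3_ok_4 : (List.range' 108 27).all certOK3 = true := by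
  decide +kernel

set_option maxRecDepth 100000 in
theorem certs3_ok_5 : (List.range' 135 27).all certOK3 = true := by
  decide +kernel

set_option maxRecDepth 100000 in
theorem certs3_ok_6 : (List.range' 162 27).all certOK3 = true := by
  decide +kernel

set_option maxRecDepth 100000 in
theorem certs3_ok_7 : (List.range' 189 27).all certOK3 = true := by
  decide +kernel

set_option maxRecDepth 100000 in
theorem certs3_ok_8 : (List.range' 216 27).all certOK3 = true := by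
  decide +kernel

set_option maxRecDepth 100000 in
theorem certs3_ok_9 : (List.range' 243 27).all certOK3 = true := by
  decide +kernel

set_option maxRecDepth 100000 in
theorem certs3_ok_10 : (List.range' 270 27).all certOK3 = true := by
  decide +kernel

set_option maxRecDepth 100000 in
theorem certs3_ok_11 : (List.range' 297 27).all certOK3 = true := by
  decide +kernel

theorem certs3_ok : (List.range 324).all certOK3 = true := by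
  rw [List.all_eq_true]
  intro i hi
  rw [List.mem_range] at hi
  have hk : i / 27 < 12 := by omega
  interval_cases hk' : i / 27
  · exact List.all_eq_true.mp certs3_ok_0 i (List.mem_range'_1.mpr ⟨by omega, by omega⟩)
  · exact List.all_eq_true.mp certs3_ok_1 i (List.mem_range'_1.mpr ⟨by omega, by omega⟩)
  · exact List.all_eq_true.mp certs3_ok_2 i (List.mem_range'_1.mpr ⟨by omega, by omega⟩)
  · exact List.all_eq_true.mp certs3_ok_3 i (List.mem_range'_1.mpr ⟨by omega, by omega⟩)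
  · exact List.all_eq_true.mp certs3_ok_4 i (List.mem_range'_1.mpr ⟨by omega, by omega⟩)
  · exact List.all_eq_true.mp certs3_ok_5 i (List.mem_range'_1.mpr ⟨by omega, by omega⟩)
  · exact List.all_eq_true.mp certs3_ok_6 i (List.mem_range'_1.mpr ⟨by omega, by omega⟩)
  · exact List.all_eq_true.mp certs3_ok_7 i (List.mem_range'_1.mpr ⟨by omega, by omega⟩)
  · exact List.all_eq_true.mp certs3_ok_8 i (List.mem_range'_1.mpr ⟨by omega, by omega⟩)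
  · exact List.all_eq_true.mp certs3_ok_9 i (List.mem_range'_1.mpr ⟨by omega, by omega⟩)
  · exact List.all_eq_true.mp certs3_ok_10 i (List.mem_range'_1.mpr ⟨by omega, by omega⟩)
  · exact List.all_eq_true.mp certs3_ok_11 i (List.mem_range'_1.mpr ⟨by omega, by omega⟩)

theorem sweep3 (n : ℕ) (h1 : 4613 ≤ n) (h2 : n ≤ 4936) (hex : excB2 n = false) :
    NoSimple.{u} n := by
  obtain ⟨i, rfl⟩ : ∃ i, n = 4613 + i := ⟨n - 4613, by omega⟩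
  have h := List.all_eq_true.mp certs3_ok i (List.mem_range.mpr (by omega))
  unfold certOK3 at h
  rw [Bool.or_eq_true] at h
  rcases h with h | h
  · rw [hex] at h
    exact absurd h (by decide)
  · rcases hc : certs3.getD i (9, 0, 0, 0, 0, 0) with ⟨kind, p, a, q, m, k⟩
    rw [hc] at h
    exact noSimple_of_validB (4613 + i) kind p a q m k h

end Cfsg.Agent.Lib.Helper91.SO2
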