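import Mathlib
import Cfsg.Agent.Lib.Helper91.SO2Exc

set_option autoImplicit false

/-!
# Certificates for the orders `4937` to `5260`

Each order in this range, apart from the exceptional ones, is excluded by one of the rules of
`Cfsg.Agent.Lib.Helper93.SO.validB`.
-/

namespace Cfsg.Agent.Lib.Helper91.SO2

open Cfsg.Agent.Lib.Helper93.SO

universe u

/-- the certificates for the orders `4937` to `5260` -/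
def certs4 : List (ℕ × ℕ × ℕ × ℕ × ℕ × ℕ) :=
  [(0, 4937, 1, 2, 0, 0), (1, 0, 0, 0, 0, 0), (0, 11, 1, 449, 1, 0), (1, 0, 0, 0, 0, 0),
   (0, 3, 4, 61, 1, 0), (1, 0, 0, 0, 0, 0), (0, 4943, 1, 2, 0, 0), (2, 103, 1, 2, 48, 0),
   (2, 5, 1, 23, 989, 0), (0, 2, 1, 2473, 1, 0), (2, 17, 1, 3, 291, 0), (0, 2, 2, 1237, 1, 0),
   (0, 7, 2, 101, 1, 0), (1, 0, 0, 0, 0, 0), (0, 4951, 1, 2, 0, 0), (0, 2, 3, 619, 1, 0),
   (2, 13, 1, 3, 381, 0), (0, 2, 1, 2477, 1, 0), (0, 5, 1, 991, 1, 0), (2, 59, 1, 2, 84, 0),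
   (0, 4957, 1, 2, 0, 0), (1, 0, 0, 0, 0, 0), (2, 3, 2, 19, 551, 0), (9, 0, 0, 0, 0, 0),
   (0, 11, 2, 41, 1, 0), (1, 0, 0, 0, 0, 0), (0, 7, 1, 709, 1, 0), (1, 0, 0, 0, 0, 0),
   (2, 331, 1, 3, 15, 0), (1, 0, 0, 0, 0, 0), (0, 4967, 1, 2, 0, 0), (3, 23, 1, 2, 216, 0),
   (0, 4969, 1, 2, 0, 0), (1, 0, 0, 0, 0, 0), (0, 3, 1, 1657, 1, 0), (1, 0, 0, 0, 0, 0),
   (0, 4973, 1, 2, 0, 0), (1, 0, 0, 0, 0, 0), (0, 5, 2, 199, 1, 0), (0, 2, 4, 311, 1, 0),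
   (2, 7, 1, 3, 711, 0), (1, 0, 0, 0, 0, 0), (0, 13, 1, 383, 1, 0), (2, 83, 1, 2, 60, 0),
   (0, 17, 1, 293, 1, 0), (1, 0, 0, 0, 0, 0), (2, 11, 1, 3, 453, 0), (2, 7, 1, 2, 712, 0),
   (0, 5, 1, 997, 1, 0), (1, 0, 0, 0, 0, 0), (0, 4987, 1, 2, 0, 0), (1, 0, 0, 0, 0, 0),
   (0, 3, 1, 1663, 1, 0), (1, 0, 0, 0, 0, 0), (2, 7, 1, 23, 713, 0), (2, 13, 1, 2, 384, 0),
   (0, 4993, 1, 2, 0, 0), (1, 0, 0, 0, 0, 0), (2, 37, 1, 3, 135, 0), (0, 2, 2, 1249, 1, 0),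
   (0, 19, 1, 263, 1, 0), (1, 0, 0, 0, 0, 0), (0, 4999, 1, 2, 0, 0), (0, 2, 3, 5, 4, 0),
   (0, 3, 1, 1667, 1, 0), (1, 0, 0, 0, 0, 0), (0, 5003, 1, 2, 0, 0), (2, 139, 1, 2, 36, 0),
   (2, 11, 1, 5, 455, 0), (0, 2, 1, 2503, 1, 0), (0, 3, 1, 1669, 1, 0), (0, 2, 4, 313, 1, 0),
   (0, 5009, 1, 2, 0, 0), (1, 0, 0, 0, 0, 0), (0, 5011, 1, 2, 0, 0), (1, 0, 0, 0, 0, 0),
   (0, 3, 2, 557, 1, 0), (1, 0, 0, 0, 0, 0), (2, 5, 1, 17, 1003, 0), (2, 11, 1, 2, 456, 0),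
   (0, 29, 1, 173, 1, 0), (1, 0, 0, 0, 0, 0), (2, 3, 1, 7, 1673, 0), (1, 0, 0, 0, 0, 0),
   (0, 5021, 1, 2, 0, 0), (1, 0, 0, 0, 0, 0), (0, 5023, 1, 2, 0, 0), (0, 2, 5, 157, 1, 0),
   (2, 67, 1, 3, 75, 0), (1, 0, 0, 0, 0, 0), (0, 11, 1, 457, 1, 0), (2, 419, 1, 2, 12, 0),
   (0, 47, 1, 107, 1, 0), (1, 0, 0, 0, 0, 0), (2, 13, 1, 3, 387, 0), (1, 0, 0, 0, 0, 0),
   (0, 7, 1, 719, 1, 0), (1, 0, 0, 0, 0, 0), (2, 5, 1, 19, 1007, 0), (0, 2, 2, 1259, 1, 0),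
   (2, 23, 1, 3, 219, 0), (1, 0, 0, 0, 0, 0), (0, 5039, 1, 2, 0, 0), (9, 0, 0, 0, 0, 0),
   (0, 71, 2, 2, 0, 0), (0, 2, 1, 2521, 1, 0), (0, 3, 1, 41, 2, 0), (1, 0, 0, 0, 0, 0),
   (0, 5, 1, 1009, 1, 0), (1, 0, 0, 0, 0, 0), (0, 7, 2, 103, 1, 0), (0, 2, 3, 631, 1, 0),
   (2, 11, 1, 3, 459, 0), (1, 0, 0, 0, 0, 0), (0, 5051, 1, 2, 0, 0), (2, 421, 1, 2, 12, 0),
   (0, 31, 1, 163, 1, 0), (1, 0, 0, 0, 0, 0), (2, 337, 1, 3, 15, 0), (0, 2, 6, 79, 1, 0),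
   (0, 13, 1, 389, 1, 0), (1, 0, 0, 0, 0, 0), (0, 5059, 1, 2, 0, 0), (1, 0, 0, 0, 0, 0),
   (2, 7, 1, 3, 723, 0), (0, 2, 1, 2531, 1, 0), (0, 61, 1, 83, 1, 0), (2, 211, 1, 2, 24, 0),
   (0, 5, 1, 1013, 1, 0), (1, 0, 0, 0, 0, 0), (0, 3, 2, 563, 1, 0), (1, 0, 0, 0, 0, 0),
   (0, 37, 1, 137, 1, 0), (1, 0, 0, 0, 0, 0), (0, 11, 1, 461, 1, 0), (0, 2, 4, 317, 1, 0),
   (2, 3, 1, 19, 1691, 0), (1, 0, 0, 0, 0, 0), (2, 5, 2, 7, 203, 0), (2, 47, 1, 2, 108, 0),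
   (0, 5077, 1, 2, 0, 0), (0, 2, 1, 2539, 1, 0), (0, 3, 1, 1693, 1, 0), (1, 0, 0, 0, 0, 0),
   (0, 5081, 1, 2, 0, 0), (1, 0, 0, 0, 0, 0), (2, 17, 1, 13, 299, 0), (1, 0, 0, 0, 0, 0),
   (2, 5, 1, 3, 1017, 0), (0, 2, 1, 2543, 1, 0), (0, 5087, 1, 2, 0, 0), (2, 53, 1, 2, 96, 0),
   (0, 7, 1, 727, 1, 0), (1, 0, 0, 0, 0, 0), (0, 3, 1, 1697, 1, 0), (1, 0, 0, 0, 0, 0),
   (0, 11, 1, 463, 1, 0), (1, 0, 0, 0, 0, 0), (0, 5, 1, 1019, 1, 0), (2, 7, 2, 2, 104, 0),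
   (0, 3, 1, 1699, 1, 0), (0, 2, 1, 2549, 1, 0), (0, 5099, 1, 2, 0, 0), (2, 17, 1, 2, 300, 0),
   (0, 5101, 1, 2, 0, 0), (0, 2, 1, 2551, 1, 0), (0, 3, 6, 7, 1, 0), (3, 11, 1, 2, 464, 0),
   (0, 5, 1, 1021, 1, 0), (1, 0, 0, 0, 0, 0), (0, 5107, 1, 2, 0, 0), (0, 2, 2, 1277, 1, 0),
   (2, 3, 1, 13, 1703, 0), (1, 0, 0, 0, 0, 0), (0, 19, 1, 269, 1, 0), (3, 71, 1, 2, 72, 0),
   (0, 5113, 1, 2, 0, 0), (0, 2, 1, 2557, 1, 0), (2, 31, 1, 3, 165, 0), (0, 2, 2, 1279, 1, 0),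
   (2, 17, 1, 7, 301, 0), (1, 0, 0, 0, 0, 0), (0, 5119, 1, 2, 0, 0), (0, 2, 10, 5, 1, 0),
   (0, 3, 2, 569, 1, 0), (1, 0, 0, 0, 0, 0), (0, 47, 1, 109, 1, 0), (2, 61, 1, 2, 84, 0),
   (0, 5, 3, 41, 1, 0), (1, 0, 0, 0, 0, 0), (0, 3, 1, 1709, 1, 0), (0, 2, 3, 641, 1, 0),
   (0, 23, 1, 223, 1, 0), (1, 0, 0, 0, 0, 0), (0, 7, 1, 733, 1, 0), (0, 2, 2, 1283, 1, 0),
   (2, 59, 1, 3, 87, 0), (1, 0, 0, 0, 0, 0), (2, 5, 1, 13, 1027, 0), (2, 107, 1, 2, 48, 0),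
   (0, 11, 1, 467, 1, 0), (1, 0, 0, 0, 0, 0), (0, 3, 2, 571, 1, 0), (1, 0, 0, 0, 0, 0),
   (0, 53, 1, 97, 1, 0), (1, 0, 0, 0, 0, 0), (0, 37, 1, 139, 1, 0), (0, 2, 3, 643, 1, 0),
   (2, 7, 3, 3, 15, 0), (1, 0, 0, 0, 0, 0), (0, 5147, 1, 2, 0, 0), (9, 0, 0, 0, 0, 0),
   (0, 19, 1, 271, 1, 0), (1, 0, 0, 0, 0, 0), (2, 17, 1, 3, 303, 0), (2, 23, 1, 2, 224, 0),
   (0, 5153, 1, 2, 0, 0), (1, 0, 0, 0, 0, 0), (0, 5, 1, 1031, 1, 0), (0, 2, 2, 1289, 1, 0),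
   (0, 3, 3, 191, 1, 0), (0, 2, 1, 2579, 1, 0), (2, 7, 1, 11, 737, 0), (2, 43, 1, 2, 120, 0),
   (0, 13, 1, 397, 1, 0), (1, 0, 0, 0, 0, 0), (0, 3, 1, 1721, 1, 0), (0, 2, 2, 1291, 1, 0),
   (0, 5, 1, 1033, 1, 0), (1, 0, 0, 0, 0, 0), (0, 5167, 1, 2, 0, 0), (2, 17, 1, 2, 304, 0),
   (0, 3, 1, 1723, 1, 0), (1, 0, 0, 0, 0, 0), (0, 5171, 1, 2, 0, 0), (2, 431, 1, 2, 12, 0),
   (0, 7, 1, 739, 1, 0), (1, 0, 0, 0, 0, 0), (2, 5, 2, 3, 207, 0), (0, 2, 3, 647, 1, 0),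
   (0, 31, 1, 167, 1, 0), (1, 0, 0, 0, 0, 0), (0, 5179, 1, 2, 0, 0), (1, 0, 0, 0, 0, 0),
   (2, 11, 1, 3, 471, 0), (0, 2, 1, 2591, 1, 0), (0, 71, 1, 73, 1, 0), (0, 2, 6, 3, 4, 0),
   (2, 17, 1, 5, 305, 0), (0, 2, 1, 2593, 1, 0), (2, 13, 1, 3, 399, 0), (0, 2, 2, 1297, 1, 0),
   (0, 5189, 1, 2, 0, 0), (1, 0, 0, 0, 0, 0), (0, 29, 1, 179, 1, 0), (1, 0, 0, 0, 0, 0),
   (0, 3, 2, 577, 1, 0), (1, 0, 0, 0, 0, 0), (0, 5, 1, 1039, 1, 0), (2, 433, 1, 2, 12, 0),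
   (0, 5197, 1, 2, 0, 0), (1, 0, 0, 0, 0, 0), (0, 3, 1, 1733, 1, 0), (3, 13, 1, 2, 400, 0),
   (0, 7, 1, 743, 1, 0), (1, 0, 0, 0, 0, 0), (0, 11, 2, 43, 1, 0), (0, 2, 2, 1301, 1, 0),
   (2, 347, 1, 3, 15, 0), (1, 0, 0, 0, 0, 0), (0, 41, 1, 127, 1, 0), (2, 31, 1, 2, 168, 0),
   (0, 5209, 1, 2, 0, 0), (1, 0, 0, 0, 0, 0), (0, 3, 3, 193, 1, 0), (0, 2, 2, 1303, 1, 0),
   (0, 13, 1, 401, 1, 0), (1, 0, 0, 0, 0, 0), (2, 5, 1, 7, 1043, 0), (0, 2, 5, 163, 1, 0),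
   (2, 3, 1, 37, 1739, 0), (0, 2, 1, 2609, 1, 0), (0, 17, 1, 307, 1, 0), (3, 29, 1, 2, 180, 0),
   (0, 23, 1, 227, 1, 0), (1, 0, 0, 0, 0, 0), (0, 3, 1, 1741, 1, 0), (0, 2, 3, 653, 1, 0),
   (2, 5, 2, 11, 209, 0), (1, 0, 0, 0, 0, 0), (0, 5227, 1, 2, 0, 0), (0, 2, 2, 1307, 1, 0),
   (2, 3, 2, 7, 581, 0), (1, 0, 0, 0, 0, 0), (0, 5231, 1, 2, 0, 0), (2, 109, 1, 2, 48, 0),
   (0, 5233, 1, 2, 0, 0), (0, 2, 1, 2617, 1, 0), (2, 5, 1, 3, 1047, 0), (1, 0, 0, 0, 0, 0),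
   (0, 5237, 1, 2, 0, 0), (1, 0, 0, 0, 0, 0), (0, 13, 2, 31, 1, 0), (1, 0, 0, 0, 0, 0),
   (0, 3, 1, 1747, 1, 0), (0, 2, 1, 2621, 1, 0), (0, 7, 2, 107, 1, 0), (2, 19, 1, 2, 276, 0),
   (0, 5, 1, 1049, 1, 0), (1, 0, 0, 0, 0, 0), (2, 11, 1, 3, 477, 0), (0, 2, 7, 41, 1, 0),
   (0, 29, 1, 181, 1, 0), (1, 0, 0, 0, 0, 0), (0, 59, 1, 89, 1, 0), (1, 0, 0, 0, 0, 0),
   (2, 103, 1, 3, 51, 0), (1, 0, 0, 0, 0, 0), (0, 5, 1, 1051, 1, 0), (2, 73, 1, 2, 72, 0),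
   (0, 7, 1, 751, 1, 0), (1, 0, 0, 0, 0, 0), (0, 3, 1, 1753, 1, 0), (1, 0, 0, 0, 0, 0)]

/-- the certificate of the order `4937 + i` is valid, or the order is exceptional -/
def certOK4 (i : ℕ) : Bool :=
  excB2 (4937 + i) || (match certs4.getD i (9, 0, 0, 0, 0, 0) with
    | (kind, p, a, q, m, k) => validB (4937 + i) kind p a q m k)

set_option maxRecDepth 100000 in
theorem certs4_ok_0 : (List.range' 0 27).all certOK4 = true := by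
  decide +kernel

set_option maxRecDepth 100000 in
theorem certs4_ok_1 : (List.range' 27 27).all certOK4 = true := by
  decide +kernel

set_option maxRecDepth 100000 in
theorem certs4_ok_2 : (List.range' 54 27).all certOK4 = true := by
  decide +kernel

set_option maxRecDepth 100000 in
theorem certs4_ok_3 : (List.range' 81 27).all certOK4 = true := by
  decide +kernel

set_option maxRecDepth 100000 in
theorem certs4_ok_4 : (List.range' 108 27).all certOK4 = true := by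
  decide +kernel

set_option maxRecDepth 100000 in
theorem certs4_ok_5 : (List.range' 135 27).all certOK4 = true := by
  decide +kernel

set_option maxRecDepth 100000 in
theorem certs4_ok_6 : (List.range' 162 27).all certOK4 = true := by
  decide +kernel

set_option maxRecDepth 100000 in
theorem certs4_ok_7 : (List.range' 189 27).all certOK4 = true := by
  decide +kernel

set_option maxRecDepth 100000 in
theorem certs4_ok_8 : (List.range' 216 27).all certOK4 = true := by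
  decide +kernel

set_option maxRecDepth 100000 in
theorem certs4_ok_9 : (List.range' 243 27).all certOK4 = true := by
  decide +kernel

set_option maxRecDepth 100000 in
theorem certs4_ok_10 : (List.range' 270 27).all certOK4 = true := by
  decide +kernel

set_option maxRecDepth 100000 in
theorem certs4_ok_11 : (List.range' 297 27).all certOK4 = true := by
  decide +kernel

theorem certs4_ok : (List.range 324).all certOK4 = true := by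
  rw [List.all_eq_true]
  intro i hi
  rw [List.mem_range] at hi
  have hk : i / 27 < 12 := by omega
  interval_cases hk' : i / 27
  · exact List.all_eq_true.mp certs4_ok_0 i (List.mem_range'_1.mpr ⟨by omega, by omega⟩)
  · exact List.all_eq_true.mp certs4_ok_1 i (List.mem_range'_1.mpr ⟨by omega, by omega⟩)
  · exact List.all_eq_true.mp certs4_ok_2 i (List.mem_range'_1.mpr ⟨by omega, by omega⟩)
  · exact List.all_eq_true.mp certs4_ok_3 i (List.mem_range'_1.mpr ⟨by omega, by omega⟩)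
  · exact List.all_eq_true.mp certs4_ok_4 i (List.mem_range'_1.mpr ⟨by omega, by omega⟩)
  · exact List.all_eq_true.mp certs4_ok_5 i (List.mem_range'_1.mpr ⟨by omega, by omega⟩)
  · exact List.all_eq_true.mp certs4_ok_6 i (List.mem_range'_1.mpr ⟨by omega, by omega⟩)
  · exact List.all_eq_true.mp certs4_ok_7 i (List.mem_range'_1.mpr ⟨by omega, by omega⟩)
  · exact List.all_eq_true.mp certs4_ok_8 i (List.mem_range'_1.mpr ⟨by omega, by omega⟩)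
  · exact List.all_eq_true.mp certs4_ok_9 i (List.mem_range'_1.mpr ⟨by omega, by omega⟩)
  · exact List.all_eq_true.mp certs4_ok_10 i (List.mem_range'_1.mpr ⟨by omega, by omega⟩)
  · exact List.all_eq_true.mp certs4_ok_11 i (List.mem_range'_1.mpr ⟨by omega, by omega⟩)

theorem sweep4 (n : ℕ) (h1 : 4937 ≤ n) (h2 : n ≤ 5260) (hex : excB2 n = false) :
    NoSimple.{u} n := by
  obtain ⟨i, rfl⟩ : ∃ i, n = 4937 + i := ⟨n - 4937, by omega⟩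
  have h := List.all_eq_true.mp certs4_ok i (List.mem_range.mpr (by omega))
  unfold certOK4 at h
  rw [Bool.or_eq_true] at h
  rcases h with h | h
  · rw [hex] at h
    exact absurd h (by decide)
  · rcases hc : certs4.getD i (9, 0, 0, 0, 0, 0) with ⟨kind, p, a, q, m, k⟩
    rw [hc] at h
    exact noSimple_of_validB (4937 + i) kind p a q m k h

end Cfsg.Agent.Lib.Helper91.SO2
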