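import Mathlib
import Cfsg.Agent.Lib.Helper91.SO2Exc

set_option autoImplicit false

/-!
# Certificates for the orders `5261` to `5584`

Each order in this range, apart from the exceptional ones, is excluded by one of the rules of
`Cfsg.Agent.Lib.Helper93.SO.validB`.
-/

namespace Cfsg.Agent.Lib.Helper91.SO2

open Cfsg.Agent.Lib.Helper93.SO

universe u

/-- the certificates for the orders `5261` to `5584` -/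
def certs5 : List (ℕ × ℕ × ℕ × ℕ × ℕ × ℕ) :=
  [(0, 5261, 1, 2, 0, 0), (1, 0, 0, 0, 0, 0), (0, 19, 1, 277, 1, 0), (2, 7, 1, 2, 752, 0),
   (3, 5, 1, 3, 1053, 0), (0, 2, 1, 2633, 1, 0), (0, 23, 1, 229, 1, 0), (2, 439, 1, 2, 12, 0),
   (0, 11, 1, 479, 1, 0), (1, 0, 0, 0, 0, 0), (2, 3, 1, 7, 1757, 0), (0, 2, 3, 659, 1, 0),
   (0, 5273, 1, 2, 0, 0), (1, 0, 0, 0, 0, 0), (0, 5, 2, 211, 1, 0), (0, 2, 2, 1319, 1, 0),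
   (0, 3, 1, 1759, 1, 0), (1, 0, 0, 0, 0, 0), (0, 5279, 1, 2, 0, 0), (3, 11, 1, 2, 480, 0),
   (0, 5281, 1, 2, 0, 0), (1, 0, 0, 0, 0, 0), (0, 3, 2, 587, 1, 0), (0, 2, 2, 1321, 1, 0),
   (2, 7, 1, 5, 755, 0), (1, 0, 0, 0, 0, 0), (0, 17, 1, 311, 1, 0), (0, 2, 3, 661, 1, 0),
   (2, 41, 1, 3, 129, 0), (1, 0, 0, 0, 0, 0), (2, 11, 1, 13, 481, 0), (4, 7, 2, 2, 108, 2),
   (0, 67, 1, 79, 1, 0), (0, 2, 1, 2647, 1, 0), (2, 5, 1, 3, 1059, 0), (0, 2, 4, 331, 1, 0),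
   (0, 5297, 1, 2, 0, 0), (1, 0, 0, 0, 0, 0), (0, 7, 1, 757, 1, 0), (1, 0, 0, 0, 0, 0),
   (2, 19, 1, 3, 279, 0), (1, 0, 0, 0, 0, 0), (0, 5303, 1, 2, 0, 0), (2, 13, 1, 2, 408, 0),
   (0, 5, 1, 1061, 1, 0), (1, 0, 0, 0, 0, 0), (2, 29, 1, 3, 183, 0), (0, 2, 2, 1327, 1, 0),
   (0, 5309, 1, 2, 0, 0), (1, 0, 0, 0, 0, 0), (0, 47, 1, 113, 1, 0), (0, 2, 6, 83, 1, 0),
   (3, 3, 1, 7, 1771, 0), (0, 2, 1, 2657, 1, 0), (0, 5, 1, 1063, 1, 0), (2, 443, 1, 2, 12, 0),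
   (0, 13, 1, 409, 1, 0), (0, 2, 1, 2659, 1, 0), (0, 3, 3, 197, 1, 0), (3, 7, 1, 2, 760, 0),
   (0, 17, 1, 313, 1, 0), (1, 0, 0, 0, 0, 0), (0, 5323, 1, 2, 0, 0), (0, 2, 2, 11, 3, 0),
   (2, 71, 1, 3, 75, 0), (0, 2, 1, 2663, 1, 0), (0, 7, 1, 761, 1, 0), (2, 37, 1, 2, 144, 0),
   (0, 73, 2, 2, 0, 0), (1, 0, 0, 0, 0, 0), (0, 3, 1, 1777, 1, 0), (1, 0, 0, 0, 0, 0),
   (0, 5333, 1, 2, 0, 0), (1, 0, 0, 0, 0, 0), (2, 5, 1, 11, 1067, 0), (1, 0, 0, 0, 0, 0),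
   (0, 3, 2, 593, 1, 0), (1, 0, 0, 0, 0, 0), (0, 19, 1, 281, 1, 0), (2, 89, 1, 2, 60, 0),
   (0, 7, 2, 109, 1, 0), (0, 2, 1, 2671, 1, 0), (2, 3, 1, 13, 1781, 0), (0, 2, 5, 167, 1, 0),
   (0, 5, 1, 1069, 1, 0), (1, 0, 0, 0, 0, 0), (0, 5347, 1, 2, 0, 0), (1, 0, 0, 0, 0, 0),
   (0, 3, 1, 1783, 1, 0), (1, 0, 0, 0, 0, 0), (0, 5351, 1, 2, 0, 0), (2, 223, 1, 2, 24, 0),
   (0, 53, 1, 101, 1, 0), (0, 2, 1, 2677, 1, 0), (3, 5, 1, 3, 1071, 0), (1, 0, 0, 0, 0, 0),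
   (0, 11, 1, 487, 1, 0), (1, 0, 0, 0, 0, 0), (0, 23, 1, 233, 1, 0), (2, 67, 1, 2, 80, 0),
   (0, 3, 1, 1787, 1, 0), (1, 0, 0, 0, 0, 0), (0, 31, 1, 173, 1, 0), (2, 149, 1, 2, 36, 0),
   (2, 5, 1, 29, 1073, 0), (0, 2, 1, 2683, 1, 0), (0, 3, 1, 1789, 1, 0), (1, 0, 0, 0, 0, 0),
   (2, 7, 1, 13, 767, 0), (1, 0, 0, 0, 0, 0), (0, 41, 1, 131, 1, 0), (1, 0, 0, 0, 0, 0),
   (0, 3, 3, 199, 1, 0), (0, 2, 1, 2687, 1, 0), (0, 5, 3, 43, 1, 0), (9, 0, 0, 0, 0, 0),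
   (0, 19, 1, 283, 1, 0), (0, 2, 1, 2689, 1, 0), (2, 11, 1, 3, 489, 0), (1, 0, 0, 0, 0, 0),
   (0, 5381, 1, 2, 0, 0), (1, 0, 0, 0, 0, 0), (0, 7, 1, 769, 1, 0), (0, 2, 3, 673, 1, 0),
   (2, 5, 1, 3, 1077, 0), (0, 2, 1, 2693, 1, 0), (0, 5387, 1, 2, 0, 0), (2, 449, 1, 2, 12, 0),
   (0, 17, 1, 317, 1, 0), (1, 0, 0, 0, 0, 0), (0, 3, 2, 599, 1, 0), (0, 2, 4, 337, 1, 0),
   (0, 5393, 1, 2, 0, 0), (1, 0, 0, 0, 0, 0), (2, 5, 1, 13, 1079, 0), (1, 0, 0, 0, 0, 0),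
   (2, 3, 1, 7, 1799, 0), (0, 2, 1, 2699, 1, 0), (0, 5399, 1, 2, 0, 0), (9, 0, 0, 0, 0, 0),
   (0, 11, 1, 491, 1, 0), (1, 0, 0, 0, 0, 0), (0, 3, 1, 1801, 1, 0), (1, 0, 0, 0, 0, 0),
   (2, 47, 1, 5, 115, 0), (1, 0, 0, 0, 0, 0), (0, 5407, 1, 2, 0, 0), (0, 2, 5, 13, 2, 0),
   (0, 3, 2, 601, 1, 0), (1, 0, 0, 0, 0, 0), (0, 7, 1, 773, 1, 0), (2, 11, 1, 2, 492, 0),
   (0, 5413, 1, 2, 0, 0), (0, 2, 1, 2707, 1, 0), (2, 19, 2, 3, 15, 0), (0, 2, 3, 677, 1, 0),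
   (0, 5417, 1, 2, 0, 0), (1, 0, 0, 0, 0, 0), (0, 5419, 1, 2, 0, 0), (1, 0, 0, 0, 0, 0),
   (2, 139, 1, 3, 39, 0), (0, 2, 1, 2711, 1, 0), (2, 11, 1, 17, 493, 0), (2, 113, 1, 2, 48, 0),
   (2, 31, 1, 5, 175, 0), (0, 2, 1, 2713, 1, 0), (0, 3, 4, 67, 1, 0), (1, 0, 0, 0, 0, 0),
   (0, 61, 1, 89, 1, 0), (1, 0, 0, 0, 0, 0), (0, 5431, 1, 2, 0, 0), (2, 7, 1, 2, 776, 0),
   (0, 3, 1, 1811, 1, 0), (1, 0, 0, 0, 0, 0), (0, 5, 1, 1087, 1, 0), (2, 151, 1, 2, 36, 0),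
   (0, 5437, 1, 2, 0, 0), (0, 2, 1, 2719, 1, 0), (2, 7, 2, 3, 111, 0), (2, 17, 1, 2, 320, 0),
   (0, 5441, 1, 2, 0, 0), (1, 0, 0, 0, 0, 0), (0, 5443, 1, 2, 0, 0), (0, 2, 2, 1361, 1, 0),
   (3, 5, 1, 3, 1089, 0), (1, 0, 0, 0, 0, 0), (0, 13, 1, 419, 1, 0), (2, 227, 1, 2, 24, 0),
   (0, 5449, 1, 2, 0, 0), (1, 0, 0, 0, 0, 0), (2, 23, 1, 3, 237, 0), (1, 0, 0, 0, 0, 0),
   (2, 7, 1, 19, 779, 0), (1, 0, 0, 0, 0, 0), (0, 5, 1, 1091, 1, 0), (2, 31, 1, 2, 176, 0),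
   (2, 17, 1, 3, 321, 0), (0, 2, 1, 2729, 1, 0), (0, 53, 1, 103, 1, 0), (9, 0, 0, 0, 0, 0),
   (0, 43, 1, 127, 1, 0), (0, 2, 1, 2731, 1, 0), (0, 3, 2, 607, 1, 0), (0, 2, 3, 683, 1, 0),
   (0, 5, 1, 1093, 1, 0), (1, 0, 0, 0, 0, 0), (2, 11, 1, 7, 497, 0), (0, 2, 2, 1367, 1, 0),
   (0, 3, 1, 1823, 1, 0), (1, 0, 0, 0, 0, 0), (0, 5471, 1, 2, 0, 0), (9, 0, 0, 0, 0, 0),
   (0, 13, 1, 421, 1, 0), (1, 0, 0, 0, 0, 0), (2, 5, 2, 3, 219, 0), (0, 2, 2, 37, 2, 0),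
   (0, 5477, 1, 2, 0, 0), (1, 0, 0, 0, 0, 0), (0, 5479, 1, 2, 0, 0), (1, 0, 0, 0, 0, 0),
   (2, 3, 3, 7, 203, 0), (0, 2, 1, 2741, 1, 0), (0, 5483, 1, 2, 0, 0), (2, 457, 1, 2, 12, 0),
   (0, 5, 1, 1097, 1, 0), (1, 0, 0, 0, 0, 0), (2, 3, 1, 31, 1829, 0), (0, 2, 4, 7, 3, 0),
   (0, 11, 1, 499, 1, 0), (1, 0, 0, 0, 0, 0), (0, 17, 2, 19, 1, 0), (0, 2, 2, 1373, 1, 0),
   (0, 3, 1, 1831, 1, 0), (1, 0, 0, 0, 0, 0), (2, 5, 1, 7, 1099, 0), (2, 229, 1, 2, 24, 0),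
   (0, 23, 1, 239, 1, 0), (0, 2, 1, 2749, 1, 0), (2, 3, 2, 13, 611, 0), (1, 0, 0, 0, 0, 0),
   (0, 5501, 1, 2, 0, 0), (1, 0, 0, 0, 0, 0), (0, 5503, 1, 2, 0, 0), (0, 2, 7, 43, 1, 0),
   (2, 367, 1, 3, 15, 0), (0, 2, 1, 2753, 1, 0), (0, 5507, 1, 2, 0, 0), (3, 17, 1, 2, 324, 0),
   (0, 7, 1, 787, 1, 0), (1, 0, 0, 0, 0, 0), (2, 11, 1, 3, 501, 0), (1, 0, 0, 0, 0, 0),
   (0, 37, 1, 149, 1, 0), (1, 0, 0, 0, 0, 0), (0, 5, 1, 1103, 1, 0), (1, 0, 0, 0, 0, 0),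
   (0, 3, 2, 613, 1, 0), (1, 0, 0, 0, 0, 0), (0, 5519, 1, 2, 0, 0), (3, 23, 1, 2, 240, 0),
   (0, 5521, 1, 2, 0, 0), (1, 0, 0, 0, 0, 0), (2, 3, 1, 7, 1841, 0), (0, 2, 2, 1381, 1, 0),
   (2, 13, 1, 5, 425, 0), (1, 0, 0, 0, 0, 0), (0, 5527, 1, 2, 0, 0), (0, 2, 3, 691, 1, 0),
   (2, 19, 1, 3, 291, 0), (1, 0, 0, 0, 0, 0), (0, 5531, 1, 2, 0, 0), (2, 461, 1, 2, 12, 0),
   (0, 11, 1, 503, 1, 0), (0, 2, 1, 2767, 1, 0), (2, 41, 1, 3, 135, 0), (0, 2, 5, 173, 1, 0),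
   (0, 7, 2, 113, 1, 0), (1, 0, 0, 0, 0, 0), (0, 29, 1, 191, 1, 0), (1, 0, 0, 0, 0, 0),
   (0, 3, 1, 1847, 1, 0), (1, 0, 0, 0, 0, 0), (0, 23, 1, 241, 1, 0), (3, 11, 1, 2, 504, 0),
   (0, 5, 1, 1109, 1, 0), (1, 0, 0, 0, 0, 0), (0, 3, 1, 43, 2, 0), (1, 0, 0, 0, 0, 0),
   (0, 31, 1, 179, 1, 0), (1, 0, 0, 0, 0, 0), (2, 7, 1, 13, 793, 0), (0, 2, 4, 347, 1, 0),
   (0, 3, 2, 617, 1, 0), (0, 2, 1, 2777, 1, 0), (2, 11, 1, 5, 505, 0), (2, 463, 1, 2, 12, 0),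
   (0, 5557, 1, 2, 0, 0), (1, 0, 0, 0, 0, 0), (2, 17, 1, 3, 327, 0), (1, 0, 0, 0, 0, 0),
   (0, 67, 1, 83, 1, 0), (1, 0, 0, 0, 0, 0), (0, 5563, 1, 2, 0, 0), (1, 0, 0, 0, 0, 0),
   (2, 7, 1, 3, 795, 0), (1, 0, 0, 0, 0, 0), (0, 19, 1, 293, 1, 0), (2, 29, 1, 2, 192, 0),
   (0, 5569, 1, 2, 0, 0), (1, 0, 0, 0, 0, 0), (0, 3, 2, 619, 1, 0), (1, 0, 0, 0, 0, 0),
   (0, 5573, 1, 2, 0, 0), (1, 0, 0, 0, 0, 0), (0, 5, 2, 223, 1, 0), (1, 0, 0, 0, 0, 0),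
   (2, 13, 2, 3, 33, 0), (0, 2, 1, 2789, 1, 0), (0, 7, 1, 797, 1, 0), (2, 31, 1, 2, 180, 0),
   (0, 5581, 1, 2, 0, 0), (0, 2, 1, 2791, 1, 0), (0, 3, 1, 1861, 1, 0), (0, 2, 4, 349, 1, 0)]

/-- the certificate of the order `5261 + i` is valid, or the order is exceptional -/
def certOK5 (i : ℕ) : Bool :=
  excB2 (5261 + i) || (match certs5.getD i (9, 0, 0, 0, 0, 0) with
    | (kind, p, a, q, m, k) => validB (5261 + i) kind p a q m k)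

set_option maxRecDepth 100000 in
theorem certs5_ok_0 : (List.range' 0 27).all certOK5 = true := by
  decide +kernel

set_option maxRecDepth 100000 in
theorem certs5_ok_1 : (List.range' 27 27).all certOK5 = true := by
  decide +kernel

set_option maxRecDepth 100000 in
theorem certs5_ok_2 : (List.range' 54 27).all certOK5 = true := by
  decide +kernel

set_option maxRecDepth 100000 in
theorem certs5_ok_3 : (List.range' 81 27).all certOK5 = true := by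
  decide +kernel

set_option maxRecDepth 100000 in
theorem certs5_ok_4 : (List.range' 108 27).all certOK5 = true := by
  decide +kernel

set_option maxRecDepth 100000 in
theorem certs5_ok_5 : (List.range' 135 27).all certOK5 = true := by
  decide +kernel

set_option maxRecDepth 100000 in
theorem certs5_ok_6 : (List.range' 162 27).all certOK5 = true := by
  decide +kernel

set_option maxRecDepth 100000 in
theorem certs5_ok_7 : (List.range' 189 27).all certOK5 = true := by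
  decide +kernel

set_option maxRecDepth 100000 in
theorem certs5_ok_8 : (List.range' 216 27).all certOK5 = true := by
  decide +kernel

set_option maxRecDepth 100000 in
theorem certs5_ok_9 : (List.range' 243 27).all certOK5 = true := by
  decide +kernel

set_option maxRecDepth 100000 in
theorem certs5_ok_10 : (List.range' 270 27).all certOK5 = true := by
  decide +kernel

set_option maxRecDepth 100000 in
theorem certs5_ok_11 : (List.range' 297 27).all certOK5 = true := by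
  decide +kernel

theorem certs5_ok : (List.range 324).all certOK5 = true := by
  rw [List.all_eq_true]
  intro i hi
  rw [List.mem_range] at hi
  have hk : i / 27 < 12 := by omega
  interval_cases hk' : i / 27
  · exact List.all_eq_true.mp certs5_ok_0 i (List.mem_range'_1.mpr ⟨by omega, by omega⟩)
  · exact List.all_eq_true.mp certs5_ok_1 i (List.mem_range'_1.mpr ⟨by omega, by omega⟩)
  · exact List.all_eq_true.mp certs5_ok_2 i (List.mem_range'_1.mpr ⟨by omega, by omega⟩)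
  · exact List.all_eq_true.mp certs5_ok_3 i (List.mem_range'_1.mpr ⟨by omega, by omega⟩)
  · exact List.all_eq_true.mp certs5_ok_4 i (List.mem_range'_1.mpr ⟨by omega, by omega⟩)
  · exact List.all_eq_true.mp certs5_ok_5 i (List.mem_range'_1.mpr ⟨by omega, by omega⟩)
  · exact List.all_eq_true.mp certs5_ok_6 i (List.mem_range'_1.mpr ⟨by omega, by omega⟩)
  · exact List.all_eq_true.mp certs5_ok_7 i (List.mem_range'_1.mpr ⟨by omega, by omega⟩)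
  · exact List.all_eq_true.mp certs5_ok_8 i (List.mem_range'_1.mpr ⟨by omega, by omega⟩)
  · exact List.all_eq_true.mp certs5_ok_9 i (List.mem_range'_1.mpr ⟨by omega, by omega⟩)
  · exact List.all_eq_true.mp certs5_ok_10 i (List.mem_range'_1.mpr ⟨by omega, by omega⟩)
  · exact List.all_eq_true.mp certs5_ok_11 i (List.mem_range'_1.mpr ⟨by omega, by omega⟩)

theorem sweep5 (n : ℕ) (h1 : 5261 ≤ n) (h2 : n ≤ 5584) (hex : excB2 n = false) :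
    NoSimple.{u} n := by
  obtain ⟨i, rfl⟩ : ∃ i, n = 5261 + i := ⟨n - 5261, by omega⟩
  have h := List.all_eq_true.mp certs5_ok i (List.mem_range.mpr (by omega))
  unfold certOK5 at h
  rw [Bool.or_eq_true] at h
  rcases h with h | h
  · rw [hex] at h
    exact absurd h (by decide)
  · rcases hc : certs5.getD i (9, 0, 0, 0, 0, 0) with ⟨kind, p, a, q, m, k⟩
    rw [hc] at h
    exact noSimple_of_validB (5261 + i) kind p a q m k h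

end Cfsg.Agent.Lib.Helper91.SO2
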