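import Mathlib
import Cfsg.Agent.Lib.Helper91.SO2Exc

set_option autoImplicit false

/-!
# Certificates for the orders `5585` to `5908`

Each order in this range, apart from the exceptional ones, is excluded by one of the rules of
`Cfsg.Agent.Lib.Helper93.SO.validB`.
-/

namespace Cfsg.Agent.Lib.Helper91.SO2

open Cfsg.Agent.Lib.Helper93.SO

universe u

/-- the certificates for the orders `5585` to `5908` -/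
def certs6 : List (ℕ × ℕ × ℕ × ℕ × ℕ × ℕ) :=
  [(0, 5, 1, 1117, 1, 0), (1, 0, 0, 0, 0, 0), (0, 37, 1, 151, 1, 0), (1, 0, 0, 0, 0, 0),
   (0, 3, 5, 23, 1, 0), (1, 0, 0, 0, 0, 0), (0, 5591, 1, 2, 0, 0), (2, 233, 1, 2, 24, 0),
   (2, 17, 1, 7, 329, 0), (0, 2, 1, 2797, 1, 0), (2, 5, 1, 3, 1119, 0), (0, 2, 2, 1399, 1, 0),
   (0, 29, 1, 193, 1, 0), (1, 0, 0, 0, 0, 0), (0, 11, 1, 509, 1, 0), (3, 7, 1, 2, 800, 0),
   (0, 3, 1, 1867, 1, 0), (0, 2, 1, 2801, 1, 0), (0, 13, 1, 431, 1, 0), (2, 467, 1, 2, 12, 0),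
   (2, 19, 1, 5, 295, 0), (0, 2, 1, 2803, 1, 0), (2, 3, 2, 7, 623, 0), (0, 2, 3, 701, 1, 0),
   (0, 71, 1, 79, 1, 0), (1, 0, 0, 0, 0, 0), (0, 31, 1, 181, 1, 0), (1, 0, 0, 0, 0, 0),
   (0, 3, 1, 1871, 1, 0), (1, 0, 0, 0, 0, 0), (0, 5, 1, 1123, 1, 0), (9, 0, 0, 0, 0, 0),
   (0, 41, 1, 137, 1, 0), (0, 2, 1, 53, 2, 0), (0, 3, 1, 1873, 1, 0), (1, 0, 0, 0, 0, 0),
   (2, 7, 1, 11, 803, 0), (1, 0, 0, 0, 0, 0), (0, 5623, 1, 2, 0, 0), (1, 0, 0, 0, 0, 0),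
   (0, 3, 2, 5, 4, 0), (1, 0, 0, 0, 0, 0), (0, 17, 1, 331, 1, 0), (2, 67, 1, 2, 84, 0),
   (0, 13, 1, 433, 1, 0), (1, 0, 0, 0, 0, 0), (0, 3, 1, 1877, 1, 0), (0, 2, 9, 11, 1, 0),
   (0, 43, 1, 131, 1, 0), (1, 0, 0, 0, 0, 0), (2, 7, 2, 5, 115, 0), (0, 2, 2, 1409, 1, 0),
   (0, 3, 1, 1879, 1, 0), (0, 2, 1, 2819, 1, 0), (0, 5639, 1, 2, 0, 0), (2, 47, 1, 2, 120, 0),
   (0, 5641, 1, 2, 0, 0), (1, 0, 0, 0, 0, 0), (2, 11, 1, 3, 513, 0), (1, 0, 0, 0, 0, 0),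
   (0, 5, 1, 1129, 1, 0), (1, 0, 0, 0, 0, 0), (0, 5647, 1, 2, 0, 0), (0, 2, 4, 353, 1, 0),
   (2, 3, 1, 7, 1883, 0), (1, 0, 0, 0, 0, 0), (0, 5651, 1, 2, 0, 0), (2, 157, 1, 2, 36, 0),
   (0, 5653, 1, 2, 0, 0), (1, 0, 0, 0, 0, 0), (2, 13, 1, 3, 435, 0), (2, 7, 1, 2, 808, 0),
   (0, 5657, 1, 2, 0, 0), (1, 0, 0, 0, 0, 0), (0, 5659, 1, 2, 0, 0), (1, 0, 0, 0, 0, 0),
   (2, 17, 1, 3, 333, 0), (1, 0, 0, 0, 0, 0), (0, 7, 1, 809, 1, 0), (2, 59, 1, 2, 96, 0),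
   (2, 5, 1, 11, 1133, 0), (0, 2, 1, 2833, 1, 0), (0, 3, 1, 1889, 1, 0), (1, 0, 0, 0, 0, 0),
   (0, 5669, 1, 2, 0, 0), (1, 0, 0, 0, 0, 0), (0, 53, 1, 107, 1, 0), (0, 2, 3, 709, 1, 0),
   (2, 31, 1, 3, 183, 0), (0, 2, 1, 2837, 1, 0), (0, 5, 2, 227, 1, 0), (2, 11, 1, 2, 516, 0),
   (0, 7, 1, 811, 1, 0), (1, 0, 0, 0, 0, 0), (0, 3, 2, 631, 1, 0), (2, 71, 1, 2, 80, 0),
   (2, 13, 1, 19, 437, 0), (1, 0, 0, 0, 0, 0), (0, 5683, 1, 2, 0, 0), (1, 0, 0, 0, 0, 0),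
   (2, 5, 1, 3, 1137, 0), (0, 2, 1, 2843, 1, 0), (0, 11, 2, 47, 1, 0), (2, 79, 1, 2, 72, 0),
   (0, 5689, 1, 2, 0, 0), (1, 0, 0, 0, 0, 0), (2, 271, 1, 3, 21, 0), (0, 2, 2, 1423, 1, 0),
   (0, 5693, 1, 2, 0, 0), (1, 0, 0, 0, 0, 0), (2, 5, 1, 17, 1139, 0), (0, 2, 6, 89, 1, 0),
   (0, 3, 3, 211, 1, 0), (1, 0, 0, 0, 0, 0), (0, 41, 1, 139, 1, 0), (3, 19, 1, 2, 300, 0),
   (0, 5701, 1, 2, 0, 0), (0, 2, 1, 2851, 1, 0), (0, 3, 1, 1901, 1, 0), (1, 0, 0, 0, 0, 0),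
   (2, 7, 1, 5, 815, 0), (1, 0, 0, 0, 0, 0), (0, 13, 1, 439, 1, 0), (0, 2, 2, 1427, 1, 0),
   (2, 11, 1, 3, 519, 0), (1, 0, 0, 0, 0, 0), (0, 5711, 1, 2, 0, 0), (2, 17, 1, 2, 336, 0),
   (0, 29, 1, 197, 1, 0), (0, 2, 1, 2857, 1, 0), (2, 127, 1, 3, 45, 0), (0, 2, 2, 1429, 1, 0),
   (0, 5717, 1, 2, 0, 0), (1, 0, 0, 0, 0, 0), (2, 19, 1, 7, 301, 0), (1, 0, 0, 0, 0, 0),
   (0, 3, 1, 1907, 1, 0), (0, 2, 1, 2861, 1, 0), (0, 59, 1, 97, 1, 0), (3, 53, 1, 2, 108, 0),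
   (0, 5, 2, 229, 1, 0), (1, 0, 0, 0, 0, 0), (2, 23, 1, 3, 249, 0), (0, 2, 5, 179, 1, 0),
   (0, 17, 1, 337, 1, 0), (1, 0, 0, 0, 0, 0), (0, 11, 1, 521, 1, 0), (0, 2, 2, 1433, 1, 0),
   (2, 7, 2, 3, 117, 0), (1, 0, 0, 0, 0, 0), (2, 5, 1, 31, 1147, 0), (2, 239, 1, 2, 24, 0),
   (0, 5737, 1, 2, 0, 0), (1, 0, 0, 0, 0, 0), (0, 3, 1, 1913, 1, 0), (1, 0, 0, 0, 0, 0),
   (0, 5741, 1, 2, 0, 0), (1, 0, 0, 0, 0, 0), (0, 5743, 1, 2, 0, 0), (0, 2, 4, 359, 1, 0),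
   (2, 5, 1, 3, 1149, 0), (1, 0, 0, 0, 0, 0), (0, 7, 1, 821, 1, 0), (2, 479, 1, 2, 12, 0),
   (0, 5749, 1, 2, 0, 0), (1, 0, 0, 0, 0, 0), (0, 3, 4, 71, 1, 0), (0, 2, 3, 719, 1, 0),
   (0, 11, 1, 523, 1, 0), (1, 0, 0, 0, 0, 0), (0, 5, 1, 1151, 1, 0), (0, 2, 2, 1439, 1, 0),
   (2, 3, 1, 19, 1919, 0), (0, 2, 1, 2879, 1, 0), (0, 13, 1, 443, 1, 0), (9, 0, 0, 0, 0, 0),
   (0, 7, 1, 823, 1, 0), (1, 0, 0, 0, 0, 0), (2, 17, 1, 3, 339, 0), (1, 0, 0, 0, 0, 0),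
   (0, 5, 1, 1153, 1, 0), (1, 0, 0, 0, 0, 0), (0, 73, 1, 79, 1, 0), (2, 7, 1, 2, 824, 0),
   (0, 3, 2, 641, 1, 0), (1, 0, 0, 0, 0, 0), (0, 29, 1, 199, 1, 0), (2, 37, 1, 2, 156, 0),
   (0, 23, 1, 251, 1, 0), (0, 2, 1, 2887, 1, 0), (2, 11, 1, 3, 525, 0), (0, 2, 4, 19, 2, 0),
   (0, 53, 1, 109, 1, 0), (1, 0, 0, 0, 0, 0), (0, 5779, 1, 2, 0, 0), (1, 0, 0, 0, 0, 0),
   (2, 41, 1, 3, 141, 0), (1, 0, 0, 0, 0, 0), (0, 5783, 1, 2, 0, 0), (2, 241, 1, 2, 24, 0),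
   (2, 5, 1, 13, 1157, 0), (1, 0, 0, 0, 0, 0), (0, 3, 2, 643, 1, 0), (0, 2, 2, 1447, 1, 0),
   (0, 7, 1, 827, 1, 0), (1, 0, 0, 0, 0, 0), (0, 5791, 1, 2, 0, 0), (0, 2, 5, 181, 1, 0),
   (0, 3, 1, 1931, 1, 0), (0, 2, 1, 2897, 1, 0), (2, 61, 1, 5, 95, 0), (2, 23, 1, 2, 252, 0),
   (2, 11, 1, 17, 527, 0), (1, 0, 0, 0, 0, 0), (0, 3, 1, 1933, 1, 0), (1, 0, 0, 0, 0, 0),
   (0, 5801, 1, 2, 0, 0), (1, 0, 0, 0, 0, 0), (0, 7, 1, 829, 1, 0), (0, 2, 2, 1451, 1, 0),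
   (2, 43, 1, 3, 135, 0), (0, 2, 1, 2903, 1, 0), (0, 5807, 1, 2, 0, 0), (2, 11, 2, 2, 48, 0),
   (0, 37, 1, 157, 1, 0), (1, 0, 0, 0, 0, 0), (2, 3, 1, 13, 1937, 0), (0, 2, 2, 1453, 1, 0),
   (0, 5813, 1, 2, 0, 0), (1, 0, 0, 0, 0, 0), (0, 5, 1, 1163, 1, 0), (0, 2, 3, 727, 1, 0),
   (2, 7, 1, 3, 831, 0), (0, 2, 1, 2909, 1, 0), (0, 11, 1, 23, 2, 0), (2, 97, 1, 2, 60, 0),
   (0, 5821, 1, 2, 0, 0), (1, 0, 0, 0, 0, 0), (0, 3, 2, 647, 1, 0), (3, 7, 1, 2, 832, 0),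
   (0, 5, 2, 233, 1, 0), (1, 0, 0, 0, 0, 0), (0, 5827, 1, 2, 0, 0), (1, 0, 0, 0, 0, 0),
   (2, 29, 1, 3, 201, 0), (1, 0, 0, 0, 0, 0), (0, 7, 3, 17, 1, 0), (0, 2, 3, 3, 6, 0),
   (0, 19, 1, 307, 1, 0), (0, 2, 1, 2917, 1, 0), (2, 5, 1, 3, 1167, 0), (0, 2, 2, 1459, 1, 0),
   (0, 13, 1, 449, 1, 0), (1, 0, 0, 0, 0, 0), (0, 5839, 1, 2, 0, 0), (2, 73, 1, 2, 80, 0),
   (2, 59, 1, 3, 99, 0), (1, 0, 0, 0, 0, 0), (0, 5843, 1, 2, 0, 0), (2, 487, 1, 2, 12, 0),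
   (2, 5, 1, 7, 1169, 0), (1, 0, 0, 0, 0, 0), (0, 3, 1, 1949, 1, 0), (1, 0, 0, 0, 0, 0),
   (0, 5849, 1, 2, 0, 0), (1, 0, 0, 0, 0, 0), (0, 5851, 1, 2, 0, 0), (1, 0, 0, 0, 0, 0),
   (0, 3, 1, 1951, 1, 0), (0, 2, 1, 2927, 1, 0), (0, 5, 1, 1171, 1, 0), (2, 61, 1, 2, 96, 0),
   (0, 5857, 1, 2, 0, 0), (1, 0, 0, 0, 0, 0), (2, 7, 1, 3, 837, 0), (1, 0, 0, 0, 0, 0),
   (0, 5861, 1, 2, 0, 0), (1, 0, 0, 0, 0, 0), (2, 11, 1, 13, 533, 0), (0, 2, 3, 733, 1, 0),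
   (2, 23, 1, 3, 255, 0), (1, 0, 0, 0, 0, 0), (0, 5867, 1, 2, 0, 0), (2, 163, 1, 2, 36, 0),
   (0, 5869, 1, 2, 0, 0), (1, 0, 0, 0, 0, 0), (2, 19, 1, 3, 309, 0), (0, 2, 4, 367, 1, 0),
   (0, 7, 1, 839, 1, 0), (1, 0, 0, 0, 0, 0), (0, 5, 3, 47, 1, 0), (1, 0, 0, 0, 0, 0),
   (0, 3, 2, 653, 1, 0), (0, 2, 1, 2939, 1, 0), (0, 5879, 1, 2, 0, 0), (9, 0, 0, 0, 0, 0),
   (0, 5881, 1, 2, 0, 0), (1, 0, 0, 0, 0, 0), (2, 3, 1, 37, 1961, 0), (0, 2, 2, 1471, 1, 0),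
   (2, 5, 1, 11, 1177, 0), (1, 0, 0, 0, 0, 0), (0, 7, 1, 29, 2, 0), (0, 2, 8, 23, 1, 0),
   (2, 13, 1, 3, 453, 0), (1, 0, 0, 0, 0, 0), (0, 43, 1, 137, 1, 0), (2, 491, 1, 2, 12, 0),
   (0, 71, 1, 83, 1, 0), (1, 0, 0, 0, 0, 0), (2, 131, 1, 3, 45, 0), (1, 0, 0, 0, 0, 0),
   (0, 5897, 1, 2, 0, 0), (1, 0, 0, 0, 0, 0), (0, 17, 1, 347, 1, 0), (1, 0, 0, 0, 0, 0),
   (2, 3, 1, 7, 1967, 0), (1, 0, 0, 0, 0, 0), (0, 5903, 1, 2, 0, 0), (2, 41, 1, 2, 144, 0),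
   (0, 5, 1, 1181, 1, 0), (0, 2, 1, 2953, 1, 0), (2, 11, 1, 3, 537, 0), (1, 0, 0, 0, 0, 0)]

/-- the certificate of the order `5585 + i` is valid, or the order is exceptional -/
def certOK6 (i : ℕ) : Bool :=
  excB2 (5585 + i) || (match certs6.getD i (9, 0, 0, 0, 0, 0) with
    | (kind, p, a, q, m, k) => validB (5585 + i) kind p a q m k)

set_option maxRecDepth 100000 in
theorem certs6_ok_0 : (List.range' 0 27).all certOK6 = true := by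
  decide +kernel

set_option maxRecDepth 100000 in
theorem certs6_ok_1 : (List.range' 27 27).all certOK6 = true := by
  decide +kernel

set_option maxRecDepth 100000 in
theorem certs6_ok_2 : (List.range' 54 27).all certOK6 = true := by
  decide +kernel

set_option maxRecDepth 100000 in
theorem certs6_ok_3 : (List.range' 81 27).all certOK6 = true := by
  decide +kernel

set_option maxRecDepth 100000 in
theorem certs6_ok_4 : (List.range' 108 27).all certOK6 = true := by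
  decide +kernel

set_option maxRecDepth 100000 in
theorem certs6_ok_5 : (List.range' 135 27).all certOK6 = true := by
  decide +kernel

set_option maxRecDepth 100000 in
theorem certs6_ok_6 : (List.range' 162 27).all certOK6 = true := by
  decide +kernel

set_option maxRecDepth 100000 in
theorem certs6_ok_7 : (List.range' 189 27).all certOK6 = true := by
  decide +kernel

set_option maxRecDepth 100000 in
theorem certs6_ok_8 : (List.range' 216 27).all certOK6 = true := by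
  decide +kernel

set_option maxRecDepth 100000 in
theorem certs6_ok_9 : (List.range' 243 27).all certOK6 = true := by
  decide +kernel

set_option maxRecDepth 100000 in
theorem certs6_ok_10 : (List.range' 270 27).all certOK6 = true := by
  decide +kernel

set_option maxRecDepth 100000 in
theorem certs6_ok_11 : (List.range' 297 27).all certOK6 = true := by
  decide +kernel

theorem certs6_ok : (List.range 324).all certOK6 = true := by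
  rw [List.all_eq_true]
  intro i hi
  rw [List.mem_range] at hi
  have hk : i / 27 < 12 := by omega
  interval_cases hk' : i / 27
  · exact List.all_eq_true.mp certs6_ok_0 i (List.mem_range'_1.mpr ⟨by omega, by omega⟩)
  · exact List.all_eq_true.mp certs6_ok_1 i (List.mem_range'_1.mpr ⟨by omega, by omega⟩)
  · exact List.all_eq_true.mp certs6_ok_2 i (List.mem_range'_1.mpr ⟨by omega, by omega⟩)
  · exact List.all_eq_true.mp certs6_ok_3 i (List.mem_range'_1.mpr ⟨by omega, by omega⟩)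
  · exact List.all_eq_true.mp certs6_ok_4 i (List.mem_range'_1.mpr ⟨by omega, by omega⟩)
  · exact List.all_eq_true.mp certs6_ok_5 i (List.mem_range'_1.mpr ⟨by omega, by omega⟩)
  · exact List.all_eq_true.mp certs6_ok_6 i (List.mem_range'_1.mpr ⟨by omega, by omega⟩)
  · exact List.all_eq_true.mp certs6_ok_7 i (List.mem_range'_1.mpr ⟨by omega, by omega⟩)
  · exact List.all_eq_true.mp certs6_ok_8 i (List.mem_range'_1.mpr ⟨by omega, by omega⟩)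
  · exact List.all_eq_true.mp certs6_ok_9 i (List.mem_range'_1.mpr ⟨by omega, by omega⟩)
  · exact List.all_eq_true.mp certs6_ok_10 i (List.mem_range'_1.mpr ⟨by omega, by omega⟩)
  · exact List.all_eq_true.mp certs6_ok_11 i (List.mem_range'_1.mpr ⟨by omega, by omega⟩)

theorem sweep6 (n : ℕ) (h1 : 5585 ≤ n) (h2 : n ≤ 5908) (hex : excB2 n = false) :
    NoSimple.{u} n := by
  obtain ⟨i, rfl⟩ : ∃ i, n = 5585 + i := ⟨n - 5585, by omega⟩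
  have h := List.all_eq_true.mp certs6_ok i (List.mem_range.mpr (by omega))
  unfold certOK6 at h
  rw [Bool.or_eq_true] at h
  rcases h with h | h
  · rw [hex] at h
    exact absurd h (by decide)
  · rcases hc : certs6.getD i (9, 0, 0, 0, 0, 0) with ⟨kind, p, a, q, m, k⟩
    rw [hc] at h
    exact noSimple_of_validB (5585 + i) kind p a q m k h

end Cfsg.Agent.Lib.Helper91.SO2
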