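import Mathlib
import Cfsg.Agent.Lib.Helper91.SO2Exc

set_option autoImplicit false

/-!
# Certificates for the orders `5909` to `6232`

Each order in this range, apart from the exceptional ones, is excluded by one of the rules of
`Cfsg.Agent.Lib.Helper93.SO.validB`.
-/

namespace Cfsg.Agent.Lib.Helper91.SO2

open Cfsg.Agent.Lib.Helper93.SO

universe u

/-- the certificates for the orders `5909` to `6232` -/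
def certs7 : List (ℕ × ℕ × ℕ × ℕ × ℕ × ℕ) :=
  [(0, 19, 1, 311, 1, 0), (1, 0, 0, 0, 0, 0), (0, 23, 1, 257, 1, 0), (0, 2, 3, 739, 1, 0),
   (0, 3, 4, 73, 1, 0), (0, 2, 1, 2957, 1, 0), (2, 13, 2, 5, 35, 0), (2, 17, 1, 2, 348, 0),
   (0, 61, 1, 97, 1, 0), (1, 0, 0, 0, 0, 0), (0, 3, 1, 1973, 1, 0), (2, 37, 1, 2, 160, 0),
   (0, 31, 1, 191, 1, 0), (1, 0, 0, 0, 0, 0), (0, 5923, 1, 2, 0, 0), (0, 2, 2, 1481, 1, 0),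
   (2, 5, 2, 3, 237, 0), (0, 2, 1, 2963, 1, 0), (0, 5927, 1, 2, 0, 0), (3, 13, 1, 2, 456, 0),
   (0, 7, 2, 11, 2, 0), (1, 0, 0, 0, 0, 0), (0, 3, 2, 659, 1, 0), (0, 2, 2, 1483, 1, 0),
   (0, 17, 1, 349, 1, 0), (1, 0, 0, 0, 0, 0), (0, 5, 1, 1187, 1, 0), (2, 53, 1, 2, 112, 0),
   (0, 3, 1, 1979, 1, 0), (0, 2, 1, 2969, 1, 0), (0, 5939, 1, 2, 0, 0), (9, 0, 0, 0, 0, 0),
   (0, 13, 1, 457, 1, 0), (0, 2, 1, 2971, 1, 0), (2, 7, 1, 3, 849, 0), (0, 2, 3, 743, 1, 0),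
   (2, 29, 1, 5, 205, 0), (1, 0, 0, 0, 0, 0), (0, 19, 1, 313, 1, 0), (0, 2, 2, 1487, 1, 0),
   (0, 3, 2, 661, 1, 0), (1, 0, 0, 0, 0, 0), (0, 11, 1, 541, 1, 0), (3, 31, 1, 2, 192, 0),
   (0, 5953, 1, 2, 0, 0), (1, 0, 0, 0, 0, 0), (2, 397, 1, 3, 15, 0), (0, 2, 2, 1489, 1, 0),
   (2, 7, 1, 23, 851, 0), (1, 0, 0, 0, 0, 0), (0, 59, 1, 101, 1, 0), (1, 0, 0, 0, 0, 0),
   (0, 3, 1, 1987, 1, 0), (1, 0, 0, 0, 0, 0), (0, 67, 1, 89, 1, 0), (2, 71, 1, 2, 84, 0),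
   (0, 5, 1, 1193, 1, 0), (1, 0, 0, 0, 0, 0), (2, 3, 3, 13, 221, 0), (0, 2, 4, 373, 1, 0),
   (0, 47, 1, 127, 1, 0), (1, 0, 0, 0, 0, 0), (0, 7, 1, 853, 1, 0), (0, 2, 2, 1493, 1, 0),
   (2, 11, 1, 3, 543, 0), (1, 0, 0, 0, 0, 0), (0, 5, 2, 239, 1, 0), (2, 83, 1, 2, 72, 0),
   (0, 43, 1, 139, 1, 0), (1, 0, 0, 0, 0, 0), (0, 3, 1, 1993, 1, 0), (1, 0, 0, 0, 0, 0),
   (0, 5981, 1, 2, 0, 0), (1, 0, 0, 0, 0, 0), (0, 31, 1, 193, 1, 0), (2, 17, 1, 2, 352, 0),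
   (2, 19, 1, 3, 315, 0), (1, 0, 0, 0, 0, 0), (0, 5987, 1, 2, 0, 0), (2, 499, 1, 2, 12, 0),
   (0, 53, 1, 113, 1, 0), (1, 0, 0, 0, 0, 0), (0, 3, 1, 1997, 1, 0), (2, 107, 1, 2, 56, 0),
   (0, 13, 1, 461, 1, 0), (1, 0, 0, 0, 0, 0), (2, 5, 1, 11, 1199, 0), (0, 2, 2, 1499, 1, 0),
   (0, 3, 1, 1999, 1, 0), (0, 2, 1, 2999, 1, 0), (0, 7, 1, 857, 1, 0), (4, 5, 3, 2, 48, 2),
   (0, 17, 1, 353, 1, 0), (0, 2, 1, 3001, 1, 0), (2, 23, 1, 3, 261, 0), (1, 0, 0, 0, 0, 0),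
   (0, 5, 1, 1201, 1, 0), (1, 0, 0, 0, 0, 0), (0, 6007, 1, 2, 0, 0), (0, 2, 3, 751, 1, 0),
   (0, 3, 1, 2003, 1, 0), (1, 0, 0, 0, 0, 0), (0, 6011, 1, 2, 0, 0), (2, 167, 1, 2, 36, 0),
   (0, 7, 1, 859, 1, 0), (1, 0, 0, 0, 0, 0), (2, 401, 1, 3, 15, 0), (0, 2, 7, 47, 1, 0),
   (0, 11, 1, 547, 1, 0), (1, 0, 0, 0, 0, 0), (0, 13, 1, 463, 1, 0), (1, 0, 0, 0, 0, 0),
   (0, 3, 3, 223, 1, 0), (0, 2, 1, 3011, 1, 0), (0, 19, 1, 317, 1, 0), (2, 251, 1, 2, 24, 0),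
   (0, 5, 2, 241, 1, 0), (1, 0, 0, 0, 0, 0), (2, 7, 2, 3, 123, 0), (1, 0, 0, 0, 0, 0),
   (0, 6029, 1, 2, 0, 0), (1, 0, 0, 0, 0, 0), (0, 37, 1, 163, 1, 0), (2, 13, 1, 2, 464, 0),
   (0, 3, 1, 2011, 1, 0), (1, 0, 0, 0, 0, 0), (2, 17, 1, 5, 355, 0), (2, 503, 1, 2, 12, 0),
   (0, 6037, 1, 2, 0, 0), (0, 2, 1, 3019, 1, 0), (2, 11, 1, 3, 549, 0), (1, 0, 0, 0, 0, 0),
   (0, 7, 1, 863, 1, 0), (1, 0, 0, 0, 0, 0), (0, 6043, 1, 2, 0, 0), (0, 2, 2, 1511, 1, 0),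
   (2, 13, 1, 3, 465, 0), (0, 2, 1, 3023, 1, 0), (0, 6047, 1, 2, 0, 0), (9, 0, 0, 0, 0, 0),
   (0, 23, 1, 263, 1, 0), (1, 0, 0, 0, 0, 0), (0, 3, 1, 2017, 1, 0), (1, 0, 0, 0, 0, 0),
   (0, 6053, 1, 2, 0, 0), (1, 0, 0, 0, 0, 0), (2, 7, 1, 5, 865, 0), (0, 2, 3, 757, 1, 0),
   (0, 3, 2, 673, 1, 0), (1, 0, 0, 0, 0, 0), (0, 73, 1, 83, 1, 0), (2, 101, 1, 2, 60, 0),
   (2, 19, 1, 11, 319, 0), (1, 0, 0, 0, 0, 0), (2, 3, 1, 43, 2021, 0), (0, 2, 4, 379, 1, 0),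
   (0, 5, 1, 1213, 1, 0), (1, 0, 0, 0, 0, 0), (0, 6067, 1, 2, 0, 0), (1, 0, 0, 0, 0, 0),
   (2, 7, 1, 3, 867, 0), (1, 0, 0, 0, 0, 0), (0, 13, 1, 467, 1, 0), (9, 0, 0, 0, 0, 0),
   (0, 6073, 1, 2, 0, 0), (0, 2, 1, 3037, 1, 0), (0, 3, 5, 5, 2, 0), (1, 0, 0, 0, 0, 0),
   (0, 59, 1, 103, 1, 0), (1, 0, 0, 0, 0, 0), (0, 6079, 1, 2, 0, 0), (3, 19, 1, 2, 320, 0),
   (0, 3, 1, 2027, 1, 0), (0, 2, 1, 3041, 1, 0), (2, 11, 1, 7, 553, 0), (2, 13, 2, 2, 36, 0),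
   (0, 5, 1, 1217, 1, 0), (1, 0, 0, 0, 0, 0), (0, 3, 1, 2029, 1, 0), (0, 2, 3, 761, 1, 0),
   (0, 6089, 1, 2, 0, 0), (1, 0, 0, 0, 0, 0), (0, 6091, 1, 2, 0, 0), (0, 2, 2, 1523, 1, 0),
   (0, 3, 2, 677, 1, 0), (1, 0, 0, 0, 0, 0), (2, 5, 1, 23, 1219, 0), (2, 127, 1, 2, 48, 0),
   (2, 7, 1, 13, 871, 0), (0, 2, 1, 3049, 1, 0), (2, 3, 1, 19, 2033, 0), (1, 0, 0, 0, 0, 0),
   (0, 6101, 1, 2, 0, 0), (1, 0, 0, 0, 0, 0), (0, 17, 1, 359, 1, 0), (2, 109, 1, 2, 56, 0),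
   (2, 37, 1, 3, 165, 0), (1, 0, 0, 0, 0, 0), (0, 31, 1, 197, 1, 0), (2, 509, 1, 2, 12, 0),
   (0, 41, 1, 149, 1, 0), (1, 0, 0, 0, 0, 0), (2, 7, 1, 3, 873, 0), (0, 2, 5, 191, 1, 0),
   (0, 6113, 1, 2, 0, 0), (1, 0, 0, 0, 0, 0), (0, 5, 1, 1223, 1, 0), (1, 0, 0, 0, 0, 0),
   (0, 3, 1, 2039, 1, 0), (1, 0, 0, 0, 0, 0), (0, 29, 1, 211, 1, 0), (3, 17, 1, 2, 360, 0),
   (0, 6121, 1, 2, 0, 0), (0, 2, 1, 3061, 1, 0), (2, 157, 1, 3, 39, 0), (0, 2, 2, 1531, 1, 0),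
   (0, 5, 3, 7, 2, 0), (1, 0, 0, 0, 0, 0), (0, 11, 1, 557, 1, 0), (0, 2, 4, 383, 1, 0),
   (0, 3, 3, 227, 1, 0), (1, 0, 0, 0, 0, 0), (0, 6131, 1, 2, 0, 0), (2, 73, 1, 2, 84, 0),
   (0, 6133, 1, 2, 0, 0), (0, 2, 1, 3067, 1, 0), (2, 5, 1, 3, 1227, 0), (1, 0, 0, 0, 0, 0),
   (0, 17, 1, 19, 2, 0), (1, 0, 0, 0, 0, 0), (0, 7, 1, 877, 1, 0), (1, 0, 0, 0, 0, 0),
   (2, 23, 1, 3, 267, 0), (1, 0, 0, 0, 0, 0), (0, 6143, 1, 2, 0, 0), (0, 2, 11, 3, 1, 0),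
   (0, 5, 1, 1229, 1, 0), (1, 0, 0, 0, 0, 0), (0, 3, 2, 683, 1, 0), (1, 0, 0, 0, 0, 0),
   (2, 11, 1, 13, 559, 0), (1, 0, 0, 0, 0, 0), (0, 6151, 1, 2, 0, 0), (0, 2, 3, 769, 1, 0),
   (2, 3, 1, 7, 2051, 0), (1, 0, 0, 0, 0, 0), (0, 5, 1, 1231, 1, 0), (3, 19, 1, 2, 324, 0),
   (0, 47, 1, 131, 1, 0), (0, 2, 1, 3079, 1, 0), (0, 3, 1, 2053, 1, 0), (3, 5, 1, 2, 1232, 0),
   (0, 61, 1, 101, 1, 0), (1, 0, 0, 0, 0, 0), (0, 6163, 1, 2, 0, 0), (1, 0, 0, 0, 0, 0),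
   (2, 137, 1, 3, 45, 0), (0, 2, 1, 3083, 1, 0), (0, 7, 1, 881, 1, 0), (2, 257, 1, 2, 24, 0),
   (0, 31, 1, 199, 1, 0), (1, 0, 0, 0, 0, 0), (2, 11, 2, 3, 51, 0), (0, 2, 2, 1543, 1, 0),
   (0, 6173, 1, 2, 0, 0), (1, 0, 0, 0, 0, 0), (2, 5, 2, 13, 247, 0), (0, 2, 5, 193, 1, 0),
   (2, 29, 1, 3, 213, 0), (0, 2, 1, 3089, 1, 0), (0, 37, 1, 167, 1, 0), (2, 103, 1, 2, 60, 0),
   (0, 7, 1, 883, 1, 0), (1, 0, 0, 0, 0, 0), (0, 3, 3, 229, 1, 0), (0, 2, 3, 773, 1, 0),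
   (0, 5, 1, 1237, 1, 0), (1, 0, 0, 0, 0, 0), (0, 23, 1, 269, 1, 0), (1, 0, 0, 0, 0, 0),
   (0, 3, 1, 2063, 1, 0), (1, 0, 0, 0, 0, 0), (0, 41, 1, 151, 1, 0), (2, 43, 1, 2, 144, 0),
   (0, 11, 1, 563, 1, 0), (1, 0, 0, 0, 0, 0), (2, 5, 1, 3, 1239, 0), (0, 2, 2, 1549, 1, 0),
   (0, 6197, 1, 2, 0, 0), (1, 0, 0, 0, 0, 0), (0, 6199, 1, 2, 0, 0), (1, 0, 0, 0, 0, 0),
   (2, 3, 2, 13, 689, 0), (1, 0, 0, 0, 0, 0), (0, 6203, 1, 2, 0, 0), (2, 47, 1, 2, 132, 0),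
   (2, 17, 1, 5, 365, 0), (1, 0, 0, 0, 0, 0), (0, 3, 1, 2069, 1, 0), (0, 2, 6, 97, 1, 0),
   (0, 7, 1, 887, 1, 0), (1, 0, 0, 0, 0, 0), (0, 6211, 1, 2, 0, 0), (0, 2, 2, 1553, 1, 0),
   (2, 19, 1, 3, 327, 0), (1, 0, 0, 0, 0, 0), (2, 5, 1, 11, 1243, 0), (2, 37, 1, 2, 168, 0),
   (0, 6217, 1, 2, 0, 0), (0, 2, 1, 3109, 1, 0), (0, 3, 2, 691, 1, 0), (1, 0, 0, 0, 0, 0),
   (0, 6221, 1, 2, 0, 0), (1, 0, 0, 0, 0, 0), (0, 7, 2, 127, 1, 0), (0, 2, 4, 389, 1, 0),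
   (2, 5, 2, 3, 249, 0), (1, 0, 0, 0, 0, 0), (0, 13, 1, 479, 1, 0), (2, 173, 1, 2, 36, 0),
   (0, 6229, 1, 2, 0, 0), (1, 0, 0, 0, 0, 0), (2, 31, 1, 3, 201, 0), (1, 0, 0, 0, 0, 0)]

/-- the certificate of the order `5909 + i` is valid, or the order is exceptional -/
def certOK7 (i : ℕ) : Bool :=
  excB2 (5909 + i) || (match certs7.getD i (9, 0, 0, 0, 0, 0) with
    | (kind, p, a, q, m, k) => validB (5909 + i) kind p a q m k)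

set_option maxRecDepth 100000 in
theorem certs7_ok_0 : (List.range' 0 27).all certOK7 = true := by
  decide +kernel

set_option maxRecDepth 100000 in
theorem certs7_ok_1 : (List.range' 27 27).all certOK7 = true := by
  decide +kernel

set_option maxRecDepth 100000 in
theorem certs7_ok_2 : (List.range' 54 27).all certOK7 = true := by
  decide +kernel

set_option maxRecDepth 100000 in
theorem certs7_ok_3 : (List.range' 81 27).all certOK7 = true := by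
  decide +kernel

set_option maxRecDepth 100000 in
theorem certs7_ok_4 : (List.range' 108 27).all certOK7 = true := by
  decide +kernel

set_option maxRecDepth 100000 in
theorem certs7_ok_5 : (List.range' 135 27).all certOK7 = true := by
  decide +kernel

set_option maxRecDepth 100000 in
theorem certs7_ok_6 : (List.range' 162 27).all certOK7 = true := by
  decide +kernel

set_option maxRecDepth 100000 in
theorem certs7_ok_7 : (List.range' 189 27).all certOK7 = true := by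
  decide +kernel

set_option maxRecDepth 100000 in
theorem certs7_ok_8 : (List.range' 216 27).all certOK7 = true := by
  decide +kernel

set_option maxRecDepth 100000 in
theorem certs7_ok_9 : (List.range' 243 27).all certOK7 = true := by
  decide +kernel

set_option maxRecDepth 100000 in
theorem certs7_ok_10 : (List.range' 270 27).all certOK7 = true := by
  decide +kernel

set_option maxRecDepth 100000 in
theorem certs7_ok_11 : (List.range' 297 27).all certOK7 = true := by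
  decide +kernel

theorem certs7_ok : (List.range 324).all certOK7 = true := by
  rw [List.all_eq_true]
  intro i hi
  rw [List.mem_range] at hi
  have hk : i / 27 < 12 := by omega
  interval_cases hk' : i / 27
  · exact List.all_eq_true.mp certs7_ok_0 i (List.mem_range'_1.mpr ⟨by omega, by omega⟩)
  · exact List.all_eq_true.mp certs7_ok_1 i (List.mem_range'_1.mpr ⟨by omega, by omega⟩)
  · exact List.all_eq_true.mp certs7_ok_2 i (List.mem_range'_1.mpr ⟨by omega, by omega⟩)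
  · exact List.all_eq_true.mp certs7_ok_3 i (List.mem_range'_1.mpr ⟨by omega, by omega⟩)
  · exact List.all_eq_true.mp certs7_ok_4 i (List.mem_range'_1.mpr ⟨by omega, by omega⟩)
  · exact List.all_eq_true.mp certs7_ok_5 i (List.mem_range'_1.mpr ⟨by omega, by omega⟩)
  · exact List.all_eq_true.mp certs7_ok_6 i (List.mem_range'_1.mpr ⟨by omega, by omega⟩)
  · exact List.all_eq_true.mp certs7_ok_7 i (List.mem_range'_1.mpr ⟨by omega, by omega⟩)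
  · exact List.all_eq_true.mp certs7_ok_8 i (List.mem_range'_1.mpr ⟨by omega, by omega⟩)
  · exact List.all_eq_true.mp certs7_ok_9 i (List.mem_range'_1.mpr ⟨by omega, by omega⟩)
  · exact List.all_eq_true.mp certs7_ok_10 i (List.mem_range'_1.mpr ⟨by omega, by omega⟩)
  · exact List.all_eq_true.mp certs7_ok_11 i (List.mem_range'_1.mpr ⟨by omega, by omega⟩)

theorem sweep7 (n : ℕ) (h1 : 5909 ≤ n) (h2 : n ≤ 6232) (hex : excB2 n = false) :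
    NoSimple.{u} n := by
  obtain ⟨i, rfl⟩ : ∃ i, n = 5909 + i := ⟨n - 5909, by omega⟩
  have h := List.all_eq_true.mp certs7_ok i (List.mem_range.mpr (by omega))
  unfold certOK7 at h
  rw [Bool.or_eq_true] at h
  rcases h with h | h
  · rw [hex] at h
    exact absurd h (by decide)
  · rcases hc : certs7.getD i (9, 0, 0, 0, 0, 0) with ⟨kind, p, a, q, m, k⟩
    rw [hc] at h
    exact noSimple_of_validB (5909 + i) kind p a q m k h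

end Cfsg.Agent.Lib.Helper91.SO2
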